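import Cfsg.Agent.Lib.Fus.U62Module.Torus

/-!
The twenty-dimensional module of `U₆(2)`: a basis in which the monomial elements act as in the model.
-/

set_option autoImplicit false
set_option maxRecDepth 100000
set_option linter.unusedSectionVars false

namespace Cfsg.Agent.Fus.U62Module

open Cfsg.Agent.Invol.ExtraEight (app mu comb comb_zero comb_xor)

/-- The index of a partition among the functionals. -/
def ln (P : Fin 10) : Fin 41 := Fin.castLE (by norm_num) P

/-- A multiple of a torus element. -/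
def sc (j : ZMod 3) (t : Ti) : Ti := (j * t.1, j * t.2.1, j * t.2.2.1, j * t.2.2.2)

/-- The chosen element of weight one of a partition. -/
def du (P : Fin 10) : Ti := duTab.getD P 0

/-- The exchange of the two triples of the first partition. -/
def swapW : Equiv.Perm (Fin 6) := Equiv.swap 0 3 * Equiv.swap 1 4 * Equiv.swap 2 5

/-- The generators of the stabiliser of the first partition. -/
def stabGen : List (Equiv.Perm (Fin 6)) :=
  [Equiv.swap 0 1, Equiv.swap 1 2, Equiv.swap 3 4, Equiv.swap 4 5]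

/-- The six permutations of a triple from two adjacent exchanges. -/
def six (s t : Equiv.Perm (Fin 6)) : List (List (Equiv.Perm (Fin 6))) :=
  [[], [s], [t], [s, t], [t, s], [s, t, s]]

/-- The stabiliser of the first partition, as products. -/
def stabList : List (List (Equiv.Perm (Fin 6))) :=
  (six (Equiv.swap 0 1) (Equiv.swap 1 2)).flatMap fun a => (six (Equiv.swap 3 4) (Equiv.swap 4 5)).flatMap fun b =>
    [a ++ b, a ++ b ++ [swapW]]

/-- The permutation carrying the first partition to a partition. -/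
def piP (P : Fin 10) : Equiv.Perm (Fin 6) := permOf (owTab.getD P [])

/-- The image of a partition under a generating permutation. -/
def imgP (g : Bool) (P : Fin 10) : Fin 10 :=
  if g then ([9, 8, 7, 0, 6, 5, 1, 4, 2, 3] : List (Fin 10)).getD P 0
  else ([0, 1, 2, 3, 9, 8, 7, 6, 5, 4] : List (Fin 10)).getD P 0

/-- A generating permutation. -/
def genP (g : Bool) : Equiv.Perm (Fin 6) := if g then finRotate 6 else Equiv.swap 0 1

theorem du_dot : ∀ P : Fin 10, dotp (al (ln P)) (du P) = 1 := by decide +kernel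

theorem ln_ne : ∀ P : Fin 10, ln P ≠ 40 := by decide +kernel

theorem ln_lt (P : Fin 10) : (ln P : ℕ) < 10 := P.2

theorem stab_facts : ∀ π ∈ stabGen, (∀ t, cf (ln 0) (tact π t) = cf (ln 0) t) ∧
    dotp (al (ln 0)) (tact π (du 0)) = 1 ∧ π * π = 1 := by decide +kernel

theorem swap_facts : (∀ t, cf (ln 0) (tact swapW t) = cf (ln 0) t) ∧
    dotp (al (ln 0)) (tact swapW (du 0)) = 2 ∧ swapW * swapW = 1 := by decide +kernel

theorem piP_facts : ∀ P : Fin 10, ∀ t, cf (ln P) (tact (piP P) t) = cf (ln 0) t := by decide +kernel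

theorem genP_facts : ∀ g : Bool, ∀ P : Fin 10, ∀ t, cf (ln (imgP g P)) (tact (genP g) t) = cf (ln P) t := by
  decide +kernel

theorem genP_piP : ∀ g : Bool, ∀ P : Fin 10,
    ∃ l ∈ stabList, genP g * piP P = piP (imgP g P) * l.prod := by decide +kernel

theorem stabList_mem : ∀ l ∈ stabList, ∀ π ∈ l, π ∈ swapW :: stabGen := by decide +kernel

/-- A code of a multiple of a basis vector. -/
def cd (P : Fin 10) (j : ZMod 3) : ℕ := (j.val + 1) * 4 ^ (P : ℕ)

/-- The image of a basis vector under a torus element. -/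
def torImg (t : Ti) (k : Fin 20) : ℕ :=
  cd ⟨k / 2, by omega⟩ (dotp (al (ln ⟨k / 2, by omega⟩)) t + if (k : ℕ) % 2 = 0 then 0 else 1)

/-- The image of a basis vector under a generating permutation. -/
def permImg (g : Bool) (k : Fin 20) : ℕ :=
  cd (imgP g ⟨k / 2, by omega⟩) (if (k : ℕ) % 2 = 0 then 0 else
    dotp (al (ln (imgP g ⟨k / 2, by omega⟩))) (tact (genP g) (du ⟨k / 2, by omega⟩)))

/-- A torus element as a matrix. -/
def torMat (t : Ti) : List ℕ := List.ofFn (torImg t)

theorem gens_tor : gens.getD 0 idm = torMat (1, 0, 0, 0) ∧ gens.getD 1 idm = torMat (0, 1, 0, 0) ∧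
    gens.getD 2 idm = torMat (0, 0, 1, 0) ∧ gens.getD 3 idm = torMat (0, 0, 0, 1) := by decide +kernel

theorem gens_perm : gens.getD 4 idm = List.ofFn (permImg false) ∧
    gens.getD 5 idm = List.ofFn (permImg true) := by decide +kernel

theorem comb_bit {V : Type*} [AddCommGroup V] : ∀ (e : List V) (k : ℕ), comb e (2 ^ k) = e.getD k 0
  | [], k => rfl
  | x :: e, 0 => by simp [comb, comb_zero]
  | x :: e, k + 1 => by
    have h1 : 2 ^ (k + 1) % 2 = 0 := by simp [pow_succ]
    have h2 : 2 ^ (k + 1) / 2 = 2 ^ k := by simp [pow_succ]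
    simp [comb, h1, h2, comb_bit e k]

theorem comb_hom {V V' : Type*} [AddCommGroup V] [AddCommGroup V'] (f : V →+ V') : ∀ (e : List V) (v : ℕ),
    comb (e.map f) v = f (comb e v)
  | [], v => by simp [comb]
  | x :: e, v => by
    simp only [List.map_cons, comb, comb_hom f e, map_add]
    cases v % 2 == 1 <;> simp

theorem comb_code {V : Type*} [AddCommGroup V] (F : ℕ → V) (h0 : F 0 = 0)
    (hF : ∀ u v, F (u ^^^ v) = F u + F v) : ∀ (M : List ℕ) (v : ℕ), comb (M.map F) v = F (app M v)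
  | [], v => by simp [comb, app, h0]
  | x :: M, v => by
    simp only [List.map_cons, comb, app, comb_code F h0 hF M, hF]
    cases v % 2 == 1 <;> simp [h0]

theorem sc_zero (t : Ti) : sc 0 t = 0 := by simp [sc]

theorem sc_one (t : Ti) : sc 1 t = t := by simp [sc]

theorem sc_add (i j : ZMod 3) (t : Ti) : sc (i + j) t = sc i t + sc j t := by simp [sc, add_mul]

theorem sc_two (t : Ti) : sc 2 t = t + t := by
  rw [show (2 : ZMod 3) = 1 + 1 by decide, sc_add, sc_one]

theorem dotp_sc (a : Ti) (j : ZMod 3) (t : Ti) : dotp a (sc j t) = j * dotp a t := by simp [dotp, sc]; ring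

theorem ext_sc (j : ZMod 3) (t : Ti) (i : Fin 6) : ext (sc j t) i = j * ext t i := by
  fin_cases i <;> simp [ext, sc]; ring

theorem tact_sc (π : Equiv.Perm (Fin 6)) (j : ZMod 3) (t : Ti) : tact π (sc j t) = sc j (tact π t) := by
  simp only [tact, res, ext_sc]
  simp [sc, mul_sub]

theorem tact_zero (π : Equiv.Perm (Fin 6)) : tact π 0 = 0 := by
  rw [← sc_zero 0, tact_sc, sc_zero, sc_zero]

theorem torMat_ok : ∀ t : Ti, ok (torMat t) = true := by decide +kernel

theorem permMat_ok : ∀ g : Bool, ok (List.ofFn (permImg g)) = true := by decide +kernel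

namespace Rep

variable {W : Type*} [AddCommGroup W] (R : Rep W)
include R

theorem D_apply_add (s t : Ti) (w : W) : R.D (s + t) w = R.D s (R.D t w) := by rw [R.D_add]; rfl

theorem D_fix {t : Ti} {k : Fin 41} {x : W} (h : dotp (al k) t = 0) (hx : x ∈ R.U k) : R.D t x = x := by
  conv_lhs => rw [← R.mem_U.1 hx]
  show (R.D t * R.pr k) x = x
  rw [R.D_pr h]
  exact hx

/-- A torus element acts on a line by the value of its functional. -/
theorem D_line {P : Fin 10} (t : Ti) {x : W} (hx : x ∈ R.U (ln P)) :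
    R.D t x = R.D (sc (dotp (al (ln P)) t) (du P)) x := by
  set s := sc (dotp (al (ln P)) t) (du P) with hs
  have h : dotp (al (ln P)) (t - s) = 0 := by
    have e := dotp_add (al (ln P)) (t - s) s
    rw [sub_add_cancel] at e
    have h2 : dotp (al (ln P)) s = dotp (al (ln P)) t := by
      have : dotp (al (ln P)) s = dotp (al (ln P)) t * dotp (al (ln P)) (du P) := by
        simp [hs, sc, dotp]; ring
      rw [this, du_dot, mul_one]
    rw [h2] at e
    linear_combination -e
  conv_lhs => rw [show t = s + (t - s) by abel, R.D_apply_add, R.D_fix h hx]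

theorem pm_U {a b : Fin 41} {π : Equiv.Perm (Fin 6)} (h : ∀ t, cf b (tact π t) = cf a t) {x : W}
    (hx : x ∈ R.U a) : R.ρ (pm π) x ∈ R.U b := by
  refine R.mem_U.2 ?_
  show (R.pr b * R.ρ (pm π)) x = _
  rw [← R.pm_pr h]
  show R.ρ (pm π) (R.pr a x) = _
  rw [R.mem_U.1 hx]

theorem pm_apply_D (π : Equiv.Perm (Fin 6)) (t : Ti) (x : W) :
    R.ρ (pm π) (R.D t x) = R.D (tact π t) (R.ρ (pm π) x) := DFunLike.congr_fun (R.pm_D π t) x

theorem rho_pm_mul (π τ : Equiv.Perm (Fin 6)) (x : W) :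
    R.ρ (pm (π * τ)) x = R.ρ (pm π) (R.ρ (pm τ) x) := by rw [← pm_mul, map_mul]; rfl

theorem rho_pm_one (x : W) : R.ρ (pm 1) x = x := by
  rw [show pm 1 = 1 from pmHom.map_one, map_one]; rfl

theorem no_fix {P : Fin 10} {x : W} (hx : x ∈ R.U (ln P)) (h : R.D (du P) x = x) : x = 0 := by
  have e := DFunLike.congr_fun (R.pr_three (ln_ne P) (du_dot P)) x
  change R.pr (ln P) x + R.D (du P) (R.pr (ln P) x) + R.D (du P) (R.D (du P) (R.pr (ln P) x)) = 0 at e
  rwa [R.mem_U.1 hx, h, h, R.two, zero_add] at e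

theorem three_line {P : Fin 10} {x : W} (hx : x ∈ R.U (ln P)) :
    R.D (du P) (R.D (du P) x) = R.D (du P) x + x := by
  have e := DFunLike.congr_fun (R.pr_three (ln_ne P) (du_dot P)) x
  change R.pr (ln P) x + R.D (du P) (R.pr (ln P) x) + R.D (du P) (R.D (du P) (R.pr (ln P) x)) = 0 at e
  rw [R.mem_U.1 hx] at e
  have h2 : ∀ a b : W, a + b = 0 → b = a := fun a b h => by
    rw [← add_zero b, ← R.two a, ← add_assoc, add_comm b a, h, zero_add]
  rw [add_comm (R.D (du P) x) x]
  exact h2 _ _ e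

/-- The vector of the first partition fixed by the exchange of its triples. -/
theorem exists_a0 : ∃ a : W, a ≠ 0 ∧ a ∈ R.U (ln 0) ∧ R.ρ (pm swapW) a = a := by
  have hcard := R.ten_lines.2 (ln 0) (ln_lt 0)
  obtain ⟨x, hx0⟩ : ∃ x : R.U (ln 0), x ≠ 0 := by
    have : Finite (R.U (ln 0)) := Nat.finite_of_card_ne_zero (by rw [hcard]; norm_num)
    have : Nontrivial (R.U (ln 0)) := Finite.one_lt_card_iff_nontrivial.1 (by rw [hcard]; norm_num)
    exact exists_ne 0
  obtain ⟨x, hx⟩ := x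
  by_cases h : R.ρ (pm swapW) x = x
  · exact ⟨x, fun e => hx0 (Subtype.ext e), hx, h⟩
  · refine ⟨x + R.ρ (pm swapW) x, fun e => h ?_, add_mem hx (R.pm_U swap_facts.1 hx), ?_⟩
    · rw [← add_zero x, ← R.two x, ← add_assoc] at e
      rw [R.two, zero_add] at e
      calc R.ρ (pm swapW) x = x + (x + R.ρ (pm swapW) x) := by rw [← add_assoc, R.two, zero_add]
        _ = x := by
          have e' : x + R.ρ (pm swapW) x = 0 := by simpa [R.two] using e
          rw [e', add_zero]
    · rw [map_add, ← R.rho_pm_mul, swap_facts.2.2, R.rho_pm_one, add_comm]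

/-- The base vector. -/
noncomputable def a0 : W := R.exists_a0.choose

theorem a0_ne : R.a0 ≠ 0 := R.exists_a0.choose_spec.1
theorem a0_mem : R.a0 ∈ R.U (ln 0) := R.exists_a0.choose_spec.2.1
theorem a0_swap : R.ρ (pm swapW) R.a0 = R.a0 := R.exists_a0.choose_spec.2.2

theorem sc_fix {P : Fin 10} {a : W} {j : ZMod 3} (ha : a ≠ 0) (hm : a ∈ R.U (ln P))
    (h : R.D (sc j (du P)) a = a) : j = 0 := by
  have hjs : ∀ j : ZMod 3, j = 0 ∨ j = 1 ∨ j = 2 := by decide
  rcases hjs j with rfl | rfl | rfl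
  · rfl
  · exact absurd (R.no_fix hm (by rwa [sc_one] at h)) ha
  · refine absurd (R.no_fix hm ?_) ha
    have e := congrArg (R.D (du P)) h
    rw [← R.D_apply_add, show du P + sc 2 (du P) = 0 by
      have h3 : ∀ x : ZMod 3, x + 2 * x = 0 := by decide
      simp [sc, Prod.ext_iff, h3], R.D_zero] at e
    exact e.symm

/-- The four elements of a line. -/
theorem line_cases {P : Fin 10} {a : W} (ha : a ≠ 0) (hm : a ∈ R.U (ln P)) {x : W} (hx : x ∈ R.U (ln P)) :
    x = 0 ∨ ∃ j : ZMod 3, x = R.D (sc j (du P)) a := by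
  classical
  have hfin := R.finite
  have : Fintype W := Fintype.ofFinite W
  set J := R.D (du P)
  have hJ : ∀ y ∈ R.U (ln P), J y ∈ R.U (ln P) := fun y hy => by
    refine R.mem_U.2 ?_
    show (R.pr (ln P) * R.D (du P)) y = _
    rw [← R.D_pr_comm]
    show R.D (du P) (R.pr (ln P) y) = _
    rw [R.mem_U.1 hy]
  have h1 : J a ≠ a := fun h => ha (R.no_fix hm h)
  have h2 : J a ≠ 0 := fun h => by
    have := R.three_line hm
    rw [show R.D (du P) a = 0 from h, map_zero, zero_add] at this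
    exact ha this.symm
  have h3 : J (J a) ≠ a := fun h => by
    have e := R.three_line hm
    rw [show R.D (du P) (R.D (du P) a) = a from h] at e
    exact h2 (by simpa using e.symm)
  have h4 : J (J a) ≠ J a := fun h => h1 (R.no_fix (hJ a hm) h ▸ (h2 (R.no_fix (hJ a hm) h)).elim)
  have h5 : J (J a) ≠ 0 := fun h => h1 (by
    have e := R.three_line hm
    rw [show R.D (du P) (R.D (du P) a) = 0 from h] at e
    calc J a = J a + (J a + a) := by rw [← e, add_zero]
      _ = a := by rw [← add_assoc, R.two, zero_add])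
  let S : Finset W := {0, a, J a, J (J a)}
  have hS : S.card = 4 := by
    simp only [S]
    rw [Finset.card_insert_of_notMem, Finset.card_insert_of_notMem, Finset.card_insert_of_notMem,
      Finset.card_singleton] <;> simp [ha.symm, h1.symm, h2.symm, h3.symm, h4.symm, h5.symm]
  have hU : S = (R.U (ln P) : Set W).toFinset := by
    refine Finset.eq_of_subset_of_card_le (fun y hy => ?_) ?_
    · simp only [S, Finset.mem_insert, Finset.mem_singleton] at hy
      rw [Set.mem_toFinset]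
      rcases hy with rfl | rfl | rfl | rfl
      exacts [zero_mem _, hm, hJ a hm, hJ _ (hJ a hm)]
    · rw [hS, Set.toFinset_card, ← Nat.card_eq_fintype_card]
      exact (R.ten_lines.2 (ln P) (ln_lt P)).le
  have hxS : x ∈ S := by rw [hU, Set.mem_toFinset]; exact hx
  simp only [S, Finset.mem_insert, Finset.mem_singleton] at hxS
  have s0 : sc 0 (du P) = 0 := by simp [sc]
  have s1 : sc 1 (du P) = du P := by simp [sc]
  have s2 : sc 2 (du P) = du P + du P := sc_two _
  rcases hxS with h | h | h | h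
  · exact Or.inl h
  · exact Or.inr ⟨0, by rw [h, s0, R.D_zero]; rfl⟩
  · exact Or.inr ⟨1, by rw [h, s1]⟩
  · exact Or.inr ⟨2, by rw [h, s2, R.D_apply_add]⟩

theorem a0_stab {π : Equiv.Perm (Fin 6)} (hπ : π ∈ stabGen) : R.ρ (pm π) R.a0 = R.a0 := by
  obtain ⟨hc, hd, h2⟩ := stab_facts π hπ
  have hm := R.pm_U hc R.a0_mem
  rcases R.line_cases R.a0_ne R.a0_mem hm with h | ⟨j, hj⟩
  · exfalso
    apply R.a0_ne
    calc R.a0 = R.ρ (pm π) (R.ρ (pm π) R.a0) := by rw [← R.rho_pm_mul, h2, R.rho_pm_one]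
      _ = 0 := by rw [h, map_zero]
  · have h' : R.D (sc (j + j) (du 0)) R.a0 = R.a0 := by
      calc R.D (sc (j + j) (du 0)) R.a0 = R.D (sc j (du 0)) (R.ρ (pm π) R.a0) := by
            rw [sc_add, R.D_apply_add, ← hj]
        _ = R.ρ (pm π) (R.ρ (pm π) R.a0) := by
            conv_rhs => arg 2; rw [hj]
            rw [R.pm_apply_D, tact_sc, R.D_line (sc j (tact π (du 0))) hm, dotp_sc, hd, mul_one]
        _ = R.a0 := by rw [← R.rho_pm_mul, h2, R.rho_pm_one]
    have hj0 := R.sc_fix R.a0_ne R.a0_mem h'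
    have : j = 0 := (show ∀ j : ZMod 3, j + j = 0 → j = 0 by decide) j hj0
    rw [hj, this, sc_zero, R.D_zero]
    rfl

/-- The permutations fixing the base vector. -/
theorem a0_stabList {l : List (Equiv.Perm (Fin 6))} (hl : l ∈ stabList) : R.ρ (pm l.prod) R.a0 = R.a0 := by
  have key : ∀ l : List (Equiv.Perm (Fin 6)), (∀ π ∈ l, π ∈ swapW :: stabGen) →
      R.ρ (pm l.prod) R.a0 = R.a0 := by
    intro l
    induction l with
    | nil => intro _; rw [List.prod_nil, R.rho_pm_one]
    | cons π l ih =>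
      intro h
      rw [List.prod_cons, R.rho_pm_mul, ih fun σ hσ => h σ (List.mem_cons_of_mem _ hσ)]
      rcases List.mem_cons.1 (h π (List.mem_cons_self ..)) with e | e
      · rw [e, R.a0_swap]
      · exact R.a0_stab e
  exact key l (stabList_mem l hl)

/-- The vector of a partition. -/
noncomputable def aP (P : Fin 10) : W := R.ρ (pm (piP P)) R.a0

theorem aP_mem (P : Fin 10) : R.aP P ∈ R.U (ln P) := R.pm_U (piP_facts P) R.a0_mem

theorem aP_ne (P : Fin 10) : R.aP P ≠ 0 := fun h => R.a0_ne (by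
  have := congrArg (R.ρ (pm (piP P))⁻¹) h
  rwa [aP, R.rho_inv_apply, map_zero] at this)

theorem genP_aP (g : Bool) (P : Fin 10) : R.ρ (pm (genP g)) (R.aP P) = R.aP (imgP g P) := by
  obtain ⟨l, hl, e⟩ := genP_piP g P
  rw [aP, ← R.rho_pm_mul, e, R.rho_pm_mul, R.a0_stabList hl, aP]

/-- The basis. -/
noncomputable def eB : List W :=
  List.ofFn fun k : Fin 20 =>
    R.D (sc (if (k : ℕ) % 2 = 0 then 0 else 1) (du ⟨k / 2, by omega⟩)) (R.aP ⟨k / 2, by omega⟩)

/-- The vector of a code. -/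
noncomputable def phi (v : ℕ) : W := comb R.eB v

theorem phi_zero : R.phi 0 = 0 := comb_zero _

theorem phi_xor (u v : ℕ) : R.phi (u ^^^ v) = R.phi u + R.phi v := comb_xor R.two _ u v

theorem phi_bit (k : Fin 20) : R.phi (2 ^ (k : ℕ)) =
    R.D (sc (if (k : ℕ) % 2 = 0 then 0 else 1) (du ⟨k / 2, by omega⟩)) (R.aP ⟨k / 2, by omega⟩) := by
  rw [phi, comb_bit, List.getD_eq_getElem _ _ (show (k : ℕ) < R.eB.length by
    rw [eB, List.length_ofFn]; exact k.2)]
  simp only [eB, List.getElem_ofFn]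

theorem phi_cd (P : Fin 10) (j : ZMod 3) : R.phi (cd P j) = R.D (sc j (du P)) (R.aP P) := by
  have h0 : R.phi (4 ^ (P : ℕ)) = R.D (sc 0 (du P)) (R.aP P) := by
    have h := R.phi_bit ⟨2 * P, by omega⟩
    rw [show (4 : ℕ) ^ (P : ℕ) = 2 ^ (2 * (P : ℕ)) by rw [pow_mul]; norm_num]
    simp only [Nat.mul_mod_right, if_true, Nat.mul_div_cancel_left _ (by norm_num : 0 < 2), Fin.eta] at h
    exact h
  have h1 : R.phi (2 * 4 ^ (P : ℕ)) = R.D (sc 1 (du P)) (R.aP P) := by
    have h := R.phi_bit ⟨2 * P + 1, by omega⟩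
    rw [show 2 * (4 : ℕ) ^ (P : ℕ) = 2 ^ (2 * (P : ℕ) + 1) by rw [pow_succ', pow_mul]; norm_num]
    simp only [show (2 * (P : ℕ) + 1) % 2 = 1 by omega, show (2 * (P : ℕ) + 1) / 2 = (P : ℕ) by omega,
      one_ne_zero, if_false, Fin.eta] at h
    exact h
  have hjs : ∀ j : ZMod 3, j = 0 ∨ j = 1 ∨ j = 2 := by decide
  rcases hjs j with rfl | rfl | rfl
  · rw [cd, show ((0 : ZMod 3).val + 1) = 1 from rfl, one_mul, h0]
  · rw [cd, show ((1 : ZMod 3).val + 1) = 2 from rfl, h1]
  · have e : ∀ P : Fin 10, cd P 2 = 4 ^ (P : ℕ) ^^^ 2 * 4 ^ (P : ℕ) := by decide +kernel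
    rw [e, R.phi_xor, h0, h1, sc_zero, sc_one, sc_two,
      R.D_apply_add, R.three_line (R.aP_mem P), R.D_zero, add_comm]
    rfl

theorem phi_surj (w : W) : ∃ v < N20, R.phi v = w := by
  classical
  have hP : ∀ P : Fin 10, ∀ x ∈ R.U (ln P), ∃ v < N20, R.phi v = x := by
    intro P x hx
    rcases R.line_cases (R.aP_ne P) (R.aP_mem P) hx with rfl | ⟨j, rfl⟩
    · exact ⟨0, by norm_num, R.phi_zero⟩
    · exact ⟨cd P j, (show ∀ P : Fin 10, ∀ j : ZMod 3, cd P j < N20 by decide +kernel) P j, R.phi_cd P j⟩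
  rw [← R.sum_apply w]
  refine Finset.sum_induction _ (fun x => ∃ v < N20, R.phi v = x) ?_ ⟨0, by norm_num, R.phi_zero⟩ ?_
  · rintro _ _ ⟨u, hu, rfl⟩ ⟨v, hv, rfl⟩
    exact ⟨u ^^^ v, Nat.xor_lt_two_pow (n := 20) hu hv, R.phi_xor u v⟩
  · intro k _
    by_cases hk : (k : ℕ) < 10
    · exact hP ⟨k, hk⟩ _ (R.pr_mem k w)
    · exact ⟨0, by norm_num, by rw [R.phi_zero, R.ten_lines.1 k (by omega)]; rfl⟩

theorem phi_inj {u v : ℕ} (hu : u < N20) (hv : v < N20) (h : R.phi u = R.phi v) : u = v := by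
  have := R.finite
  have hb : Function.Bijective fun x : Fin N20 => R.phi x := by
    refine (Function.Surjective.bijective_of_nat_card_le (fun w => ?_) ?_)
    · obtain ⟨v, hv, e⟩ := R.phi_surj w
      exact ⟨⟨v, hv⟩, e⟩
    · rw [Nat.card_eq_fintype_card, Fintype.card_fin, R.card]
      norm_num
  exact congrArg Fin.val (hb.1 (a₁ := ⟨u, hu⟩) (a₂ := ⟨v, hv⟩) h)

/-- An endomorphism is given by a matrix. -/
def Rel (f : AddMonoid.End W) (M : List ℕ) : Prop := ok M = true ∧ ∀ v, f (R.phi v) = R.phi (app M v)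

variable {R}

theorem Rel.of_basis {f : AddMonoid.End W} {M : List ℕ} (hM : ok M = true)
    (h : ∀ k : Fin 20, f (R.phi (2 ^ (k : ℕ))) = R.phi (M.getD k 0)) : R.Rel f M := by
  refine ⟨hM, fun v => ?_⟩
  have hl := (ok_iff.1 hM).1
  have e : R.eB.map f = M.map R.phi := by
    refine List.ext_getElem (by simp [eB, hl]) fun k hk hk' => ?_
    have hk20 : k < 20 := by simpa [eB] using hk
    have hh := h ⟨k, hk20⟩
    rw [List.getD_eq_getElem _ _ (by omega), phi, comb_bit,
      List.getD_eq_getElem _ _ (by simp [eB]; omega)] at hh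
    simp only [List.getElem_map]
    exact hh
  refine (comb_hom f R.eB v).symm.trans ?_
  erw [e]
  exact comb_code R.phi R.phi_zero R.phi_xor M v

theorem Rel.one : R.Rel 1 idm := Rel.of_basis (by decide) fun k => by
  rw [(show ∀ k : Fin 20, idm.getD k 0 = 2 ^ (k : ℕ) by decide) k]
  rfl

theorem Rel.mul {f g : AddMonoid.End W} {M N : List ℕ} (hf : R.Rel f M) (hg : R.Rel g N) :
    R.Rel (f * g) (mu M N) := ⟨ok_mu hf.1 hg.1, fun v => by
  show f (g (R.phi v)) = _
  rw [hg.2, hf.2, app_mu]⟩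

theorem Rel.eq_app {f : AddMonoid.End W} {M : List ℕ} (hf : R.Rel f M) {u v : ℕ} (hu : u < N20)
    (h : f (R.phi v) = R.phi u) : app M v = u := R.phi_inj (app_ok_lt hf.1 v) hu ((hf.2 v).symm.trans h)

theorem Rel.ext {f g : AddMonoid.End W} {M : List ℕ} (hf : R.Rel f M) (hg : R.Rel g M) : f = g :=
  AddMonoidHom.ext fun w => by
    obtain ⟨v, -, rfl⟩ := R.phi_surj w
    exact (hf.2 v).trans (hg.2 v).symm

theorem Rel.unique {f : AddMonoid.End W} {M N : List ℕ} (hf : R.Rel f M) (hg : R.Rel f N) : M = N :=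
  list_ext (ok_iff.1 hf.1).1 (ok_iff.1 hg.1).1 fun v _ =>
    R.phi_inj (app_ok_lt hf.1 v) (app_ok_lt hg.1 v) ((hf.2 v).symm.trans (hg.2 v))

theorem Rel.tor (t : Ti) : R.Rel (R.D t) (torMat t) := by
  refine Rel.of_basis (torMat_ok t) fun k => ?_
  rw [torMat, List.getD_eq_getElem _ _ (by simp), List.getElem_ofFn, R.phi_bit, torImg, R.phi_cd,
    ← R.D_apply_add, R.D_line _ (R.aP_mem _), dotp_add, dotp_sc, du_dot, mul_one]

theorem Rel.perm (g : Bool) : R.Rel (R.ρ (pm (genP g))) (List.ofFn (permImg g)) := by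
  refine Rel.of_basis (permMat_ok g) fun k => ?_
  rw [List.getD_eq_getElem _ _ (by simp), List.getElem_ofFn, R.phi_bit, permImg, R.phi_cd, R.pm_apply_D,
    R.genP_aP, R.D_line _ (R.aP_mem _)]
  split_ifs
  · simp [sc_zero, tact_zero, dotp]
  · rw [sc_one]

end Rep

end Cfsg.Agent.Fus.U62Module
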