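import Mathlib
import Cfsg.Agent.Lib.Invol.ExtraEight.Linear

/-!
The twenty-dimensional module of `U₆(2)`: linear maps on numbers below `2 ^ 20`, read as ten digits to base
four.
-/

set_option autoImplicit false

namespace Cfsg.Agent.Fus.U62Module

open Cfsg.Agent.Invol.ExtraEight (app mu comb comb_zero comb_xor app_zero app_xor)

/-- The bound. -/
abbrev N20 : ℕ := 1048576

/-- The unit vectors. -/
def idm : List ℕ :=
  [1, 2, 4, 8, 16, 32, 64, 128, 256, 512, 1024, 2048, 4096, 8192, 16384, 32768, 65536, 131072, 262144, 524288]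

/-- A digit. -/
def dig (P v : ℕ) : ℕ := v / 4 ^ P % 4

/-- A matrix of the right shape. -/
def ok (M : List ℕ) : Bool := Nat.beq M.length 20 && M.all fun x => Nat.blt x N20

/-- Iterated product. -/
def mpow (M : List ℕ) : ℕ → List ℕ
  | 0 => idm
  | k + 1 => mu M (mpow M k)

theorem ok_iff {M : List ℕ} : ok M = true ↔ M.length = 20 ∧ ∀ x ∈ M, x < N20 := by
  simp only [ok, Bool.and_eq_true, List.all_eq_true, Nat.blt_eq]
  exact and_congr_left' ⟨Nat.eq_of_beq_eq_true, fun h => by rw [h]; rfl⟩

theorem app_lt {n : ℕ} {g : List ℕ} (hg : ∀ x ∈ g, x < 2 ^ n) : ∀ v, app g v < 2 ^ n := by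
  induction g with
  | nil => intro v; simp [app]
  | cons x g ih =>
    intro v
    refine Nat.xor_lt_two_pow ?_ (ih (fun y hy => hg y (List.mem_cons_of_mem _ hy)) _)
    cases v % 2 == 1 <;> simp [hg x (List.mem_cons_self ..)]

theorem app_ok_lt {M : List ℕ} (h : ok M = true) (v : ℕ) : app M v < N20 :=
  app_lt (n := 20) (fun x hx => (ok_iff.1 h).2 x hx) v

theorem app_map (f : ℕ → ℕ) (h0 : f 0 = 0) (hf : ∀ u v, f (u ^^^ v) = f u ^^^ f v) (g : List ℕ) (v : ℕ) :
    app (g.map f) v = f (app g v) := by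
  induction g generalizing v with
  | nil => simp [app, h0]
  | cons x g ih =>
    simp only [List.map_cons, app, ih, hf]
    cases v % 2 == 1 <;> simp [h0]

theorem app_mu (g h : List ℕ) (v : ℕ) : app (mu g h) v = app g (app h v) :=
  app_map (app g) (app_zero g) (app_xor g) h v

theorem mu_length (g h : List ℕ) : (mu g h).length = h.length := List.length_map _

theorem ok_mu {g h : List ℕ} (hg : ok g = true) (hh : ok h = true) : ok (mu g h) = true := by
  refine ok_iff.2 ⟨by rw [mu_length]; exact (ok_iff.1 hh).1, fun x hx => ?_⟩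
  obtain ⟨y, -, rfl⟩ := List.mem_map.1 hx
  exact app_ok_lt hg y

theorem app_nil (v : ℕ) : app [] v = 0 := rfl

theorem app_two (a b : ℕ) (R : List ℕ) (v : ℕ) : app (a :: b :: R) v = app [a, b] (v % 4) ^^^ app R (v / 4) := by
  have h1 : v % 4 % 2 = v % 2 := Nat.mod_mod_of_dvd v (by norm_num)
  have h2 : v % 4 / 2 % 2 = v / 2 % 2 := by omega
  have h3 : v / 2 / 2 = v / 4 := Nat.div_div_eq_div_mul v 2 2
  simp only [app, h1, h2, h3, Nat.xor_zero, Nat.xor_assoc]

theorem app_idm {v : ℕ} (hv : v < N20) : app idm v = v := by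
  have key : ∀ n i v : ℕ, v < 2 ^ n → app ((List.range n).map fun k => 2 ^ (i + k)) v = 2 ^ i * v := by
    intro n
    induction n with
    | zero => intro i v hv; simp at hv; simp [hv, app]
    | succ n ih =>
      intro i v hv
      rw [List.range_succ_eq_map, List.map_cons, List.map_map]
      show cond (v % 2 == 1) (2 ^ (i + 0)) 0 ^^^ app _ (v / 2) = _
      rw [show ((fun k => 2 ^ (i + k)) ∘ Nat.succ) = fun k => 2 ^ (i + 1 + k) from
        funext fun k => congrArg (2 ^ ·) (show i + Nat.succ k = i + 1 + k by omega)]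
      rw [ih (i + 1) (v / 2) (by rw [pow_succ] at hv; omega)]
      have hv' : 2 ^ i * v = 2 ^ (i + 1) * (v / 2) + 2 ^ i * (v % 2) := by
        have := Nat.div_add_mod v 2
        calc 2 ^ i * v = 2 ^ i * (2 * (v / 2) + v % 2) := by rw [this]
          _ = _ := by ring
      rcases Nat.mod_two_eq_zero_or_one v with h | h
      · rw [h] at hv' ⊢; simp [hv']
      · rw [h] at hv' ⊢
        rw [hv', mul_one, Nat.add_zero]
        show 2 ^ i ^^^ _ = _
        rw [Nat.xor_comm, Nat.two_pow_add_eq_or_of_lt (Nat.pow_lt_pow_right one_lt_two (by omega))]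
        apply Nat.eq_of_testBit_eq
        intro j
        rw [Nat.testBit_xor, Nat.testBit_or, Nat.testBit_two_pow_mul, Nat.testBit_two_pow]
        rcases Nat.lt_trichotomy i j with h' | h' | h'
        · simp [h'.ne]
        · subst h'; simp
        · simp [h'.ne', show ¬ i + 1 ≤ j by omega]
  have h := key 20 0 v (by simpa using hv)
  simpa [idm, List.range, List.range.loop] using h

theorem app_bit (M : List ℕ) (k : ℕ) : app M (2 ^ k) = M.getD k 0 := by
  induction k generalizing M with
  | zero =>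
    rcases M with _ | ⟨x, M⟩
    · rfl
    · simp [app, app_zero]
  | succ k ih =>
    rcases M with _ | ⟨x, M⟩
    · rfl
    · have h1 : 2 ^ (k + 1) % 2 = 0 := by simp [pow_succ]
      have h2 : 2 ^ (k + 1) / 2 = 2 ^ k := by simp [pow_succ]
      simp [app, h1, h2, ih]

theorem list_ext {M M' : List ℕ} (h : M.length = 20) (h' : M'.length = 20)
    (e : ∀ v, v < N20 → app M v = app M' v) : M = M' := by
  refine List.ext_getElem (h.trans h'.symm) fun k hk hk' => ?_
  have := e (2 ^ k) (by rw [h] at hk; exact Nat.pow_lt_pow_right one_lt_two hk)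
  rwa [app_bit, app_bit, List.getD_eq_getElem _ _ hk, List.getD_eq_getElem _ _ hk'] at this

theorem dig_zero (P : ℕ) : dig P 0 = 0 := by simp [dig]

theorem dig_xor (P u v : ℕ) : dig P (u ^^^ v) = dig P u ^^^ dig P v := by
  unfold dig
  rw [show (4 : ℕ) ^ P = 2 ^ (2 * P) by rw [pow_mul]; norm_num, show (4 : ℕ) = 2 ^ 2 by norm_num]
  apply Nat.eq_of_testBit_eq
  intro i
  simp only [Nat.testBit_mod_two_pow, Nat.testBit_xor, Nat.testBit_div_two_pow]
  cases decide (i < 2) <;> simp

theorem dig_app (P : ℕ) (M : List ℕ) (v : ℕ) : dig P (app M v) = app (M.map (dig P)) v :=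
  (app_map (dig P) (dig_zero P) (dig_xor P) M v).symm

theorem dig_lt (P v : ℕ) : dig P v < 4 := Nat.mod_lt _ (by norm_num)

/-- A map which sees the digits through pairs. -/
def bydig : List ℕ → ℕ → (ℕ → ℕ) → ℕ
  | a :: b :: R, P, d => app [a, b] (d P) ^^^ bydig R (P + 1) d
  | _, _, _ => 0

theorem app_bydig_aux : ∀ (n P : ℕ) (R : List ℕ) (v : ℕ), R.length = 2 * n →
    app R (v / 4 ^ P) = bydig R P fun Q => dig Q v
  | 0, P, R, v, h => by
    rw [List.eq_nil_of_length_eq_zero (by omega : R.length = 0)]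
    rfl
  | n + 1, P, a :: b :: R, v, h => by
    have hR : R.length = 2 * n := by simp at h; omega
    rw [app_two, Nat.div_div_eq_div_mul, ← pow_succ, app_bydig_aux n (P + 1) R v hR]
    rfl
  | n + 1, P, [], v, h => by simp at h
  | n + 1, P, [_], v, h => by simp at h; omega

/-- The digits of a vector determine what a map does. -/
theorem app_bydig {R : List ℕ} (h : R.length = 20) (v : ℕ) : app R v = bydig R 0 fun Q => dig Q v := by
  simpa using app_bydig_aux 10 0 R v h

theorem dig_app_bydig (P : ℕ) {M : List ℕ} (h : M.length = 20) (v : ℕ) :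
    dig P (app M v) = bydig (M.map (dig P)) 0 fun Q => dig Q v := by
  rw [dig_app, app_bydig (by simpa using h)]

theorem eq_of_dig {u v : ℕ} (hu : u < N20) (hv : v < N20) (h : ∀ P < 10, dig P u = dig P v) : u = v := by
  have h0 := h 0 (by norm_num)
  have h1 := h 1 (by norm_num)
  have h2 := h 2 (by norm_num)
  have h3 := h 3 (by norm_num)
  have h4 := h 4 (by norm_num)
  have h5 := h 5 (by norm_num)
  have h6 := h 6 (by norm_num)
  have h7 := h 7 (by norm_num)
  have h8 := h 8 (by norm_num)
  have h9 := h 9 (by norm_num)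
  simp only [dig, N20, Nat.reducePow, Nat.div_one] at *
  omega

end Cfsg.Agent.Fus.U62Module
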