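import Cfsg.Agent.Lib.Fus.U62Module.Basis

/-!
The twenty-dimensional module of `U₆(2)`: the block element acts as in the model.
-/

set_option autoImplicit false
set_option maxRecDepth 100000
set_option linter.unusedSectionVars false

namespace Cfsg.Agent.Fus.U62Module

open Cfsg Cfsg.Agent.Classical
open Cfsg.Agent.Invol.ExtraEight (app mu app_zero app_xor)

/-- Multiplication of a digit by a power of the cube root of unity. -/
def mw (j : ZMod 3) (x : ℕ) : ℕ :=
  (([[0, 1, 2, 3], [0, 2, 3, 1], [0, 3, 1, 2]] : List (List ℕ)).getD j.val []).getD x 0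

theorem mw_add : ∀ i j : ZMod 3, ∀ x < 4, mw (i + j) x = mw i (mw j x) ∧ mw j x < 4 := by decide +kernel

theorem mw_fix : ∀ j : ZMod 3, ∀ x < 4, j ≠ 0 → mw j x = x → x = 0 := by decide +kernel

theorem mw_xor : ∀ j : ZMod 3, ∀ x < 4, ∀ y < 4, mw j (x ^^^ y) = mw j x ^^^ mw j y := by decide +kernel

theorem mw_zero : ∀ x < 4, mw 0 x = x := by decide +kernel

/-- Two additive functions which agree on the bits agree. -/
theorem eq_on_bits (f g : ℕ → ℕ) (hf : f 0 = 0) (hf' : ∀ u v, f (u ^^^ v) = f u ^^^ f v) (hg : g 0 = 0)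
    (hg' : ∀ u v, g (u ^^^ v) = g u ^^^ g v) (h : idm.map f = idm.map g) {v : ℕ} (hv : v < N20) : f v = g v := by
  conv_lhs => rw [← app_idm hv]
  conv_rhs => rw [← app_idm hv]
  rw [← app_map f hf hf', ← app_map g hg hg', h]

/-- The functional of a partition. -/
def psi (P : Fin 10) (t : Ti) : ZMod 3 := dotp (al (ln P)) t

theorem dig_tor_bits : ∀ t : Ti, ∀ Q : Fin 10,
    idm.map (fun b => dig Q (app (torMat t) b)) = idm.map fun b => mw (psi Q t) (dig Q b) := by decide +kernel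

theorem dig_tor (t : Ti) (Q : Fin 10) {v : ℕ} (hv : v < N20) :
    dig Q (app (torMat t) v) = mw (psi Q t) (dig Q v) :=
  eq_on_bits _ (fun b => mw (psi Q t) (dig Q b))
    (by simp [app_zero, dig_zero]) (fun a b => by simp [app_xor, dig_xor])
    (by rw [dig_zero]; exact (show ∀ j : ZMod 3, mw j 0 = 0 by decide) _)
    (fun a b => by simp only [dig_xor]; exact mw_xor _ _ (dig_lt ..) _ (dig_lt ..)) (dig_tor_bits t Q) hv

theorem torMat_add (s t : Ti) {v : ℕ} (hv : v < N20) :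
    app (torMat (s + t)) v = app (torMat s) (app (torMat t) v) := by
  refine eq_of_dig (app_ok_lt (torMat_ok _) _) (app_ok_lt (torMat_ok _) _) fun P hP => ?_
  rw [dig_tor _ ⟨P, hP⟩ hv, dig_tor _ ⟨P, hP⟩ (app_ok_lt (torMat_ok _) _), dig_tor _ ⟨P, hP⟩ hv, psi, psi, psi,
    dotp_add]
  exact (mw_add _ _ _ (dig_lt ..)).1

/-- The cyclic shift of the first three coordinates. -/
def cycP : Equiv.Perm (Fin 6) := Equiv.swap 0 1 * Equiv.swap 1 2

/-- Its word. -/
def cycW : List ℕ := [4, 5, 4, 5, 5, 5, 5, 5]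

/-- The exchange of the second and third coordinate, as a word. -/
def swW : List ℕ := [5, 4, 5, 5, 5, 5, 5]

/-- The matrix of the cyclic shift. -/
def cycM : List ℕ := wmat cycW

/-- The block element on the model. -/
def blkM : List ℕ := gens.getD 6 idm

/-- Its inverse. -/
def blkI : List ℕ := mpow blkM 3

/-- A multiple of the digits, as a matrix. -/
def scaleMat (x : List ℕ) : List ℕ :=
  List.ofFn fun k : Fin 20 => mw (if (k : ℕ) % 2 = 0 then 0 else 1) (x.getD (k / 2) 0) * 4 ^ ((k : ℕ) / 2)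

/-- The exponents commuting with both block elements. -/
def eGen : List Ti := [(0, 0, 0, 1), (1, 1, 1, 0)]

/-- Those and the diagonal element of the first block. -/
def hGen : List Ti := [(0, 1, 2, 0), (0, 0, 0, 1), (1, 1, 1, 0)]

theorem sep : ∀ P : Fin 10, P ≠ 0 → ∀ Q : Fin 10, Q ≠ P → ∃ a b c : ZMod 3,
    ((psi P (sc a (0, 1, 2, 0) + sc b (0, 0, 0, 1) + sc c (1, 1, 1, 0)) = 0 ∧
        psi Q (sc a (0, 1, 2, 0) + sc b (0, 0, 0, 1) + sc c (1, 1, 1, 0)) ≠ 0) ∨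
      (psi P (sc a (0, 1, 2, 0) + sc b (0, 0, 0, 1) + sc c (1, 1, 1, 0)) = 1 ∧
        psi Q (sc a (0, 1, 2, 0) + sc b (0, 0, 0, 1) + sc c (1, 1, 1, 0)) = 0)) := by decide +kernel

theorem reach : ∀ P : Fin 10, P ≠ 0 → ∃ a b c : ZMod 3,
    psi P (sc a (0, 1, 2, 0) + sc b (0, 0, 0, 1) + sc c (1, 1, 1, 0)) = 1 := by decide +kernel

theorem pt_facts : ∀ P : Fin 10, ∀ t : Ti, (psi P t = 0 → app (torMat t) (4 ^ (P : ℕ)) = 4 ^ (P : ℕ)) ∧
    (psi P t = 1 → app (torMat t) (4 ^ (P : ℕ)) = 2 * 4 ^ (P : ℕ) ∧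
      app (torMat t) (app (torMat t) (4 ^ (P : ℕ))) = 4 ^ (P : ℕ) ^^^ app (torMat t) (4 ^ (P : ℕ))) := by
  decide +kernel

theorem put_facts : ∀ P : Fin 10, ∀ x < 4, x * 4 ^ (P : ℕ) < N20 ∧ ∀ Q : Fin 10,
    dig Q (x * 4 ^ (P : ℕ)) = if Q = P then x else 0 := by decide +kernel

theorem cyc_facts : ∀ x < 4, app cycM (x * 4 ^ 1) = mw 0 ([0, 1, 3, 2].getD x 0) * 4 ^ 9 ∧
    app cycM (x * 4 ^ 2) = mw 0 ([0, 1, 3, 2].getD x 0) * 4 ^ 8 ∧
    app cycM (x * 4 ^ 3) = mw 0 ([0, 1, 3, 2].getD x 0) * 4 ^ 7 ∧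
    app cycM (x * 4 ^ 4) = x * 4 ^ 1 ∧ app cycM (x * 4 ^ 5) = x * 4 ^ 2 ∧
    app cycM (x * 4 ^ 6) = x * 4 ^ 3 := by decide +kernel

theorem cyc_unit : app cycM (4 ^ 1) = 4 ^ 9 ∧ app cycM (4 ^ 2) = 4 ^ 8 ∧ app cycM (4 ^ 3) = 4 ^ 7 ∧
    app cycM (4 ^ 4) = 4 ^ 1 ∧ app cycM (4 ^ 5) = 4 ^ 2 ∧ app cycM (4 ^ 6) = 4 ^ 3 := by decide +kernel

/-- The digits of a scaling commuting with the cyclic shift. -/
def expand (a b c : ℕ) : List ℕ :=
  [1, a, b, c, a, b, c, [0, 1, 3, 2].getD c 0, [0, 1, 3, 2].getD b 0, [0, 1, 3, 2].getD a 0]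

theorem scale_check : ((List.range 4).all fun a => (List.range 4).all fun b => (List.range 4).all fun c =>
    !(mpow (mu blkM (scaleMat (expand a b c))) 4 == idm) || (a == 1 && b == 1 && c == 1)) = true := by
  decide +kernel

theorem scale_final {a b c : ℕ} (ha : a < 4) (hb : b < 4) (hc : c < 4)
    (h : mpow (mu blkM (scaleMat (expand a b c))) 4 = idm) : a = 1 ∧ b = 1 ∧ c = 1 := by
  have := List.all_eq_true.1 (List.all_eq_true.1 (List.all_eq_true.1 scale_check a (List.mem_range.2 ha)) b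
    (List.mem_range.2 hb)) c (List.mem_range.2 hc)
  simpa [h, and_assoc] using this

theorem scale_one : scaleMat [1, 1, 1, 1, 1, 1, 1, 1, 1, 1] = idm := by decide +kernel

theorem blk_ok : ok blkM = true ∧ ok blkI = true ∧ ok cycM = true ∧ mu blkM blkI = idm := by decide +kernel

theorem blkI_rel : (∀ t ∈ eGen, mu blkI (torMat t) = mu (torMat t) blkI) ∧
    mu blkI (mu (mu (torMat (res ![2, 1, 0, 0, 0, 0])) cycM) idm) = mu (torMat (0, 1, 2, 0)) blkI ∧
    mu blkI (mu (mu (torMat (res ![1, 2, 0, 0, 0, 0])) cycM) idm) = mu cycM blkI ∧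
    app blkI 1 = 1 ∧ app blkI 2 = 2 := by decide +kernel

/-- The matrices with the relations of the block element are the block element. -/
theorem block_unique {M : List ℕ} (hM : ok M = true) (he : ∀ t ∈ eGen, mu M (torMat t) = mu (torMat t) M)
    (hd : mu M (torMat (0, 1, 2, 0)) = mu (mu (torMat (res ![2, 1, 0, 0, 0, 0])) cycM) M)
    (hc : mu M cycM = mu (mu (torMat (res ![1, 2, 0, 0, 0, 0])) cycM) M)
    (h0 : ∀ x < 4, app M x = x) (h4 : mpow M 4 = idm) : M = blkM := by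
  obtain ⟨hB, hBI, hC, hBB⟩ := blk_ok
  obtain ⟨ie, id, ic, i1, i2⟩ := blkI_rel
  set T := mu blkI M with hT
  have hTok : ok T = true := ok_mu hBI hM
  have Te : ∀ t ∈ eGen, ∀ v, app T (app (torMat t) v) = app (torMat t) (app T v) := fun t ht v => by
    rw [hT, app_mu, app_mu, ← app_mu M, he t ht, app_mu, ← app_mu blkI, ie t ht, app_mu]
  have ik : ∀ {N N' : List ℕ}, ok N = true → mu blkI (mu N idm) = N' → ∀ v, app N v < N20 →
      v < N20 → app blkI (app N v) = app N' v := fun hN e v _ hv => by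
    rw [← e, app_mu, app_mu, app_idm hv]
  have Td : ∀ v, v < N20 → app T (app (torMat (0, 1, 2, 0)) v) = app (torMat (0, 1, 2, 0)) (app T v) := fun v hv => by
    rw [hT, app_mu, app_mu, ← app_mu M, hd, app_mu,
      ik (ok_mu (torMat_ok _) hC) id (app M v) (app_ok_lt (ok_mu (torMat_ok _) hC) _) (app_ok_lt hM v), app_mu]
  have Tc : ∀ v, v < N20 → app T (app cycM v) = app cycM (app T v) := fun v hv => by
    rw [hT, app_mu, app_mu, ← app_mu M, hc, app_mu,
      ik (ok_mu (torMat_ok _) hC) ic (app M v) (app_ok_lt (ok_mu (torMat_ok _) hC) _) (app_ok_lt hM v), app_mu]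
  have Tall : ∀ t ∈ hGen, ∀ v, v < N20 → app T (app (torMat t) v) = app (torMat t) (app T v) := fun t ht v hv => by
    simp only [hGen, List.mem_cons, List.not_mem_nil, or_false] at ht
    rcases ht with rfl | rfl | rfl
    · exact Td v hv
    · exact Te _ (by simp [eGen]) v
    · exact Te _ (by simp [eGen]) v
  let G : Ti → Prop := fun t => ∀ v, v < N20 → app T (app (torMat t) v) = app (torMat t) (app T v)
  have Gadd : ∀ s t, G s → G t → G (s + t) := fun s t hs ht v hv => by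
    rw [torMat_add s t hv, hs _ (app_ok_lt (torMat_ok _) _), ht v hv, torMat_add s t (app_ok_lt hTok v)]
  have Gzero : G 0 := fun v hv => by
    have e : ∀ u, u < N20 → app (torMat 0) u = u := fun u hu => by
      rw [show torMat 0 = idm by decide +kernel, app_idm hu]
    rw [e v hv, e _ (app_ok_lt hTok v)]
  have Gsc : ∀ (j : ZMod 3) t, G t → G (sc j t) := fun j t ht => by
    rcases (show ∀ j : ZMod 3, j = 0 ∨ j = 1 ∨ j = 2 by decide) j with rfl | rfl | rfl
    · rw [sc_zero]; exact Gzero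
    · rw [sc_one]; exact ht
    · rw [sc_two]; exact Gadd _ _ ht ht
  have Gall : ∀ a b c : ZMod 3, G (sc a (0, 1, 2, 0) + sc b (0, 0, 0, 1) + sc c (1, 1, 1, 0)) := fun a b c =>
    Gadd _ _ (Gadd _ _ (Gsc a _ (Tall _ (by simp [hGen]))) (Gsc b _ (Tall _ (by simp [hGen]))))
      (Gsc c _ (Tall _ (by simp [hGen])))
  have T0 : ∀ x < 4, app T x = x := fun x hx => by
    rw [hT, app_mu, h0 x hx]
    have e : ∀ y < 4, y = app [1, 2] y := by decide
    rcases (show x = 0 ∨ x = 1 ∨ x = 2 ∨ x = 1 ^^^ 2 by simp; omega) with rfl | rfl | rfl | rfl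
    · exact app_zero _
    · exact i1
    · exact i2
    · rw [app_xor, i1, i2]
  have p4 : ∀ P : Fin 10, 4 ^ (P : ℕ) < N20 ∧ 2 * 4 ^ (P : ℕ) < N20 := by decide +kernel
  have key : ∀ P : Fin 10, ∃ x < 4, app T (4 ^ (P : ℕ)) = x * 4 ^ (P : ℕ) ∧
      app T (2 * 4 ^ (P : ℕ)) = mw 1 x * 4 ^ (P : ℕ) := by
    intro P
    by_cases hP : P = 0
    · subst hP
      exact ⟨1, by norm_num, by simpa using T0 1 (by norm_num), T0 2 (by norm_num)⟩
    set u := app T (4 ^ (P : ℕ)) with hu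
    have hul : u < N20 := app_ok_lt hTok _
    refine ⟨dig P u, dig_lt .., ?_, ?_⟩
    · refine eq_of_dig hul (put_facts P _ (dig_lt ..)).1 fun Q hQ => ?_
      rw [(put_facts P _ (dig_lt ..)).2 ⟨Q, hQ⟩]
      by_cases e : (⟨Q, hQ⟩ : Fin 10) = P
      · rw [if_pos e, ← e]
      rw [if_neg e]
      obtain ⟨a, b, c, h⟩ := sep P hP ⟨Q, hQ⟩ e
      set t := sc a (0, 1, 2, 0) + sc b (0, 0, 0, 1) + sc c (1, 1, 1, 0)
      rcases h with ⟨h1, h2⟩ | ⟨h1, h2⟩
      · have e1 : app (torMat t) u = u := by rw [hu, ← Gall a b c _ (p4 P).1, (pt_facts P t).1 h1]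
        have e2 := dig_tor t ⟨Q, hQ⟩ hul
        rw [e1] at e2
        exact mw_fix _ _ (dig_lt ..) h2 e2.symm
      · have e1 : app (torMat t) (app (torMat t) u) = u ^^^ app (torMat t) u := by
          rw [hu, ← Gall a b c _ (p4 P).1, ← Gall a b c _ (app_ok_lt (torMat_ok _) _),
            ((pt_facts P t).2 h1).2, app_xor]
        have e2 := congrArg (dig Q) e1
        rw [dig_xor, dig_tor t ⟨Q, hQ⟩ (app_ok_lt (torMat_ok _) _), dig_tor t ⟨Q, hQ⟩ hul, h2,
          mw_zero _ (dig_lt ..), mw_zero _ (dig_lt ..), Nat.xor_self] at e2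
        exact e2
    · obtain ⟨a, b, c, h1⟩ := reach P hP
      set t := sc a (0, 1, 2, 0) + sc b (0, 0, 0, 1) + sc c (1, 1, 1, 0)
      refine eq_of_dig (app_ok_lt hTok _) (put_facts P _ (mw_add 0 1 _ (dig_lt ..)).2).1 fun Q hQ => ?_
      rw [(put_facts P _ (mw_add 0 1 _ (dig_lt ..)).2).2 ⟨Q, hQ⟩, ← ((pt_facts P t).2 h1).1,
        Gall a b c _ (p4 P).1, dig_tor t ⟨Q, hQ⟩ hul]
      by_cases e : (⟨Q, hQ⟩ : Fin 10) = P
      · rw [if_pos e, e, h1, ← e]
      rw [if_neg e]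
      have hz : dig Q u = 0 := by
        obtain ⟨a', b', c', h⟩ := sep P hP ⟨Q, hQ⟩ e
        set s := sc a' (0, 1, 2, 0) + sc b' (0, 0, 0, 1) + sc c' (1, 1, 1, 0)
        rcases h with ⟨k1, k2⟩ | ⟨k1, k2⟩
        · have e1 : app (torMat s) u = u := by rw [hu, ← Gall a' b' c' _ (p4 P).1, (pt_facts P s).1 k1]
          have e2 := dig_tor s ⟨Q, hQ⟩ hul
          rw [e1] at e2
          exact mw_fix _ _ (dig_lt ..) k2 e2.symm
        · have e1 : app (torMat s) (app (torMat s) u) = u ^^^ app (torMat s) u := by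
            rw [hu, ← Gall a' b' c' _ (p4 P).1, ← Gall a' b' c' _ (app_ok_lt (torMat_ok _) _),
              ((pt_facts P s).2 k1).2, app_xor]
          have e2 := congrArg (dig Q) e1
          rw [dig_xor, dig_tor s ⟨Q, hQ⟩ (app_ok_lt (torMat_ok _) _), dig_tor s ⟨Q, hQ⟩ hul, k2,
            mw_zero _ (dig_lt ..), mw_zero _ (dig_lt ..), Nat.xor_self] at e2
          exact e2
      rw [hz]
      exact (show ∀ j : ZMod 3, mw j 0 = 0 by decide) _
  choose x hx hx1 hx2 using key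
  have x0 : x 0 = 1 := by
    have := hx1 0
    simp only [Fin.val_zero, pow_zero, mul_one] at this
    rw [← this]
    exact T0 1 (by norm_num)
  obtain ⟨c1, c2, c3, c4, c5, c6⟩ := cyc_unit
  have lt : ∀ n < 10, 4 ^ n < N20 := fun n hn => (p4 ⟨n, hn⟩).1
  have cj : ∀ y < 4, ([0, 1, 3, 2] : List ℕ).getD y 0 < 4 := by decide
  have hx9 : x 9 = [0, 1, 3, 2].getD (x 1) 0 := by
    have e := Tc _ (lt 1 (by norm_num))
    rw [c1, show app T (4 ^ 9) = x 9 * 4 ^ 9 from hx1 9, show app T (4 ^ 1) = x 1 * 4 ^ 1 from hx1 1,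
      (cyc_facts _ (hx 1)).1, mw_zero _ (cj _ (hx 1))] at e
    omega
  have hx8 : x 8 = [0, 1, 3, 2].getD (x 2) 0 := by
    have e := Tc _ (lt 2 (by norm_num))
    rw [c2, show app T (4 ^ 8) = x 8 * 4 ^ 8 from hx1 8, show app T (4 ^ 2) = x 2 * 4 ^ 2 from hx1 2,
      (cyc_facts _ (hx 2)).2.1, mw_zero _ (cj _ (hx 2))] at e
    omega
  have hx7 : x 7 = [0, 1, 3, 2].getD (x 3) 0 := by
    have e := Tc _ (lt 3 (by norm_num))
    rw [c3, show app T (4 ^ 7) = x 7 * 4 ^ 7 from hx1 7, show app T (4 ^ 3) = x 3 * 4 ^ 3 from hx1 3,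
      (cyc_facts _ (hx 3)).2.2.1, mw_zero _ (cj _ (hx 3))] at e
    omega
  have hx4 : x 4 = x 1 := by
    have e := Tc _ (lt 4 (by norm_num))
    rw [c4, show app T (4 ^ 1) = x 1 * 4 ^ 1 from hx1 1, show app T (4 ^ 4) = x 4 * 4 ^ 4 from hx1 4,
      (cyc_facts _ (hx 4)).2.2.2.1] at e
    omega
  have hx5 : x 5 = x 2 := by
    have e := Tc _ (lt 5 (by norm_num))
    rw [c5, show app T (4 ^ 2) = x 2 * 4 ^ 2 from hx1 2, show app T (4 ^ 5) = x 5 * 4 ^ 5 from hx1 5,
      (cyc_facts _ (hx 5)).2.2.2.2.1] at e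
    omega
  have hx6 : x 6 = x 3 := by
    have e := Tc _ (lt 6 (by norm_num))
    rw [c6, show app T (4 ^ 3) = x 3 * 4 ^ 3 from hx1 3, show app T (4 ^ 6) = x 6 * 4 ^ 6 from hx1 6,
      (cyc_facts _ (hx 6)).2.2.2.2.2] at e
    omega
  have eT : T = scaleMat [1, x 1, x 2, x 3, x 1, x 2, x 3, [0, 1, 3, 2].getD (x 3) 0,
      [0, 1, 3, 2].getD (x 2) 0, [0, 1, 3, 2].getD (x 1) 0] := by
    have eL : ∀ P : Fin 10, ([1, x 1, x 2, x 3, x 1, x 2, x 3, [0, 1, 3, 2].getD (x 3) 0,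
        [0, 1, 3, 2].getD (x 2) 0, [0, 1, 3, 2].getD (x 1) 0] : List ℕ).getD (P : ℕ) 0 = x P := fun P => by
      fin_cases P <;> simp [x0, hx4, hx5, hx6, hx7, hx8, hx9]
    refine List.ext_getElem (by rw [(ok_iff.1 hTok).1, scaleMat, List.length_ofFn]) fun k hk hk' => ?_
    have hk20 : k < 20 := by rw [(ok_iff.1 hTok).1] at hk; exact hk
    simp only [scaleMat, List.getElem_ofFn]
    rw [show T[k] = app T (2 ^ k) by rw [app_bit, List.getD_eq_getElem _ _ hk], eL ⟨k / 2, by omega⟩]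
    obtain ⟨r, rfl | rfl⟩ : ∃ r, k = 2 * r ∨ k = 2 * r + 1 := ⟨k / 2, by omega⟩
    · simp only [Nat.mul_mod_right, if_true, Nat.mul_div_cancel_left _ (by norm_num : 0 < 2)]
      rw [mw_zero _ (hx _), show 2 ^ (2 * r) = 4 ^ r by rw [pow_mul]; norm_num]
      exact hx1 ⟨r, by omega⟩
    · simp only [show (2 * r + 1) % 2 = 1 by omega, show (2 * r + 1) / 2 = r by omega, one_ne_zero, if_false]
      rw [show 2 ^ (2 * r + 1) = 2 * 4 ^ r by rw [pow_succ', pow_mul]; norm_num]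
      exact hx2 ⟨r, by omega⟩
  have eM : M = mu blkM T := by
    refine list_ext (ok_iff.1 hM).1 (by rw [mu_length, (ok_iff.1 hTok).1]) fun v _ => ?_
    rw [hT, app_mu, app_mu, ← app_mu blkM, hBB, app_idm (app_ok_lt hM v)]
  obtain ⟨a1, b1, c1'⟩ := scale_final (hx 1) (hx 2) (hx 3) (by rw [show scaleMat (expand (x 1) (x 2) (x 3)) = T from eT.symm, ← eM]; exact h4)
  rw [eM, eT, a1, b1, c1']
  decide +kernel

theorem hB_facts : gB * hB * tor (1, 0, 0, 2) = tor (1, 0, 0, 2) * hB ∧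
    hB * (tor (1, 0, 0, 2) * hB * tor (2, 0, 0, 1)) =
      pm (permOf swW) * ((tor (1, 0, 0, 2) * hB * tor (2, 0, 0, 1)) * hB) ∧
    gB * gB * gB * gB = 1 ∧
    gB * tor (0, 1, 2, 0) = dg ![2, 1, 0, 0, 0, 0] * pm (permOf cycW) * gB ∧
    gB * pm (permOf cycW) = dg ![1, 2, 0, 0, 0, 0] * pm (permOf cycW) * gB ∧
    (∀ t ∈ eGen, gB * tor t = tor t * gB ∧ hB * tor t = tor t * hB) := by
  refine ⟨suVal_ext ?_, suVal_ext ?_, suVal_ext ?_, suVal_ext ?_, suVal_ext ?_, fun t ht => ?_⟩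
  iterate 5 decide +kernel
  simp only [eGen, List.mem_cons, List.not_mem_nil, or_false] at ht
  rcases ht with rfl | rfl <;> exact ⟨suVal_ext (by decide +kernel), suVal_ext (by decide +kernel)⟩

theorem line_small : ∀ x < 4, app (wmat swW) x = x := by decide +kernel

theorem line_comm : ∀ a < 4, ∀ b < 4,
    (∀ x < 4, app [a, b] (mw 1 (app [a, b] (mw 2 x))) = mw 1 (app [a, b] (mw 2 (app [a, b] x)))) →
      ∀ x < 4, mw 1 (app [a, b] x) = app [a, b] (mw 1 x) := by decide +kernel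

theorem line_tor : ∀ x < 4, app (torMat (1, 0, 0, 2)) x = mw 1 x ∧ app (torMat (2, 0, 0, 1)) x = mw 2 x ∧
    app (torMat (0, 0, 0, 1)) x = x ∧ app (torMat (1, 1, 1, 0)) x = x := by decide +kernel

theorem line_eGen {x : ℕ} (hx : x < 4) : ∀ t ∈ eGen, app (torMat t) x = x := by
  intro t ht
  simp only [eGen, List.mem_cons, List.not_mem_nil, or_false] at ht
  rcases ht with rfl | rfl
  exacts [(line_tor x hx).2.2.1, (line_tor x hx).2.2.2]

theorem line_sep : ∀ Q : Fin 10, Q ≠ 0 → psi Q (0, 0, 0, 1) ≠ 0 ∨ psi Q (1, 1, 1, 0) ≠ 0 := by decide +kernel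

/-- A generator of the group. -/
def sgen : ℕ → SU6
  | 0 => tor (1, 0, 0, 0)
  | 1 => tor (0, 1, 0, 0)
  | 2 => tor (0, 0, 1, 0)
  | 3 => tor (0, 0, 0, 1)
  | 4 => pm (genP false)
  | 5 => pm (genP true)
  | 6 => gB
  | _ => 1

/-- The element of a word. -/
def el : List ℕ → SU6
  | [] => 1
  | i :: w => sgen i * el w

namespace Rep

variable {W : Type*} [AddCommGroup W] (R : Rep W)
include R

theorem exists_mat (f : AddMonoid.End W) : ∃ M, R.Rel f M := by
  choose m hm e using fun k : Fin 20 => R.phi_surj (f (R.phi (2 ^ (k : ℕ))))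
  refine ⟨List.ofFn m, Rel.of_basis (ok_iff.2 ⟨List.length_ofFn, ?_⟩) fun k => ?_⟩
  · intro x hx
    obtain ⟨k, rfl⟩ := List.mem_ofFn.1 hx
    exact hm k
  · rw [List.getD_eq_getElem _ _ (by simp), List.getElem_ofFn]
    exact (e k).symm

theorem rel_perm_word : ∀ w : List ℕ, (∀ i ∈ w, i = 4 ∨ i = 5) → R.Rel (R.ρ (pm (permOf w))) (wmat w)
  | [], _ => by
    show R.Rel (R.ρ (pm 1)) idm
    rw [show pm 1 = 1 from pmHom.map_one, map_one]
    exact Rel.one
  | i :: w, h => by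
    have ih := rel_perm_word w fun j hj => h j (List.mem_cons_of_mem _ hj)
    rw [permOf, ← pm_mul, map_mul, wmat]
    rcases h i (List.mem_cons_self ..) with rfl | rfl
    · rw [gens_perm.1, if_pos rfl]
      exact (Rel.perm false).mul ih
    · rw [gens_perm.2, if_neg (by norm_num)]
      exact (Rel.perm true).mul ih

theorem rho_gB : R.Rel (R.ρ gB) blkM := by
  obtain ⟨hcomm, hswap, hfour, hd, hc, he⟩ := hB_facts
  obtain ⟨M, hM⟩ := R.exists_mat (R.ρ gB)
  obtain ⟨MH, hMH⟩ := R.exists_mat (R.ρ hB)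
  have hw : ∀ i ∈ cycW, i = 4 ∨ i = 5 := by decide
  have hs : ∀ i ∈ swW, i = 4 ∨ i = 5 := by decide
  have unit : ∀ x, x < N20 → app idm x = x := fun x hx => app_idm hx
  have line : ∀ (s : SU6) (N : List ℕ), R.Rel (R.ρ s) N → (∀ t ∈ eGen, s * tor t = tor t * s) →
      ∀ x < 4, app N x < 4 := by
    intro s N hN hst x hx
    have hlt := app_ok_lt hN.1 x
    have fix : ∀ t ∈ eGen, app (torMat t) (app N x) = app N x := by
      intro t ht
      have h1 : R.Rel (R.ρ (s * tor t)) (mu N (torMat t)) := by rw [map_mul]; exact hN.mul (Rel.tor t)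
      have h2 : R.Rel (R.ρ (s * tor t)) (mu (torMat t) N) := by
        rw [hst t ht, map_mul]; exact (Rel.tor t).mul hN
      rw [← app_mu, ← h1.unique h2, app_mu, (line_eGen hx t ht)]
    have hz : ∀ Q : Fin 10, Q ≠ 0 → dig Q (app N x) = 0 := by
      intro Q hQ
      rcases line_sep Q hQ with h | h
      · have e := dig_tor (0, 0, 0, 1) Q hlt
        rw [fix _ (by simp [eGen])] at e
        exact mw_fix _ _ (dig_lt ..) h e.symm
      · have e := dig_tor (1, 1, 1, 0) Q hlt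
        rw [fix _ (by simp [eGen])] at e
        exact mw_fix _ _ (dig_lt ..) h e.symm
    have e : app N x = dig (0 : Fin 10) (app N x) * 4 ^ ((0 : Fin 10) : ℕ) := by
      refine eq_of_dig hlt (put_facts 0 _ (dig_lt ..)).1 fun Q hQ => ?_
      rw [(put_facts 0 _ (dig_lt ..)).2 ⟨Q, hQ⟩]
      by_cases h0 : (⟨Q, hQ⟩ : Fin 10) = 0
      · rw [if_pos h0, ← h0]
      · rw [if_neg h0]; exact hz ⟨Q, hQ⟩ h0
    rw [e]
    simpa using dig_lt _ _
  have hH := line hB MH hMH fun t ht => (he t ht).2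
  have hHl : ∀ x < 4, app MH x = app [app MH 1, app MH 2] x := by
    intro x hx
    rcases (show x = 0 ∨ x = 1 ∨ x = 2 ∨ x = 3 by omega) with rfl | rfl | rfl | rfl
    · simp [app_zero, app]
    · simp [app]
    · simp [app]
    · rw [show (3 : ℕ) = 1 ^^^ 2 from rfl, app_xor]; simp [app]
  have relH' : R.Rel (R.ρ (tor (1, 0, 0, 2) * hB * tor (2, 0, 0, 1)))
      (mu (mu (torMat (1, 0, 0, 2)) MH) (torMat (2, 0, 0, 1))) := by
    rw [map_mul, map_mul]
    exact ((Rel.tor _).mul hMH).mul (Rel.tor _)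
  have hswap' : mu MH (mu (mu (torMat (1, 0, 0, 2)) MH) (torMat (2, 0, 0, 1))) =
      mu (wmat swW) (mu (mu (mu (torMat (1, 0, 0, 2)) MH) (torMat (2, 0, 0, 1))) MH) := by
    refine Rel.unique (R := R) (f := R.ρ (hB * (tor (1, 0, 0, 2) * hB * tor (2, 0, 0, 1)))) ?_ ?_
    · rw [map_mul]; exact hMH.mul relH'
    · rw [hswap, map_mul, map_mul _ _ hB]
      exact (R.rel_perm_word swW hs).mul (relH'.mul hMH)
  have m1 : ∀ j : ZMod 3, ∀ x < 4, mw j x < 4 := by decide
  have hlin : ∀ x < 4, mw 1 (app MH x) = app MH (mw 1 x) := by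
    intro x hx
    have key := line_comm _ (hH 1 (by norm_num)) _ (hH 2 (by norm_num)) fun y hy => by
      have e := congrArg (fun N => app N y) hswap'
      simp only [app_mu, (line_tor y hy).2.1] at e
      have y2 := m1 2 y hy
      rw [(line_tor _ (hH _ y2)).1, (line_tor _ (hH _ hy)).2.1, (line_tor _ (hH _ (m1 2 _ (hH _ hy)))).1,
        line_small _ (m1 1 _ (hH _ (m1 2 _ (hH _ hy))))] at e
      rwa [hHl _ (m1 1 _ (hH _ y2)), hHl _ y2, hHl y hy, hHl _ (m1 2 _ (by rw [← hHl y hy]; exact hH y hy))] at e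
    rw [hHl x hx, key x hx, ← hHl _ (m1 1 x hx)]
  have hgH : mu (mu M MH) (torMat (1, 0, 0, 2)) = mu (torMat (1, 0, 0, 2)) MH := by
    refine Rel.unique (R := R) (f := R.ρ (gB * hB * tor (1, 0, 0, 2))) ?_ ?_
    · rw [map_mul, map_mul]; exact (hM.mul hMH).mul (Rel.tor _)
    · rw [hcomm, map_mul]; exact (Rel.tor _).mul hMH
  obtain ⟨MI, hMI⟩ := R.exists_mat (R.ρ hB⁻¹)
  have hHI := line hB⁻¹ MI hMI fun t ht => by
    have := (he t ht).2
    rw [inv_mul_eq_iff_eq_mul, ← mul_assoc, this, mul_inv_cancel_right]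
  have hinv : mu MH MI = idm := by
    refine Rel.unique (R := R) (f := R.ρ (hB * hB⁻¹)) ?_ ?_
    · rw [map_mul]; exact hMH.mul hMI
    · rw [mul_inv_cancel, map_one]; exact Rel.one
  have hM0 : ∀ x < 4, app M x = x := by
    intro y hy
    have hy' : app MH (app MI y) = y := by rw [← app_mu, hinv, app_idm (lt_of_lt_of_le hy (by norm_num))]
    set z := app MI y
    have hz : z < 4 := hHI y hy
    have e := congrArg (fun N => app N (mw 2 z)) hgH
    simp only [app_mu, (line_tor _ (m1 2 z hz)).1] at e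
    rw [(line_tor _ (hH _ (m1 2 z hz))).1, hlin _ (m1 2 z hz),
      show mw 1 (mw 2 z) = z by rw [← (mw_add 1 2 z hz).1]; exact mw_zero z hz, hy'] at e
    exact e
  have hrel : ∀ (a b : SU6) (A B : List ℕ), R.Rel (R.ρ a) A → R.Rel (R.ρ b) B → gB * a = b * gB →
      mu M A = mu B M := by
    intro a b A B ha hb e
    refine Rel.unique (R := R) (f := R.ρ (gB * a)) ?_ ?_
    · rw [map_mul]; exact hM.mul ha
    · rw [e, map_mul]; exact hb.mul hM
  have hdgpm : ∀ c : Fin 6 → ZMod 3, ∑ i, c i = 0 →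
      R.Rel (R.ρ (dg c * pm (permOf cycW))) (mu (torMat (res c)) cycM) := fun c hc => by
    rw [map_mul, R.rho_dg hc]
    exact (Rel.tor _).mul (R.rel_perm_word cycW hw)
  have := block_unique hM.1 (fun t ht => hrel _ _ _ _ (Rel.tor t) (Rel.tor t) (he t ht).1)
    (hrel _ _ _ _ (Rel.tor _) (hdgpm _ (by decide)) hd)
    (hrel _ _ _ _ (R.rel_perm_word cycW hw) (hdgpm _ (by decide)) hc) hM0 (by
      refine Rel.unique (R := R) (f := R.ρ (gB * gB * gB * gB)) ?_ ?_
      · rw [show gB * gB * gB * gB = gB * (gB * (gB * (gB * 1))) by group, map_mul, map_mul, map_mul, map_mul,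
          map_one]
        exact hM.mul (hM.mul (hM.mul (hM.mul Rel.one)))
      · rw [hfour, map_one]; exact Rel.one)
  rwa [this] at hM

theorem rel_sgen : ∀ i : ℕ, R.Rel (R.ρ (sgen i)) (gens.getD i idm)
  | 0 => by rw [gens_tor.1]; exact Rel.tor _
  | 1 => by rw [gens_tor.2.1]; exact Rel.tor _
  | 2 => by rw [gens_tor.2.2.1]; exact Rel.tor _
  | 3 => by rw [gens_tor.2.2.2]; exact Rel.tor _
  | 4 => by rw [gens_perm.1]; exact Rel.perm false
  | 5 => by rw [gens_perm.2]; exact Rel.perm true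
  | 6 => R.rho_gB
  | n + 7 => by
    rw [List.getD_eq_default _ _ (by simp [gens]), show sgen (n + 7) = 1 from rfl, map_one]
    exact Rel.one

/-- The element of a word acts as its matrix. -/
theorem rel_el : ∀ w : List ℕ, R.Rel (R.ρ (el w)) (wmat w)
  | [] => by
    show R.Rel (R.ρ 1) idm
    rw [map_one]
    exact Rel.one
  | i :: w => by
    show R.Rel (R.ρ (sgen i * el w)) _
    rw [map_mul]
    exact (R.rel_sgen i).mul (rel_el w)

end Rep

end Cfsg.Agent.Fus.U62Module
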