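import Cfsg.Agent.Lib.Fus.U62Module.Code

/-!
The twenty-dimensional module of `U₆(2)`: certificates for the five classes of involutions.
-/

set_option autoImplicit false
set_option linter.style.longLine false

namespace Cfsg.Agent.Fus.U62Module

/-- The projection onto the classes (t1). -/
def oneP : List ℕ :=
  [1, 2, 4, 8, 16, 32, 64, 128, 0, 0, 0, 0, 0, 0, 0, 0, 0, 0, 0, 0]

/-- The trivial part (t1). -/
def oneB : List ℕ :=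
  [0, 0, 0, 0, 0, 0, 0, 0, 0, 0, 0, 0, 0, 0, 4096, 12288, 1024, 3072, 256, 768]

/-- The correction (t1). -/
def oneQ : List ℕ :=
  [0, 0, 0, 0, 0, 0, 0, 0, 0, 0, 0, 0, 0, 0, 4096, 12288, 1024, 3072, 256, 768]

/-- The words (t1). -/
def oneW : List (List ℕ) :=
  [[3],
    [2],
    [2, 3, 3],
    [0, 1, 2, 3],
    [0, 1, 2, 3, 3],
    [0, 1, 2, 2, 3],
    [5, 5, 4, 5, 4, 5, 5, 5],
    [2, 3, 3, 5, 5, 4, 5, 4, 5, 5, 5],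
    [2, 2, 3, 5, 5, 4, 5, 4, 5, 5, 5],
    [0, 1, 5, 5, 4, 5, 4, 5, 5, 5],
    [0, 1, 2, 3, 3, 5, 5, 4, 5, 4, 5, 5, 5],
    [0, 1, 2, 2, 3, 5, 5, 4, 5, 4, 5, 5, 5],
    [0, 0, 1, 1, 5, 5, 4, 5, 4, 5, 5, 5],
    [0, 0, 1, 1, 2, 3, 3, 5, 5, 4, 5, 4, 5, 5, 5],
    [0, 0, 1, 1, 2, 2, 3, 5, 5, 4, 5, 4, 5, 5, 5],
    [5, 5, 5, 4, 5, 4, 5, 5],
    [3, 5, 5, 5, 4, 5, 4, 5, 5],
    [3, 3, 5, 5, 5, 4, 5, 4, 5, 5],
    [0, 1, 2, 5, 5, 5, 4, 5, 4, 5, 5],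
    [0, 1, 2, 3, 5, 5, 5, 4, 5, 4, 5, 5],
    [0, 1, 2, 3, 3, 5, 5, 5, 4, 5, 4, 5, 5],
    [0, 0, 1, 1, 2, 2, 5, 5, 5, 4, 5, 4, 5, 5],
    [0, 0, 1, 1, 2, 2, 3, 5, 5, 5, 4, 5, 4, 5, 5],
    [0, 0, 1, 1, 2, 2, 3, 3, 5, 5, 5, 4, 5, 4, 5, 5],
    [5, 4, 5, 5, 4, 5, 5, 5, 4, 5],
    [2, 5, 4, 5, 5, 4, 5, 5, 5, 4, 5],
    [2, 2, 5, 4, 5, 5, 4, 5, 5, 5, 4, 5],
    [0, 1, 3, 5, 4, 5, 5, 4, 5, 5, 5, 4, 5],
    [0, 1, 2, 3, 5, 4, 5, 5, 4, 5, 5, 5, 4, 5],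
    [0, 1, 2, 2, 3, 5, 4, 5, 5, 4, 5, 5, 5, 4, 5],
    [0, 0, 1, 1, 3, 3, 5, 4, 5, 5, 4, 5, 5, 5, 4, 5],
    [0, 0, 1, 1, 2, 3, 3, 5, 4, 5, 5, 4, 5, 5, 5, 4, 5],
    [0, 0, 1, 1, 2, 2, 3, 3, 5, 4, 5, 5, 4, 5, 5, 5, 4, 5],
    [5, 4, 5, 5, 5, 4, 5, 5, 4, 5],
    [3, 5, 4, 5, 5, 5, 4, 5, 5, 4, 5],
    [3, 3, 5, 4, 5, 5, 5, 4, 5, 5, 4, 5],
    [2, 5, 4, 5, 5, 5, 4, 5, 5, 4, 5],
    [2, 3, 5, 4, 5, 5, 5, 4, 5, 5, 4, 5],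
    [2, 3, 3, 5, 4, 5, 5, 5, 4, 5, 5, 4, 5],
    [2, 2, 5, 4, 5, 5, 5, 4, 5, 5, 4, 5],
    [2, 2, 3, 5, 4, 5, 5, 5, 4, 5, 5, 4, 5],
    [2, 2, 3, 3, 5, 4, 5, 5, 5, 4, 5, 5, 4, 5]]

/-- The certificate (t1). -/
def oneC : List (ℕ × ℕ) :=
  [(0, 0), (0, 0), (0, 0), (0, 0), (1, 0), (3, 0), (3, 0), (3, 0),
    (1, 0), (3, 0), (3, 0), (3, 0), (1, 0), (3, 0), (3, 0), (3, 0),
    (0, 0), (0, 0), (0, 0), (0, 0), (1, 0), (6, 0), (7, 0), (8, 0),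
    (1, 0), (10, 0), (11, 0), (9, 0), (1, 0), (14, 0), (12, 0), (13, 0),
    (0, 0), (0, 0), (0, 0), (0, 0), (1, 0), (13, 0), (14, 0), (12, 0),
    (1, 0), (8, 0), (6, 0), (7, 0), (1, 0), (9, 0), (10, 0), (11, 0),
    (0, 0), (0, 0), (0, 0), (0, 0), (1, 0), (11, 0), (9, 0), (10, 0),
    (1, 0), (12, 0), (13, 0), (14, 0), (1, 0), (7, 0), (8, 0), (6, 0),
    (2, 0), (4, 0), (4, 0), (4, 0), (5, 0), (33, 0), (38, 0), (40, 0),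
    (5, 0), (34, 0), (36, 0), (41, 0), (5, 0), (35, 0), (37, 0), (39, 0),
    (2, 0), (24, 0), (29, 0), (31, 0), (15, 0), (6, 0), (7, 0), (8, 0),
    (20, 0), (10, 0), (11, 0), (9, 0), (22, 0), (14, 0), (12, 0), (13, 0),
    (2, 0), (32, 0), (25, 0), (27, 0), (23, 0), (13, 0), (14, 0), (12, 0),
    (16, 0), (8, 0), (6, 0), (7, 0), (18, 0), (9, 0), (10, 0), (11, 0),
    (2, 0), (28, 0), (30, 0), (26, 0), (19, 0), (11, 0), (9, 0), (10, 0),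
    (21, 0), (12, 0), (13, 0), (14, 0), (17, 0), (7, 0), (8, 0), (6, 0),
    (2, 0), (4, 0), (4, 0), (4, 0), (5, 0), (39, 0), (35, 0), (37, 0),
    (5, 0), (40, 0), (33, 0), (38, 0), (5, 0), (41, 0), (34, 0), (36, 0),
    (2, 0), (26, 0), (28, 0), (30, 0), (17, 0), (6, 0), (7, 0), (8, 0),
    (19, 0), (10, 0), (11, 0), (9, 0), (21, 0), (14, 0), (12, 0), (13, 0),
    (2, 0), (31, 0), (24, 0), (29, 0), (22, 0), (13, 0), (14, 0), (12, 0),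
    (15, 0), (8, 0), (6, 0), (7, 0), (20, 0), (9, 0), (10, 0), (11, 0),
    (2, 0), (27, 0), (32, 0), (25, 0), (18, 0), (11, 0), (9, 0), (10, 0),
    (23, 0), (12, 0), (13, 0), (14, 0), (16, 0), (7, 0), (8, 0), (6, 0),
    (2, 0), (4, 0), (4, 0), (4, 0), (5, 0), (36, 0), (41, 0), (34, 0),
    (5, 0), (37, 0), (39, 0), (35, 0), (5, 0), (38, 0), (40, 0), (33, 0),
    (2, 0), (25, 0), (27, 0), (32, 0), (16, 0), (6, 0), (7, 0), (8, 0),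
    (18, 0), (10, 0), (11, 0), (9, 0), (23, 0), (14, 0), (12, 0), (13, 0),
    (2, 0), (30, 0), (26, 0), (28, 0), (21, 0), (13, 0), (14, 0), (12, 0),
    (17, 0), (8, 0), (6, 0), (7, 0), (19, 0), (9, 0), (10, 0), (11, 0),
    (2, 0), (29, 0), (31, 0), (24, 0), (20, 0), (11, 0), (9, 0), (10, 0),
    (22, 0), (12, 0), (13, 0), (14, 0), (15, 0), (7, 0), (8, 0), (6, 0)]

/-- The word of the involution (t1). -/
def oneT : List ℕ := [4]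

/-- The projection onto the classes (t2). -/
def twoP : List ℕ :=
  [0, 0, 0, 0, 16, 32, 64, 128, 0, 0, 0, 0, 0, 0, 0, 0, 0, 0, 0, 0]

/-- The trivial part (t2). -/
def twoB : List ℕ :=
  [0, 0, 1, 2, 0, 0, 0, 0, 0, 0, 0, 0, 1024, 3072, 0, 0, 16384, 49152, 256, 768]

/-- The correction (t2). -/
def twoQ : List ℕ :=
  [0, 0, 1, 2, 0, 0, 0, 0, 0, 0, 0, 0, 1024, 3072, 0, 0, 16384, 49152, 256, 768]

/-- The words (t2). -/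
def twoW : List (List ℕ) :=
  [[2, 3],
    [0, 1]]

/-- The certificate (t2). -/
def twoC : List (ℕ × ℕ) :=
  [(0, 0), (0, 0), (0, 0), (0, 0), (1, 0), (2, 0), (2, 0), (2, 0),
    (1, 0), (2, 0), (2, 0), (2, 0), (1, 0), (2, 0), (2, 0), (2, 0)]

/-- The word of the involution (t2). -/
def twoT : List ℕ := [4, 5, 5, 4, 5, 5, 5, 5]

/-- The projection onto the classes (t3). -/
def threeP : List ℕ :=
  [0, 0, 0, 0, 0, 0, 0, 0, 0, 0, 0, 0, 0, 0, 0, 0, 0, 0, 0, 0]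

/-- The trivial part (t3). -/
def threeB : List ℕ :=
  [0, 0, 1, 2, 0, 0, 16, 32, 0, 0, 2048, 0, 8192, 0, 32768, 0, 131072, 0, 256, 768]

/-- The correction (t3). -/
def threeQ : List ℕ :=
  [0, 0, 1, 2, 0, 0, 16, 32, 0, 0, 2048, 0, 8192, 0, 32768, 0, 131072, 0, 256, 768]

/-- The words (t3). -/
def threeW : List (List ℕ) :=
  [[0, 1, 2, 2, 3, 3]]

/-- The certificate (t3). -/
def threeC : List (ℕ × ℕ) :=
  [(0, 0)]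

/-- The word of the involution (t3). -/
def threeT : List ℕ := [4, 5, 5, 4, 5, 5, 4, 5, 5]

/-- The projection onto the classes (s). -/
def conjP : List ℕ :=
  [0, 0, 0, 0, 0, 0, 0, 0, 0, 0, 0, 0, 0, 0, 0, 0, 0, 0, 0, 0]

/-- The trivial part (s). -/
def conjB : List ℕ :=
  [2, 0, 8, 0, 32, 0, 128, 0, 512, 0, 2048, 0, 8192, 0, 32768, 0, 131072, 0, 524288, 0]

/-- The correction (s). -/
def conjQ : List ℕ :=
  [2, 0, 8, 0, 32, 0, 128, 0, 512, 0, 2048, 0, 8192, 0, 32768, 0, 131072, 0, 524288, 0]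

/-- The words (s). -/
def conjW : List (List ℕ) :=
  [[5, 5]]

/-- The certificate (s). -/
def conjC : List (ℕ × ℕ) :=
  [(0, 0)]

/-- The projection onto the classes (st3). -/
def conjThreeP : List ℕ :=
  [0, 0, 0, 0, 0, 0, 0, 0, 0, 0, 1024, 2048, 4096, 8192, 16384, 32768, 65536, 131072, 0, 0]

/-- The trivial part (st3). -/
def conjThreeB : List ℕ :=
  [0, 0, 1, 3, 0, 0, 16, 48, 0, 0, 0, 0, 0, 0, 0, 0, 0, 0, 256, 512]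

/-- The correction (st3). -/
def conjThreeQ : List ℕ :=
  [0, 0, 1, 3, 0, 0, 16, 48, 0, 0, 0, 0, 0, 0, 0, 0, 0, 0, 256, 512]

/-- The words (st3). -/
def conjThreeW : List (List ℕ) :=
  [[2, 3, 3],
    [1, 3],
    [1, 2],
    [1, 2, 2, 3, 3],
    [0, 2, 2, 3, 3],
    [0, 1, 3, 3],
    [0, 1, 2, 2],
    [0, 1, 1, 2, 3, 3],
    [0, 1, 1, 2, 2, 3],
    [5, 5],
    [1, 3, 5, 5],
    [1, 1, 3, 3, 5, 5],
    [0, 2, 2, 3, 3, 5, 5],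
    [0, 1, 2, 2, 5, 5],
    [0, 1, 1, 2, 2, 3, 5, 5],
    [0, 0, 2, 3, 5, 5],
    [0, 0, 1, 2, 3, 3, 5, 5],
    [0, 0, 1, 1, 2, 5, 5],
    [4, 5, 5, 4],
    [1, 2, 2, 3, 3, 4, 5, 5, 4],
    [1, 1, 2, 3, 4, 5, 5, 4],
    [0, 3, 4, 5, 5, 4],
    [0, 1, 2, 2, 4, 5, 5, 4],
    [0, 1, 1, 2, 3, 3, 4, 5, 5, 4],
    [0, 0, 3, 3, 4, 5, 5, 4],
    [0, 0, 1, 2, 2, 3, 4, 5, 5, 4],
    [0, 0, 1, 1, 2, 4, 5, 5, 4],
    [4, 5, 5, 4, 5, 5],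
    [1, 2, 4, 5, 5, 4, 5, 5],
    [1, 1, 2, 2, 4, 5, 5, 4, 5, 5],
    [0, 2, 2, 3, 3, 4, 5, 5, 4, 5, 5],
    [0, 1, 3, 3, 4, 5, 5, 4, 5, 5],
    [0, 1, 1, 2, 3, 3, 4, 5, 5, 4, 5, 5],
    [0, 0, 2, 3, 4, 5, 5, 4, 5, 5],
    [0, 0, 1, 2, 2, 3, 4, 5, 5, 4, 5, 5],
    [0, 0, 1, 1, 3, 4, 5, 5, 4, 5, 5],
    [5, 5, 4, 5, 5, 4],
    [1, 2, 2, 3, 3, 5, 5, 4, 5, 5, 4],
    [1, 1, 2, 3, 5, 5, 4, 5, 5, 4],
    [0, 2, 5, 5, 4, 5, 5, 4],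
    [0, 1, 3, 3, 5, 5, 4, 5, 5, 4],
    [0, 1, 1, 2, 2, 3, 5, 5, 4, 5, 5, 4],
    [0, 0, 2, 2, 5, 5, 4, 5, 5, 4],
    [0, 0, 1, 2, 3, 3, 5, 5, 4, 5, 5, 4],
    [0, 0, 1, 1, 3, 5, 5, 4, 5, 5, 4]]

/-- The certificate (st3). -/
def conjThreeC : List (ℕ × ℕ) :=
  [(0, 0), (1, 0), (1, 0), (1, 0), (3, 0), (8, 0), (8, 0), (8, 0),
    (3, 0), (8, 0), (8, 0), (8, 0), (3, 0), (8, 0), (8, 0), (8, 0),
    (2, 0), (4, 0), (4, 0), (4, 0), (5, 0), (18, 0), (25, 0), (23, 0),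
    (5, 0), (26, 0), (21, 0), (19, 0), (5, 0), (22, 0), (20, 0), (24, 0),
    (2, 0), (4, 0), (4, 0), (4, 0), (5, 0), (20, 0), (24, 0), (22, 0),
    (5, 0), (25, 0), (23, 0), (18, 0), (5, 0), (21, 0), (19, 0), (26, 0),
    (2, 0), (4, 0), (4, 0), (4, 0), (5, 0), (19, 0), (26, 0), (21, 0),
    (5, 0), (24, 0), (22, 0), (20, 0), (5, 0), (23, 0), (18, 0), (25, 0),
    (3, 0), (6, 0), (6, 0), (6, 0), (3, 0), (27, 0), (34, 0), (32, 0),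
    (3, 0), (30, 0), (28, 0), (35, 0), (3, 0), (33, 0), (31, 0), (29, 0),
    (7, 0), (36, 0), (40, 0), (44, 0), (9, 0), (9, 0), (9, 0), (9, 0),
    (12, 0), (12, 0), (12, 0), (12, 0), (15, 0), (15, 0), (15, 0), (15, 0),
    (7, 0), (38, 0), (39, 0), (43, 0), (13, 0), (13, 0), (13, 0), (13, 0),
    (16, 0), (16, 0), (16, 0), (16, 0), (10, 0), (10, 0), (10, 0), (10, 0),
    (7, 0), (37, 0), (41, 0), (42, 0), (17, 0), (17, 0), (17, 0), (17, 0),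
    (11, 0), (11, 0), (11, 0), (11, 0), (14, 0), (14, 0), (14, 0), (14, 0),
    (3, 0), (6, 0), (6, 0), (6, 0), (3, 0), (35, 0), (30, 0), (28, 0),
    (3, 0), (29, 0), (33, 0), (31, 0), (3, 0), (32, 0), (27, 0), (34, 0),
    (7, 0), (43, 0), (38, 0), (39, 0), (16, 0), (16, 0), (16, 0), (16, 0),
    (10, 0), (10, 0), (10, 0), (10, 0), (13, 0), (13, 0), (13, 0), (13, 0),
    (7, 0), (42, 0), (37, 0), (41, 0), (11, 0), (11, 0), (11, 0), (11, 0),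
    (14, 0), (14, 0), (14, 0), (14, 0), (17, 0), (17, 0), (17, 0), (17, 0),
    (7, 0), (44, 0), (36, 0), (40, 0), (12, 0), (12, 0), (12, 0), (12, 0),
    (15, 0), (15, 0), (15, 0), (15, 0), (9, 0), (9, 0), (9, 0), (9, 0),
    (3, 0), (6, 0), (6, 0), (6, 0), (3, 0), (31, 0), (29, 0), (33, 0),
    (3, 0), (34, 0), (32, 0), (27, 0), (3, 0), (28, 0), (35, 0), (30, 0),
    (7, 0), (41, 0), (42, 0), (37, 0), (14, 0), (14, 0), (14, 0), (14, 0),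
    (17, 0), (17, 0), (17, 0), (17, 0), (11, 0), (11, 0), (11, 0), (11, 0),
    (7, 0), (40, 0), (44, 0), (36, 0), (15, 0), (15, 0), (15, 0), (15, 0),
    (9, 0), (9, 0), (9, 0), (9, 0), (12, 0), (12, 0), (12, 0), (12, 0),
    (7, 0), (39, 0), (43, 0), (38, 0), (10, 0), (10, 0), (10, 0), (10, 0),
    (13, 0), (13, 0), (13, 0), (13, 0), (16, 0), (16, 0), (16, 0), (16, 0)]

/-- The word of the involution (st3). -/
def conjThreeT : List ℕ := [4, 5, 5, 4, 5, 5, 4, 5, 5]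

/-- The words moving the bad classes to one. -/
def twoBadW : List (List ℕ) :=
  [[], [], [], [], [], [], [0, 1], [0, 0, 1, 1], [], [2, 2, 3, 3], [0, 1, 2, 2, 3, 3], [0, 0, 1, 1, 2, 2, 3, 3], [], [2, 3], [0, 1, 2, 3], [0, 0, 1, 1, 2, 3]]

/-- A basis of the fixed space of the middle involution (Even). -/
def fixEven : List ℕ :=
  [5, 10, 80, 96, 112, 144, 5120, 11264, 81920, 180224, 262400, 525056]

/-- A basis of the module (Even). -/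
def allEven : List ℕ :=
  [5, 6, 7, 9, 17, 33, 65, 129, 257, 513, 1025, 2049, 4097, 8193, 16385, 32769, 65537, 131073, 262145, 524289]

/-- A basis of the fixed space of the middle involution (Odd). -/
def fixOdd : List ℕ :=
  [16, 21, 26, 32, 64, 128, 5136, 11280, 81936, 180240, 262416, 525072]

/-- A basis of the module (Odd). -/
def allOdd : List ℕ :=
  [1, 2, 4, 8, 16, 32, 64, 128, 256, 512, 1024, 2048, 4096, 8192, 16384, 32768, 65536, 131072, 262144, 524288]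

end Cfsg.Agent.Fus.U62Module
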