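import Cfsg.Agent.Lib.Fus.U62Module.Torus
import Cfsg.Agent.Lib.Fus.U62Module.InvData
import Cfsg.Agent.Lib.Classical.Witt
import Cfsg.Agent.Lib.Classical.NormalForms

/-!
The twenty-dimensional module of `U₆(2)`: the involutions of `SU₆(2)` and the semilinear involutions.
-/

set_option autoImplicit false
set_option maxRecDepth 100000
set_option linter.unusedSectionVars false

namespace Cfsg.Agent.Fus.U62Module

open Matrix Cfsg Cfsg.Agent.Classical Cfsg.Agent.Classical.PSUAut
open Cfsg.Agent.Spor.USixTwo (K4)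

/-- The natural space. -/
abbrev V6 : Type := Fin 6 → K4

/-- The Hermitian form, linear in the second argument. -/
abbrev B6 : V6 →ₛₗ[qFrob K4.card_eq] V6 →ₗ[K4] K4 := hermB K4.card_eq 6

theorem B6_apply (x y : V6) : B6 x y = hermForm 6 K4 2 y x := hermB_apply K4.card_eq 6 x y

theorem B6_symm (x y : V6) : B6 x y ^ 2 = B6 y x := by
  rw [B6_apply, B6_apply]; exact hermForm_symm K4.card_eq 6 y x

theorem B6_su (s : SU6) (x y : V6) : B6 (suVal s *ᵥ x) (suVal s *ᵥ y) = B6 x y := by
  rw [B6_apply, B6_apply]; exact su_form s y x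

/-- The three involutions. -/
def invPerm : ℕ → Equiv.Perm (Fin 6)
  | 0 => 1
  | 1 => Equiv.swap 0 1
  | 2 => Equiv.swap 0 1 * Equiv.swap 2 3
  | _ => Equiv.swap 0 1 * Equiv.swap 2 3 * Equiv.swap 4 5

/-- The vectors of the standard frame. -/
def pairVec (i : ℕ) : V6 := fun k => if (k : ℕ) / 2 = i then 1 else 0

theorem invPerm_apply : ∀ r : Fin 3, ∀ y : Fin 6, ∀ k : Fin 6,
    (if (invPerm (r.1 + 1)).symm k = y then (1 : K4) else 0) =
      (if k = y then 1 else 0) + ∑ i : Fin (r.1 + 1), pairVec i y * pairVec i k := by decide +kernel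

theorem pair_orth : ∀ i j : Fin 3, B6 (pairVec i) (pairVec j) = 0 := by decide +kernel

theorem scale_invPerm : ∀ r : Fin 3, ∀ d : ZMod 3,
    (Matrix.diagonal fun k : Fin 6 => if (k : ℕ) < 2 then om d else 1) * suVal (pm (invPerm (r.1 + 1))) =
      suVal (pm (invPerm (r.1 + 1))) * (Matrix.diagonal fun k : Fin 6 => if (k : ℕ) < 2 then om d else 1) := by
  decide +kernel

theorem scale_facts : ∀ d : ZMod 3,
    (Matrix.diagonal fun k : Fin 6 => if (k : ℕ) < 2 then om d else 1)ᵀ *
      (Matrix.diagonal fun k : Fin 6 => if (k : ℕ) < 2 then om d else 1).map (fun a => a ^ 2) = 1 := by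
  decide +kernel

theorem norm_one_om : ∀ a : K4, a * a ^ 2 = 1 → ∃ d : ZMod 3, a = om d := by decide

theorem K4_two : ∀ a : K4, a + a = 0 := by decide

theorem pm_invPerm_mulVec (r : Fin 3) (y : V6) : suVal (pm (invPerm (r.1 + 1))) *ᵥ y =
    y + ∑ i : Fin (r.1 + 1), B6 (pairVec i) y • pairVec i := by
  have hp : ∀ i : ℕ, ∀ k : Fin 6, pairVec i k ^ 2 = pairVec i k := fun i k => by
    unfold pairVec; split_ifs <;> simp
  funext k
  rw [pm_val]
  simp only [Matrix.mulVec, dotProduct, Equiv.Perm.permMatrix, PEquiv.toMatrix_apply, Equiv.toPEquiv_apply,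
    Option.mem_def, Option.some.injEq, Pi.add_apply, Finset.sum_apply, Pi.smul_apply, smul_eq_mul, B6_apply,
    hermForm, hp]
  have h : ∀ j, (if (invPerm (r.1 + 1))⁻¹ k = j then (1 : K4) else 0) * y j =
      ((if k = j then 1 else 0) + ∑ i : Fin (r.1 + 1), pairVec i j * pairVec i k) * y j := fun j => by
    rw [Equiv.Perm.inv_def, invPerm_apply]
  simp only [h, add_mul, Finset.sum_add_distrib, ite_mul, one_mul, zero_mul, Finset.sum_ite_eq,
    Finset.mem_univ, if_true, Finset.sum_mul]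
  rw [Finset.sum_comm]
  congr 1
  exact Finset.sum_congr rfl fun i _ => Finset.sum_congr rfl fun j _ => by ring

theorem zero_flip {a c : V6} (h : B6 a c = 0) : B6 c a = 0 := by
  rw [← B6_symm a c, h]; exact zero_pow two_ne_zero

/-- An element of `SU₆(2)` of order two is conjugate to one of the three permutations. -/
theorem inner_class {s : SU6} (h2 : s * s = 1) (h1 : s ≠ 1) :
    ∃ r : Fin 3, ∃ g : SU6, g * s * g⁻¹ = pm (invPerm (r.1 + 1)) := by
  classical
  let N : V6 →ₗ[K4] V6 := Matrix.mulVecLin (suVal s) + LinearMap.id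
  have hN : ∀ x, N x = suVal s *ᵥ x + x := fun x => rfl
  have hss : ∀ x, suVal s *ᵥ (suVal s *ᵥ x) = x := fun x => by
    rw [Matrix.mulVec_mulVec, ← suVal_mul, h2]; exact Matrix.one_mulVec x
  have two : ∀ x : V6, x + x = 0 := fun x => funext fun k => K4_two (x k)
  have hNN : ∀ x, N (N x) = 0 := fun x => by
    rw [hN, hN, Matrix.mulVec_add, hss, add_comm x, two]
  have adj : ∀ x y, B6 (N x) y = B6 x (N y) := fun x y => by
    simp only [hN, map_add, LinearMap.add_apply]
    rw [← B6_su s x (suVal s *ᵥ y), hss]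
  let B' : V6 →ₛₗ[qFrob K4.card_eq] V6 →ₗ[K4] K4 := B6.compl₂ N
  have hB' : ∀ x y, B' x y = B6 x (N y) := fun x y => rfl
  have hsym : B'.IsSymm := ⟨fun x y => by
    rw [hB', hB', ← adj y x]
    exact B6_symm x (N y)⟩
  obtain ⟨W, hW⟩ := Submodule.exists_isCompl (LinearMap.ker N)
  have hnd : ∀ w ∈ W, w ≠ 0 → ∃ u ∈ W, B' w u ≠ 0 := by
    intro w hw hw0
    by_contra hcon
    push Not at hcon
    refine hw0 (Submodule.disjoint_def.1 hW.disjoint w ?_ hw)
    refine LinearMap.mem_ker.2 ((hermB_nondegenerate K4.card_eq 6).1 _ fun y => ?_)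
    obtain ⟨k, hk, u, hu, rfl⟩ := Submodule.mem_sup.1 (hW.sup_eq_top ▸ Submodule.mem_top : y ∈ LinearMap.ker N ⊔ W)
    show B6 (N w) (k + u) = 0
    rw [adj, map_add N, LinearMap.mem_ker.1 hk, zero_add]
    exact hcon u hu
  obtain ⟨r, hr⟩ : ∃ r, Module.finrank K4 W = r := ⟨_, rfl⟩
  obtain ⟨x, hxW, hx⟩ := exists_orthonormal_family_herm B' (qFrob_ne_id K4.card_eq) (qFrob_qFrob K4.card_eq)
    hsym r W hnd hr
  have hind : LinearIndependent K4 x := linearIndependent_of_orth x (fun i => B' (x i))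
    (fun i j hij => by rw [hx, if_neg hij]) (fun i => by rw [hx, if_pos rfl]; exact one_ne_zero)
  have hspan : Submodule.span K4 (Set.range x) = W :=
    Submodule.eq_of_le_of_finrank_eq (Submodule.span_le.2 (Set.range_subset_iff.2 hxW))
      (by rw [finrank_span_eq_card hind, Fintype.card_fin, hr])
  let u : Fin r → V6 := fun i => N (x i)
  have hu : ∀ i k, B6 (x i) (u k) = if i = k then 1 else 0 := fun i k => hx i k
  have huu : ∀ i k, B6 (u i) (u k) = 0 := fun i k => by
    rw [adj, hNN, map_zero]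
  have hexp : ∀ y, N y = ∑ i, B6 (u i) y • u i := by
    intro y
    obtain ⟨k, hk, w, hw, rfl⟩ :=
      Submodule.mem_sup.1 (hW.sup_eq_top ▸ Submodule.mem_top : y ∈ LinearMap.ker N ⊔ W)
    rw [← hspan, Submodule.mem_span_range_iff_exists_fun] at hw
    obtain ⟨c, rfl⟩ := hw
    rw [map_add, LinearMap.mem_ker.1 hk, zero_add, map_sum]
    refine Finset.sum_congr rfl fun i _ => ?_
    rw [map_smul, adj, map_add N, LinearMap.mem_ker.1 hk, zero_add, map_sum, map_sum,
      Finset.sum_eq_single i]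
    · rw [map_smul, map_smul, show B6 (x i) (N (x i)) = 1 by rw [← hB', hx, if_pos rfl], smul_eq_mul, mul_one]
    · intro j _ hj
      rw [map_smul, map_smul, show B6 (x i) (N (x j)) = 0 by rw [← hB', hx, if_neg hj.symm], smul_zero]
    · exact fun h => absurd (Finset.mem_univ i) h
  have hu_ind : LinearIndependent K4 u := linearIndependent_of_orth u (fun i => B6 (x i))
    (fun i j hij => by rw [hu, if_neg hij]) (fun i => by rw [hu, if_pos rfl]; exact one_ne_zero)
  have hr3 : r ≤ 3 := by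
    let L : V6 →ₗ[K4] (Fin r → K4) := LinearMap.pi fun i => B6 (u i)
    have hsurj : Function.Surjective L := fun c => ⟨∑ j, c j • x j, funext fun i => by
      simp only [L, LinearMap.pi_apply, map_sum, map_smul, smul_eq_mul]
      rw [Finset.sum_eq_single i]
      · rw [adj, show B6 (x i) (N (x i)) = 1 from (hu i i).trans (if_pos rfl), mul_one]
      · intro j _ hj
        rw [adj, show B6 (x i) (N (x j)) = 0 from (hu i j).trans (if_neg hj.symm), mul_zero]
      · exact fun h => absurd (Finset.mem_univ i) h⟩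
    have h' := L.finrank_range_add_finrank_ker
    rw [LinearMap.range_eq_top.2 hsurj, finrank_top, Module.finrank_fin_fun, Module.finrank_fin_fun] at h'
    have hle : Submodule.span K4 (Set.range u) ≤ LinearMap.ker L := Submodule.span_le.2 (by
      rintro _ ⟨k, rfl⟩
      exact LinearMap.mem_ker.2 (funext fun i => huu i k))
    have hle' := Submodule.finrank_mono hle
    rw [finrank_span_eq_card hu_ind, Fintype.card_fin] at hle'
    omega
  have hr0 : r ≠ 0 := fun h0 => h1 (suVal_ext (Matrix.ext_iff_mulVec.2 fun y => by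
    have e := hexp y
    have : IsEmpty (Fin r) := by rw [h0]; infer_instance
    rw [Finset.univ_eq_empty, Finset.sum_empty, hN] at e
    have e2 : suVal s *ᵥ y = y := by
      calc suVal s *ᵥ y = (suVal s *ᵥ y + y) + y := by rw [add_assoc, two, add_zero]
        _ = y := by rw [e, zero_add]
    rw [e2]
    exact (Matrix.one_mulVec y).symm))
  obtain ⟨m, hm⟩ : ∃ m, r = m + 1 := ⟨r - 1, by omega⟩
  let r' : Fin 3 := ⟨m, by omega⟩
  let b := Module.Basis.span hu_ind
  let ψ : Submodule.span K4 (Set.range u) →ₗ[K4] V6 := b.constr K4 fun i => pairVec i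
  have hψb : ∀ i, ψ (b i) = pairVec i := fun i => b.constr_basis K4 _ i
  have hbu : ∀ i, (b i : V6) = u i := fun i => congrArg Subtype.val (Module.Basis.span_apply hu_ind i)
  have hψinj : Function.Injective ψ := by
    refine b.injective_constr_of_linearIndependent ?_
    refine linearIndependent_of_orth _ (fun i : Fin r => LinearMap.proj (⟨2 * (i : ℕ), by omega⟩ : Fin 6)) ?_ ?_
    · intro i j hij
      simp only [LinearMap.proj_apply, pairVec]
      rw [if_neg (fun e => hij (Fin.ext (by omega)))]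
    · intro i
      simp only [LinearMap.proj_apply, pairVec]
      rw [if_pos (by omega)]
      exact one_ne_zero
  have hiso : ∀ a c, B6 (ψ a) (ψ c) = B6 (a : V6) (c : V6) := by
    have h1 : ∀ i c, B6 (pairVec ((i : Fin r) : ℕ)) (ψ c) = 0 := fun i c =>
      LinearMap.congr_fun (b.ext (f₁ := (B6 (pairVec (i : ℕ))).comp ψ) (f₂ := 0) fun j => by
        rw [LinearMap.comp_apply, hψb, LinearMap.zero_apply]
        exact pair_orth ⟨i, by omega⟩ ⟨j, by omega⟩) c
    have h2 : ∀ a c, B6 (ψ a) (ψ c) = 0 := fun a c =>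
      LinearMap.congr_fun (b.ext (f₁ := (B6 (ψ a)).comp ψ) (f₂ := 0) fun j => by
        rw [LinearMap.comp_apply, hψb, LinearMap.zero_apply]
        exact zero_flip (h1 j a)) c
    have h3 : ∀ i (c : Submodule.span K4 (Set.range u)), B6 (u i) (c : V6) = 0 := fun i c =>
      LinearMap.congr_fun (b.ext (f₁ := (B6 (u i)).comp (Submodule.subtype _)) (f₂ := 0) fun j => by
        rw [LinearMap.comp_apply, Submodule.subtype_apply, hbu, LinearMap.zero_apply]
        exact huu i j) c
    have h4 : ∀ a c : Submodule.span K4 (Set.range u), B6 (a : V6) (c : V6) = 0 := fun a c =>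
      LinearMap.congr_fun (b.ext (f₁ := (B6 (a : V6)).comp (Submodule.subtype _)) (f₂ := 0) fun j => by
        rw [LinearMap.comp_apply, Submodule.subtype_apply, hbu, LinearMap.zero_apply]
        exact zero_flip (h3 j a)) c
    exact fun a c => by rw [h2, h4]
  obtain ⟨g, hg, hgu⟩ := witt_hermitian B6 (qFrob_ne_id K4.card_eq) (qFrob_qFrob K4.card_eq)
    (hermB_isSymm _ _) (hermB_nondegenerate _ _) _ ψ hψinj hiso
  set M := LinearMap.toMatrix' g.toLinearMap with hMdef
  have hMv : ∀ y, M *ᵥ y = g y := fun y => by rw [hMdef, LinearMap.toMatrix'_mulVec]; rfl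
  have hMi : ∀ a c, hermForm 6 K4 2 (M *ᵥ a) (M *ᵥ c) = hermForm 6 K4 2 a c := fun a c => by
    rw [hMv, hMv]; exact hg c a
  obtain ⟨d, hd⟩ := norm_one_om M.det (det_unitary K4.card_eq hMi)
  set Dg : Matrix (Fin 6) (Fin 6) K4 := Matrix.diagonal fun k : Fin 6 => if (k : ℕ) < 2 then om d else 1
  have hMt : Mᵀ * M.map (qFrob K4.card_eq) = 1 := transpose_mul_of_preserves K4.card_eq hMi
  let G : SU6 := suMk K4.card_eq (Dg * M) (by
    rw [Matrix.det_mul, hd, Matrix.det_diagonal, Fin.prod_univ_six]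
    simp
    exact (show ∀ d : ZMod 3, om d * om d * om d = 1 by decide) d) (by
    rw [Matrix.transpose_mul, Matrix.map_mul, Matrix.mul_assoc, ← Matrix.mul_assoc Dgᵀ,
      show Dg.map (qFrob K4.card_eq) = Dg.map (fun a => a ^ 2) from rfl, scale_facts d, Matrix.one_mul, hMt])
  refine ⟨r', G, ?_⟩
  rw [mul_inv_eq_iff_eq_mul]
  refine suVal_ext (Matrix.ext_iff_mulVec.2 fun y => ?_)
  rw [suVal_mul, suVal_mul, suVal_suMk, ← Matrix.mul_assoc, ← scale_invPerm r' d, Matrix.mul_assoc,
    Matrix.mul_assoc, ← Matrix.mulVec_mulVec, ← Matrix.mulVec_mulVec, ← Matrix.mulVec_mulVec,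
    ← Matrix.mulVec_mulVec]
  congr 1
  rw [pm_invPerm_mulVec, hMv, hMv]
  have hsy : suVal s *ᵥ y = y + N y := by rw [hN, add_comm _ y, ← add_assoc, two, zero_add]
  rw [hsy, map_add, hexp, map_sum]
  congr 1
  refine Fintype.sum_equiv (finCongr hm) _ _ fun i => ?_
  have gu : g (u i) = pairVec i := by
    have e := hgu (b i)
    rw [hψb, hbu] at e
    exact e
  rw [map_smul, gu, show (pairVec ((finCongr hm i : Fin (m + 1)) : ℕ)) = pairVec i from rfl, ← gu, hg]

/-- The conjugation of all coordinates. -/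
def cjV (x : V6) : V6 := fun i => x i ^ 2

/-- Lists of vectors forming an orthonormal family. -/
def OrthL (l : List V6) : Prop := l.Pairwise (fun a b => B6 a b = 0) ∧ ∀ a ∈ l, B6 a a = 1

/-- Lists of hyperbolic pairs. -/
def PairL (l : List (V6 × V6)) : Prop :=
  (∀ p ∈ l, B6 p.1 p.1 = 0 ∧ B6 p.2 p.2 = 0 ∧ B6 p.1 p.2 = 1) ∧
    l.Pairwise (fun p r => B6 p.1 r.1 = 0 ∧ B6 p.1 r.2 = 0 ∧ B6 p.2 r.1 = 0 ∧ B6 p.2 r.2 = 0)

/-- One vector of norm one turns pairs into an orthonormal family. -/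
theorem absorb : ∀ (l : List (V6 × V6)) (v : V6), PairL l → B6 v v = 1 →
    (∀ p ∈ l, B6 v p.1 = 0 ∧ B6 v p.2 = 0) →
    ∀ (P : V6 → Prop), (∀ a c, P a → P c → P (a + c)) → P v → (∀ p ∈ l, P p.1 ∧ P p.2) →
    ∃ L : List V6, L.length = 2 * l.length + 1 ∧ OrthL L ∧ (∀ a ∈ L, P a) ∧
      ∀ z, B6 v z = 0 → (∀ p ∈ l, B6 p.1 z = 0 ∧ B6 p.2 z = 0) → ∀ a ∈ L, B6 a z = 0
  | [], v, _, hv, _, P, _, hPv, _ => ⟨[v], rfl, ⟨List.pairwise_singleton _ _, by simpa using hv⟩,
      by simpa using hPv, fun z hz _ => by simpa using hz⟩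
  | (x, y) :: l, v, hl, hv, hvl, P, hadd, hPv, hPl => by
    obtain ⟨hx, hy, hxy⟩ := hl.1 (x, y) (List.mem_cons_self ..)
    obtain ⟨vx, vy⟩ := hvl (x, y) (List.mem_cons_self ..)
    have hpw := List.pairwise_cons.1 hl.2
    obtain ⟨Px, Py⟩ := hPl (x, y) (List.mem_cons_self ..)
    have xv := zero_flip vx
    have yv := zero_flip vy
    have yx : B6 y x = 1 := by rw [← B6_symm x y, hxy]; exact one_pow 2
    have k2 : (1 : K4) + 1 = 0 := by decide
    have hw : B6 (v + x + y) (v + x + y) = 1 := by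
      simp only [map_add, LinearMap.add_apply, hv, hx, hy, hxy, yx, vx, vy, xv, yv]; decide
    obtain ⟨L, hlen, hL, hLP, hLz⟩ := absorb l (v + x + y)
      ⟨fun p hp => hl.1 p (List.mem_cons_of_mem _ hp), hpw.2⟩ hw
      (fun p hp => by
        obtain ⟨a1, a2, a3, a4⟩ := hpw.1 p hp
        obtain ⟨b1, b2⟩ := hvl p (List.mem_cons_of_mem _ hp)
        simp [map_add, a1, a2, a3, a4, b1, b2])
      P hadd (hadd _ _ (hadd _ _ hPv Px) Py) (fun p hp => hPl p (List.mem_cons_of_mem _ hp))
    have hz : ∀ z, z = v + x ∨ z = v + y → ∀ a ∈ L, B6 a z = 0 := by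
      intro z hz
      refine hLz z ?_ fun p hp => ?_
      · rcases hz with rfl | rfl <;>
          simp [map_add, hv, hx, hy, hxy, yx, vx, vy, xv, yv, k2]
      · obtain ⟨a1, a2, a3, a4⟩ := hpw.1 p hp
        obtain ⟨b1, b2⟩ := hvl p (List.mem_cons_of_mem _ hp)
        rcases hz with rfl | rfl <;>
          simp [map_add, zero_flip a1, zero_flip a2, zero_flip a3, zero_flip a4, zero_flip b1, zero_flip b2]
    refine ⟨(v + x) :: (v + y) :: L, by simp [hlen]; ring, ⟨?_, ?_⟩, ?_, ?_⟩
    · refine List.pairwise_cons.2 ⟨fun a ha => ?_, List.pairwise_cons.2 ⟨fun a ha => ?_, hL.1⟩⟩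
      · rcases List.mem_cons.1 ha with rfl | ha
        · simp [map_add, hv, hxy, vy, xv, k2]
        · exact zero_flip (hz _ (Or.inl rfl) a ha)
      · exact zero_flip (hz _ (Or.inr rfl) a ha)
    · intro a ha
      rcases List.mem_cons.1 ha with rfl | ha
      · simp [map_add, hv, hx, vx, xv]
      rcases List.mem_cons.1 ha with rfl | ha
      · simp [map_add, hv, hy, vy, yv]
      exact hL.2 a ha
    · intro a ha
      rcases List.mem_cons.1 ha with rfl | ha
      · exact hadd _ _ hPv Px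
      rcases List.mem_cons.1 ha with rfl | ha
      · exact hadd _ _ hPv Py
      exact hLP a ha
    · intro z hvz hlz a ha
      obtain ⟨hxz, hyz⟩ := hlz (x, y) (List.mem_cons_self ..)
      rcases List.mem_cons.1 ha with rfl | ha
      · simp [map_add, hvz, hxz]
      rcases List.mem_cons.1 ha with rfl | ha
      · simp [map_add, hvz, hyz]
      exact hLz z (by simp [map_add, hvz, hxz, hyz]) (fun p hp => hlz p (List.mem_cons_of_mem _ hp)) a ha

section Fixed

variable (S : V6 → V6) (hadd : ∀ x y, S (x + y) = S x + S y) (hsmul : ∀ (c : K4) x, S (c • x) = c ^ 2 • S x)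
  (hSS : ∀ x, S (S x) = x) (hform : ∀ x y, B6 (S x) (S y) = B6 x y ^ 2)

include hform in
theorem fixed_value {x y : V6} (hx : S x = x) (hy : S y = y) : B6 x y = 0 ∨ B6 x y = 1 := by
  have h := hform x y
  rw [hx, hy] at h
  exact (show ∀ a : K4, a = a ^ 2 → a = 0 ∨ a = 1 by decide) _ h

include hadd hsmul hSS hform in
/-- A fixed frame of a stable nondegenerate subspace. -/
theorem fixed_frame : ∀ (n : ℕ) (W : Submodule K4 V6), Module.finrank K4 W = n → (∀ w ∈ W, S w ∈ W) →
    (∀ w ∈ W, w ≠ 0 → ∃ u ∈ W, B6 w u ≠ 0) →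
    (∃ L : List V6, L.length = n ∧ OrthL L ∧ ∀ a ∈ L, a ∈ W ∧ S a = a) ∨
      ((∀ a ∈ W, S a = a → B6 a a = 0) ∧ ∃ l : List (V6 × V6), 2 * l.length = n ∧ PairL l ∧
        ∀ p ∈ l, (p.1 ∈ W ∧ S p.1 = p.1) ∧ p.2 ∈ W ∧ S p.2 = p.2) := by
  intro n
  induction n using Nat.strong_induction_on with
  | _ n ih =>
    intro W hn hS hnd
    have stab : ∀ v, S v = v → ∀ w, B6 v w = 0 → B6 v (S w) = 0 := fun v hv w hw => by
      have h := hform v w
      rwa [hv, hw, zero_pow two_ne_zero] at h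
    by_cases hone : ∃ v ∈ W, S v = v ∧ B6 v v = 1
    · obtain ⟨v, hv, hvS, hvv⟩ := hone
      let W' : Submodule K4 V6 := W ⊓ LinearMap.ker (B6 v)
      have hfr := finrank_inf_ker W (B6 v) hv hvv
      have hnd' : ∀ w ∈ W', w ≠ 0 → ∃ u ∈ W', B6 w u ≠ 0 := by
        rintro w ⟨hw, hwv⟩ hw0
        obtain ⟨u, hu, hwu⟩ := hnd w hw hw0
        have hwv' : B6 w v = 0 := zero_flip hwv
        exact ⟨u - B6 v u • v, ⟨W.sub_mem hu (W.smul_mem _ hv), by simp [LinearMap.mem_ker, hvv]⟩,
          by simp [hwv', hwu]⟩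
      left
      rcases ih _ (show Module.finrank K4 ↥(W ⊓ LinearMap.ker (B6 v)) < n by omega) W' rfl
        (fun w hw => ⟨hS w hw.1, stab v hvS w hw.2⟩) hnd' with
        ⟨L, hlen, hL, hLW⟩ | ⟨-, l, hlen, hl, hlW⟩
      · refine ⟨v :: L, by simp [hlen]; omega, ⟨List.pairwise_cons.2 ⟨fun a ha => (hLW a ha).1.2, hL.1⟩,
          fun a ha => ?_⟩, fun a ha => ?_⟩
        · rcases List.mem_cons.1 ha with rfl | ha
          exacts [hvv, hL.2 a ha]
        · rcases List.mem_cons.1 ha with rfl | ha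
          exacts [⟨hv, hvS⟩, ⟨(hLW a ha).1.1, (hLW a ha).2⟩]
      · obtain ⟨L, hLlen, hL, hLP, -⟩ := absorb l v hl hvv
          (fun p hp => ⟨(hlW p hp).1.1.2, (hlW p hp).2.1.2⟩) (fun a => a ∈ W ∧ S a = a)
          (fun a c ha hc => ⟨W.add_mem ha.1 hc.1, by rw [hadd, ha.2, hc.2]⟩) ⟨hv, hvS⟩
          (fun p hp => ⟨⟨(hlW p hp).1.1.1, (hlW p hp).1.2⟩, (hlW p hp).2.1.1, (hlW p hp).2.2⟩)
        exact ⟨L, by change 2 * l.length = Module.finrank K4 ↥(W ⊓ LinearMap.ker (B6 v)) at hlen; omega, hL, hLP⟩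
    · push Not at hone
      have halt : ∀ a ∈ W, S a = a → B6 a a = 0 := fun a ha haS =>
        ((fixed_value S hform haS haS).resolve_right (hone a ha haS))
      right
      refine ⟨halt, ?_⟩
      by_cases hn0 : n = 0
      · exact ⟨[], by simp [hn0], ⟨by simp, List.Pairwise.nil⟩, by simp⟩
      have two : ∀ x : V6, x + x = 0 := fun x => funext fun k => K4_two (x k)
      have decomp : ∀ x ∈ W, ∃ a ∈ W, ∃ c ∈ W, S a = a ∧ S c = c ∧ x = K4.of 3 • a + c := by
        intro x hx
        refine ⟨x + S x, W.add_mem hx (hS x hx), K4.of 2 • x + K4.of 3 • S x,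
          W.add_mem (W.smul_mem _ hx) (W.smul_mem _ (hS x hx)), by rw [hadd, hSS, add_comm], ?_, ?_⟩
        · rw [hadd, hsmul, hsmul, hSS, add_comm]
          rfl
        · funext k
          simp only [Pi.add_apply, Pi.smul_apply, smul_eq_mul]
          generalize x k = a
          generalize S x k = c
          revert a c
          decide
      obtain ⟨w, hw, hw0⟩ : ∃ w ∈ W, w ≠ 0 := W.exists_mem_ne_zero_of_ne_bot fun e => hn0 (by
        rw [← hn, e, finrank_bot])
      obtain ⟨v, hv, hv0, hvS⟩ : ∃ v ∈ W, v ≠ 0 ∧ S v = v := by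
        obtain ⟨a, ha, c, hc, haS, hcS, e⟩ := decomp w hw
        by_cases h : a = 0
        · exact ⟨c, hc, fun h' => hw0 (by rw [e, h, h', smul_zero, add_zero]), hcS⟩
        · exact ⟨a, ha, h, haS⟩
      obtain ⟨u, hu, huS, hvu⟩ : ∃ u ∈ W, S u = u ∧ B6 v u = 1 := by
        obtain ⟨z, hz, hvz⟩ := hnd v hv hv0
        obtain ⟨a, ha, c, hc, haS, hcS, e⟩ := decomp z hz
        rcases fixed_value S hform hvS haS with h | h
        · rcases fixed_value S hform hvS hcS with h' | h'
          · exact absurd (by rw [e, map_add, map_smul, h, h', smul_zero, add_zero]) hvz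
          · exact ⟨c, hc, hcS, h'⟩
        · exact ⟨a, ha, haS, h⟩
      have huv : B6 u v = 1 := by rw [← B6_symm v u, hvu]; exact one_pow 2
      let W' : Submodule K4 V6 := W ⊓ LinearMap.ker (B6 v) ⊓ LinearMap.ker (B6 u)
      have hfr := finrank_inf_two_kers W (B6 v) (B6 u) hu hv hvu (halt v hv hvS) huv
      have hnd' : ∀ w ∈ W', w ≠ 0 → ∃ z ∈ W', B6 w z ≠ 0 := by
        rintro w ⟨⟨hw, hwv⟩, hwu⟩ hw0
        obtain ⟨z, hz, hwz⟩ := hnd w hw hw0
        refine ⟨z + B6 v z • u + B6 u z • v, ⟨⟨W.add_mem (W.add_mem hz (W.smul_mem _ hu)) (W.smul_mem _ hv), ?_⟩,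
          ?_⟩, ?_⟩
        · simp [LinearMap.mem_ker, hvu, halt v hv hvS, K4_two]
        · simp [LinearMap.mem_ker, huv, halt u hu huS, K4_two]
        · simp [zero_flip hwv, zero_flip hwu, hwz]
      rcases ih _ (show Module.finrank K4 ↥(W ⊓ LinearMap.ker (B6 v) ⊓ LinearMap.ker (B6 u)) < n by omega) W' rfl
        (fun w hw => ⟨⟨hS w hw.1.1, stab v hvS w hw.1.2⟩, stab u huS w hw.2⟩) hnd' with
        ⟨L, hlen, hL, hLW⟩ | ⟨-, l, hlen, hl, hlW⟩
      · rcases L with _ | ⟨a, L⟩
        · refine ⟨[(v, u)], by simp at hlen ⊢; omega, ⟨by simp [halt v hv hvS, halt u hu huS, hvu],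
            List.pairwise_singleton _ _⟩, by simp [hv, hvS, hu, huS]⟩
        · exact absurd ((halt a (hLW a (List.mem_cons_self ..)).1.1.1 (hLW a (List.mem_cons_self ..)).2).symm.trans
            (hL.2 a (List.mem_cons_self ..))) zero_ne_one
      · refine ⟨(v, u) :: l, by simp at hlen ⊢; omega, ⟨fun p hp => ?_, List.pairwise_cons.2 ⟨fun p hp => ?_,
          hl.2⟩⟩, fun p hp => ?_⟩
        · rcases List.mem_cons.1 hp with rfl | hp
          exacts [⟨halt v hv hvS, halt u hu huS, hvu⟩, hl.1 p hp]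
        · exact ⟨(hlW p hp).1.1.1.2, (hlW p hp).2.1.1.2, (hlW p hp).1.1.2, (hlW p hp).2.1.2⟩
        · rcases List.mem_cons.1 hp with rfl | hp
          exacts [⟨⟨hv, hvS⟩, hu, huS⟩,
            ⟨⟨(hlW p hp).1.1.1.1, (hlW p hp).1.2⟩, (hlW p hp).2.1.1.1, (hlW p hp).2.2⟩]

end Fixed

/-- The standard symplectic frame, as columns. -/
def symMat : Matrix (Fin 6) (Fin 6) K4 :=
  matOf [[1, 2], [1, 3], [0, 0, 1, 2], [0, 0, 1, 3], [0, 0, 0, 0, 1, 2], [0, 0, 0, 0, 1, 3]]

/-- Its inverse. -/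
def symInv : Matrix (Fin 6) (Fin 6) K4 :=
  matOf [[3, 2], [1, 1], [0, 0, 3, 2], [0, 0, 1, 1], [0, 0, 0, 0, 3, 2], [0, 0, 0, 0, 1, 1]]

/-- Its Gram matrix. -/
def symGram : Matrix (Fin 6) (Fin 6) K4 := Matrix.of fun i j => if (i : ℕ) / 2 = (j : ℕ) / 2 ∧ i ≠ j then 1 else 0

theorem sym_facts : symMat * symInv = 1 ∧ symMatᵀ * symMat.map (fun a => a ^ 2) = symGram ∧
    suVal (pm (invPerm 3)) * symMat = symMat.map (fun a => a ^ 2) := by decide +kernel

theorem cj_cj : ∀ a : K4, (a ^ 2) ^ 2 = a := by decide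

theorem su_cj (s : SU6) (x : V6) (y : V6) : B6 (suVal s *ᵥ cjV x) (suVal s *ᵥ cjV y) = B6 x y ^ 2 := by
  rw [B6_su, B6_apply, B6_apply, show (hermForm 6 K4 2 y x) ^ 2 = qFrob K4.card_eq (hermForm 6 K4 2 y x) from rfl]
  simp only [hermForm, map_sum, map_mul, map_pow]
  rfl

/-- A semilinear involution is conjugate to the conjugation or to its twist by the third involution. -/
theorem outer_class {s : SU6} (h : suVal s * (suVal s).map (fun a => a ^ 2) = 1) :
    ∃ P : SU6, suVal s * (suVal P).map (fun a => a ^ 2) = suVal P ∨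
      suVal s * (suVal P).map (fun a => a ^ 2) = suVal P * suVal (pm (invPerm 3)) := by
  classical
  set S : V6 → V6 := fun x => suVal s *ᵥ cjV x with hSdef
  have cj_mul : ∀ (M : Matrix (Fin 6) (Fin 6) K4) (x : V6), cjV (M *ᵥ x) = M.map (fun a => a ^ 2) *ᵥ cjV x := by
    intro M x
    funext i
    show qFrob K4.card_eq _ = _
    simp only [Matrix.mulVec, dotProduct, map_sum, map_mul, Matrix.map_apply]
    rfl
  have hadd : ∀ x y, S (x + y) = S x + S y := fun x y => by
    simp only [hSdef, ← Matrix.mulVec_add]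
    congr 1
    funext i
    exact map_add (qFrob K4.card_eq) (x i) (y i)
  have hsmul : ∀ (c : K4) x, S (c • x) = c ^ 2 • S x := fun c x => by
    simp only [hSdef, ← Matrix.mulVec_smul]
    congr 1
    funext i
    exact mul_pow c (x i) 2
  have hSS : ∀ x, S (S x) = x := fun x => by
    simp only [hSdef, cj_mul, Matrix.mulVec_mulVec, h, Matrix.one_mulVec]
    funext i
    exact cj_cj (x i)
  have hnd : ∀ w ∈ (⊤ : Submodule K4 V6), w ≠ 0 → ∃ u ∈ (⊤ : Submodule K4 V6), B6 w u ≠ 0 := by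
    intro w _ hw0
    by_contra hcon
    push Not at hcon
    exact hw0 ((hermB_nondegenerate K4.card_eq 6).1 w fun y => hcon y Submodule.mem_top)
  have gram : ∀ (c : Fin 6 → V6) (i j : Fin 6),
      ((Matrix.of fun a b => c b a)ᵀ * (Matrix.of fun a b => c b a).map (fun a => a ^ 2)) i j = B6 (c j) (c i) := by
    intro c i j
    simp [Matrix.mul_apply, B6_apply, hermForm]
  have fixcols : ∀ c : Fin 6 → V6, (∀ i, S (c i) = c i) →
      suVal s * (Matrix.of fun a b => c b a).map (fun a => a ^ 2) = Matrix.of fun a b => c b a := by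
    intro c hc
    ext a b
    exact congrFun (hc b) a
  have getdet : ∀ (M N : Matrix (Fin 6) (Fin 6) K4), N.det = 1 → Mᵀ * M.map (fun a => a ^ 2) = 1 →
      suVal s * M.map (fun a => a ^ 2) = M * N → M.det = 1 := by
    intro M N hN hM he
    have h2 := congrArg Matrix.det hM
    have h3 := congrArg Matrix.det he
    have e : (M.map fun a => a ^ 2).det = M.det ^ 2 := by
      show ((qFrob K4.card_eq).mapMatrix M).det = _
      rw [← RingHom.map_det]; rfl
    rw [Matrix.det_mul, Matrix.det_transpose, e, Matrix.det_one] at h2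
    rw [Matrix.det_mul, Matrix.det_mul, e, hN, mul_one, show (suVal s).det = 1 from s.1.2, one_mul] at h3
    exact (show ∀ a : K4, a * a ^ 2 = 1 → a ^ 2 = a → a = 1 by decide) _ h2 h3
  rcases fixed_frame S hadd hsmul hSS (su_cj s) 6 ⊤ (by rw [finrank_top, Module.finrank_fin_fun])
    (fun _ _ => Submodule.mem_top) hnd with ⟨L, hlen, hL, hLW⟩ | ⟨-, l, hlen, hl, hlW⟩
  · obtain ⟨a, b, c, d, e, f, rfl⟩ : ∃ a b c d e f, L = [a, b, c, d, e, f] := by
      rcases L with _ | ⟨a, _ | ⟨b, _ | ⟨c, _ | ⟨d, _ | ⟨e, _ | ⟨f, _ | ⟨g, L⟩⟩⟩⟩⟩⟩⟩ <;> simp at hlen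
      exact ⟨a, b, c, d, e, f, rfl⟩
    let col : Fin 6 → V6 := ![a, b, c, d, e, f]
    set M : Matrix (Fin 6) (Fin 6) K4 := Matrix.of fun i j => col j i
    have hfix := fixcols col fun i => (hLW (col i) (by fin_cases i <;> simp [col])).2
    have hnorm : ∀ i, B6 (col i) (col i) = 1 := fun i => hL.2 _ (by fin_cases i <;> simp [col])
    have hget : ∀ i : Fin 6, col i = [a, b, c, d, e, f][(i : ℕ)]'(i.2) := fun i => by fin_cases i <;> rfl
    have hp : ∀ i j : Fin 6, i < j → B6 (col i) (col j) = 0 := fun i j hij => by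
      rw [hget, hget]
      exact List.pairwise_iff_getElem.1 hL.1 i j i.2 j.2 hij
    have hM : Mᵀ * M.map (fun a => a ^ 2) = 1 := by
      ext i j
      rw [gram, Matrix.one_apply]
      rcases lt_trichotomy i j with h' | h' | h'
      · rw [if_neg h'.ne, zero_flip (hp i j h')]
      · rw [h', if_pos rfl, hnorm]
      · rw [if_neg h'.ne', hp j i h']
    refine ⟨suMk K4.card_eq M (getdet M 1 Matrix.det_one hM (by rw [Matrix.mul_one]; exact hfix)) hM, Or.inl ?_⟩
    exact hfix
  · obtain ⟨p, r, t, rfl⟩ : ∃ p r t, l = [p, r, t] := by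
      rcases l with _ | ⟨p, _ | ⟨r, _ | ⟨t, _ | ⟨g, L⟩⟩⟩⟩ <;> simp at hlen <;> first | omega | exact ⟨p, r, t, rfl⟩
    let e : Fin 3 → V6 := ![p.1, r.1, t.1]
    let f : Fin 3 → V6 := ![p.2, r.2, t.2]
    let col : Fin 6 → V6 := fun k =>
      if (k : ℕ) % 2 = 0 then e ⟨(k : ℕ) / 2, by omega⟩ else f ⟨(k : ℕ) / 2, by omega⟩
    set M : Matrix (Fin 6) (Fin 6) K4 := Matrix.of fun i j => col j i with hMdef
    have he : ∀ a, S (e a) = e a ∧ S (f a) = f a := by
      intro a
      fin_cases a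
      exacts [⟨(hlW p (by simp)).1.2, (hlW p (by simp)).2.2⟩, ⟨(hlW r (by simp)).1.2, (hlW r (by simp)).2.2⟩,
        ⟨(hlW t (by simp)).1.2, (hlW t (by simp)).2.2⟩]
    have hfix := fixcols col fun i => by
      simp only [col]
      split_ifs
      exacts [(he _).1, (he _).2]
    obtain ⟨hpp, hq⟩ := hl
    simp only [List.pairwise_cons, List.mem_cons, List.not_mem_nil, or_false, forall_eq_or_imp, forall_eq,
      List.Pairwise.nil, and_true] at hq
    obtain ⟨⟨⟨a1, a2, a3, a4⟩, b1, b2, b3, b4⟩, ⟨c1, c2, c3, c4⟩, -⟩ := hq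
    obtain ⟨p1, p2, p3⟩ := hpp p (by simp)
    obtain ⟨r1, r2, r3⟩ := hpp r (by simp)
    obtain ⟨t1, t2, t3⟩ := hpp t (by simp)
    have hee : ∀ a b, B6 (e a) (e b) = 0 := by
      intro a b
      fin_cases a <;> fin_cases b
      exacts [p1, a1, b1, zero_flip a1, r1, c1, zero_flip b1, zero_flip c1, t1]
    have hff : ∀ a b, B6 (f a) (f b) = 0 := by
      intro a b
      fin_cases a <;> fin_cases b
      exacts [p2, a4, b4, zero_flip a4, r2, c4, zero_flip b4, zero_flip c4, t2]
    have hef : ∀ a b, B6 (e a) (f b) = if a = b then 1 else 0 := by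
      intro a b
      fin_cases a <;> fin_cases b
      exacts [p3, a2, b2, zero_flip a3, r3, c2, zero_flip b3, zero_flip c3, t3]
    have hG : Mᵀ * M.map (fun a => a ^ 2) = symGram := by
      ext i j
      rw [hMdef, gram]
      simp only [symGram, Matrix.of_apply, col]
      split_ifs with hj hi hc hi' hc' hi'' hc''
      all_goals first
        | (rw [hee]; done)
        | (rw [hff]; done)
        | (rw [hef, if_pos (Fin.ext (by simp only; omega))])
        | (rw [hef, if_neg (fun h => by simp only [Fin.ext_iff] at h; omega)])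
        | (rw [← B6_symm, hef, if_pos (Fin.ext (by simp only; omega)), one_pow])
        | (rw [← B6_symm, hef, if_neg (fun h => by simp only [Fin.ext_iff] at h; omega), zero_pow two_ne_zero])
        | (exfalso; exact (‹(i : ℕ) / 2 = (j : ℕ) / 2 ∧ i ≠ j›).2 (Fin.ext (by omega)))
    obtain ⟨hi, hg, ht⟩ := sym_facts
    have hi' : symInv * symMat = 1 := mul_eq_one_comm.1 hi
    have hmap : ∀ A C : Matrix (Fin 6) (Fin 6) K4,
        (A * C).map (fun a => a ^ 2) = A.map (fun a => a ^ 2) * C.map (fun a => a ^ 2) := fun A C =>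
      Matrix.map_mul (f := qFrob K4.card_eq)
    set P := M * symInv with hP
    have hMP : P * symMat = M := by rw [hP, Matrix.mul_assoc, hi', Matrix.mul_one]
    have hPi : symMat.map (fun a => a ^ 2) * symInv.map (fun a => a ^ 2) = 1 := by
      rw [← hmap, hi]
      exact Matrix.map_one _ (by decide) (by decide)
    have hPu : Pᵀ * P.map (fun a => a ^ 2) = 1 := by
      calc Pᵀ * P.map (fun a => a ^ 2)
          = symInvᵀ * (Mᵀ * M.map (fun a => a ^ 2)) * symInv.map (fun a => a ^ 2) := by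
            rw [hP, Matrix.transpose_mul, hmap]; simp only [Matrix.mul_assoc]
        _ = symInvᵀ * (symMatᵀ * symMat.map (fun a => a ^ 2)) * symInv.map (fun a => a ^ 2) := by rw [hG, hg]
        _ = (symMat * symInv)ᵀ * (symMat.map (fun a => a ^ 2) * symInv.map (fun a => a ^ 2)) := by
            rw [Matrix.transpose_mul]; simp only [Matrix.mul_assoc]
        _ = 1 := by rw [hi, hPi, Matrix.transpose_one, Matrix.one_mul]
    have hrel : suVal s * P.map (fun a => a ^ 2) = P * suVal (pm (invPerm 3)) := by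
      have e1 : suVal s * P.map (fun a => a ^ 2) * symMat.map (fun a => a ^ 2) = P * symMat := by
        rw [Matrix.mul_assoc, ← hmap, hMP]; exact hfix
      calc suVal s * P.map (fun a => a ^ 2)
          = suVal s * P.map (fun a => a ^ 2) * symMat.map (fun a => a ^ 2) * symInv.map (fun a => a ^ 2) := by
            rw [Matrix.mul_assoc _ (symMat.map _), hPi, Matrix.mul_one]
        _ = P * symMat * symInv.map (fun a => a ^ 2) := by rw [e1]
        _ = P * (symMat * symInv.map (fun a => a ^ 2)) := Matrix.mul_assoc ..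
        _ = P * suVal (pm (invPerm 3)) := by
            congr 1
            decide +kernel
    refine ⟨suMk K4.card_eq P (getdet P _ (pm (invPerm 3)).1.2 hPu hrel) hPu, Or.inr hrel⟩

/-- The words of the involutions are the permutations. -/
theorem invPerm_words : pm (invPerm 1) = pm (permOf oneT) ∧ pm (invPerm 2) = pm (permOf twoT) ∧
    pm (invPerm 3) = pm (permOf threeT) := by
  refine ⟨congrArg pm ?_, congrArg pm ?_, congrArg pm ?_⟩ <;>
    exact Equiv.ext (by decide +kernel)

end Cfsg.Agent.Fus.U62Module
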