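import Cfsg.Agent.Lib.Fus.U62Module.Bits

/-!
The twenty-dimensional module of `U₆(2)`: the model.

The ten digits of a vector belong to the partitions of the six coordinates into two triples; a digit is an
element of the field of four elements read along the triple which contains the first coordinate. The seven
generators are four diagonal elements, the exchange of the first two coordinates, the cyclic shift of the six
coordinates and an element of order four on the first three coordinates.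
-/

set_option autoImplicit false
set_option linter.style.longLine false

namespace Cfsg.Agent.Fus.U62Module

open Cfsg.Agent.Invol.ExtraEight (mu)

/-- The torus: four free exponents; the fifth is zero and the sixth makes the sum zero. -/
abbrev Ti : Type := ZMod 3 × ZMod 3 × ZMod 3 × ZMod 3

/-- The triples containing the first coordinate. -/
def sideTab : List (List ℕ) :=
  [[0, 1, 2], [0, 1, 3], [0, 1, 4], [0, 1, 5], [0, 2, 3], [0, 2, 4], [0, 2, 5], [0, 3, 4], [0, 3, 5], [0, 4, 5]]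

/-- The linear functionals on the torus, up to sign: the ten of the partitions, the two other orbits of
fifteen, and zero. -/
def alTab : List Ti :=
  [(1, 1, 1, 0),
    (1, 1, 0, 1),
    (1, 1, 0, 0),
    (0, 0, 2, 2),
    (1, 0, 1, 1),
    (1, 0, 1, 0),
    (0, 2, 0, 2),
    (1, 0, 0, 1),
    (0, 2, 2, 0),
    (0, 2, 2, 2),
    (0, 0, 0, 1),
    (1, 1, 1, 1),
    (1, 2, 2, 2),
    (1, 2, 1, 1),
    (1, 2, 0, 0),
    (1, 0, 2, 0),
    (0, 1, 2, 0),
    (0, 1, 0, 2),
    (0, 0, 1, 2),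
    (1, 0, 0, 2),
    (0, 0, 1, 0),
    (0, 1, 0, 0),
    (1, 1, 1, 2),
    (1, 0, 0, 0),
    (1, 1, 2, 1),
    (0, 1, 1, 2),
    (1, 0, 1, 2),
    (1, 1, 2, 2),
    (1, 2, 1, 2),
    (1, 2, 2, 1),
    (0, 1, 2, 1),
    (1, 0, 2, 1),
    (0, 1, 2, 2),
    (1, 1, 2, 0),
    (1, 0, 2, 2),
    (1, 2, 1, 0),
    (1, 1, 0, 2),
    (1, 2, 2, 0),
    (1, 2, 0, 2),
    (1, 2, 0, 1),
    (0, 0, 0, 0)]

/-- The word of a permutation carrying the base of an orbit to a functional. -/
def owTab : List (List ℕ) :=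
  [[], [5, 5, 4, 5, 5, 5, 5], [5, 5, 5, 5, 4, 5], [5, 5, 5, 5, 5], [4, 5], [5, 4, 5, 5, 5, 4, 5], [5, 4, 5, 5, 5, 5], [4, 5, 4, 5], [5, 5, 5, 4, 5], [5, 5, 5, 5], [], [5], [5, 5], [4, 5, 5], [5, 5, 5], [5, 4, 5, 5], [5, 5, 5, 5], [5, 5, 4, 5, 5], [5, 5, 5, 5, 5], [4, 5, 5, 4, 5, 5], [5, 5, 5, 4, 5, 5], [5, 4, 5, 5, 4, 5, 5], [5, 5, 5, 5, 4, 5, 5], [4, 5, 4, 5, 5, 4, 5, 5], [5, 5, 4, 5, 5, 4, 5, 5], [], [4], [5], [5, 4], [4, 5, 4], [5, 5, 4], [4, 5, 5, 4], [5, 4, 5, 4], [5, 5, 5, 4], [4, 5, 4, 5, 4], [5, 4, 5, 5, 4], [5, 5, 4, 5, 4], [5, 5, 5, 5, 4], [5, 5, 4, 5, 5, 4], [4, 5, 5, 4, 5, 5, 4], []]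

/-- A torus element on which the functional of a partition is one. -/
def duTab : List Ti :=
  [(0, 0, 1, 0), (0, 0, 0, 1), (0, 1, 0, 0), (0, 0, 0, 2), (0, 0, 0, 1), (0, 0, 1, 0), (0, 0, 0, 2), (0, 0, 0, 1), (0, 0, 2, 0), (0, 0, 0, 2)]

/-- The generators of the group on the model. -/
def gens : List (List ℕ) :=
  [[2, 3, 8, 12, 32, 48, 64, 128, 512, 768, 2048, 3072, 4096, 8192, 32768, 49152, 65536, 131072, 262144, 524288],
    [2, 3, 8, 12, 32, 48, 64, 128, 256, 512, 1024, 2048, 12288, 4096, 16384, 32768, 196608, 65536, 786432, 262144],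
    [2, 3, 4, 8, 16, 32, 192, 64, 512, 768, 2048, 3072, 4096, 8192, 16384, 32768, 196608, 65536, 786432, 262144],
    [1, 2, 8, 12, 16, 32, 192, 64, 512, 768, 1024, 2048, 12288, 4096, 32768, 49152, 65536, 131072, 786432, 262144],
    [1, 2, 4, 8, 16, 32, 64, 128, 262144, 786432, 65536, 196608, 16384, 49152, 4096, 12288, 1024, 3072, 256, 768],
    [262144, 786432, 65536, 196608, 16384, 49152, 1, 2, 4096, 12288, 1024, 3072, 4, 8, 256, 768, 16, 32, 64, 128],
    [1, 2, 787208, 524556, 199712, 132144, 61568, 37056, 786956, 525060, 198704, 134160, 57536, 45120, 28864, 41088, 68656, 133152, 262924, 524808]]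

/-- The matrix of the conjugation of all coordinates. -/
def conjMat : List ℕ :=
  [1, 3, 4, 12, 16, 48, 64, 192, 256, 768, 1024, 3072, 4096, 12288, 16384, 49152, 65536, 196608, 262144, 786432]

/-- The matrix of a word. -/
def wmat : List ℕ → List ℕ
  | [] => idm
  | i :: w => mu (gens.getD i idm) (wmat w)

end Cfsg.Agent.Fus.U62Module
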