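import Cfsg.Agent.Lib.Fus.U62Module.Block

/-!
The twenty-dimensional module of `U₆(2)`: an involution inducing the conjugation of all coordinates acts as in
the model.
-/

set_option autoImplicit false
set_option maxRecDepth 100000
set_option linter.unusedSectionVars false

namespace Cfsg.Agent.Fus.U62Module

open Matrix Cfsg Cfsg.Agent.Classical Cfsg.Agent.Classical.PSUAut
open Cfsg.Agent.Spor.USixTwo (K4)

/-- The conjugation of the field of four elements. -/
def sq : K4 ≃+* K4 where
  toFun a := a ^ 2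
  invFun a := a ^ 2
  left_inv := by decide
  right_inv := by decide
  map_mul' := by decide
  map_add' := by decide

/-- The conjugation of all coordinates. -/
def cjS : SU6 ≃* SU6 := suSemi (1 : GU 6 K4 2) sq

theorem cjS_val (s : SU6) : suVal (cjS s) = (suVal s).map (fun a => a ^ 2) := by
  rw [cjS, suSemi_coe]
  simp only [OneMemClass.coe_one, inv_one, Units.val_one, Matrix.one_mul, Matrix.mul_one]
  rfl

theorem cjS_cjS (s : SU6) : cjS (cjS s) = s := by
  refine suVal_ext ?_
  rw [cjS_val, cjS_val, Matrix.map_map]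
  refine Matrix.ext fun i j => ?_
  exact (show ∀ a : K4, (a ^ 2) ^ 2 = a by decide) _

theorem cjS_pm (π : Equiv.Perm (Fin 6)) : cjS (pm π) = pm π := by
  refine suVal_ext ?_
  rw [cjS_val, pm_val]
  exact Matrix.ext fun i j => (show ∀ a : K4, a = 0 ∨ a = 1 → a ^ 2 = a by decide) _ (by
    simp only [Equiv.Perm.permMatrix, PEquiv.toMatrix_apply]
    split_ifs <;> simp)

theorem cjS_tor (t : Ti) : cjS (tor t) = tor (-t) := by
  refine suVal_ext ?_
  rw [cjS_val, tor, tor, dg_val (ext_sum t), dg_val (ext_sum (-t)), Matrix.diagonal_map (by decide)]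
  refine congrArg Matrix.diagonal (funext fun i => ?_)
  have h : ext (-t) i = -ext t i := by fin_cases i <;> simp [ext] <;> ring
  rw [h]
  exact (show ∀ a : ZMod 3, om a ^ 2 = om (-a) by decide) _

theorem cf_neg : ∀ k : Fin 41, ∀ t : Ti, cf k (-t) = cf k t := by decide +kernel

theorem dotp_neg (a t : Ti) : dotp a (-t) = -dotp a t := by simp [dotp]; ring

theorem sc_neg (j : ZMod 3) (t : Ti) : -sc j t = sc (-j) t := by simp [sc]

theorem conj_bits : ∀ k : Fin 20, conjMat.getD k 0 =
    cd ⟨(k : ℕ) / 2, by omega⟩ (-(if (k : ℕ) % 2 = 0 then 0 else 1)) := by decide +kernel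

theorem conjMat_ok : ok conjMat = true := by decide +kernel

namespace Rep

variable {W : Type*} [AddCommGroup W] (R : Rep W)
include R

theorem rel_conj {σ : AddMonoid.End W} (hσσ : σ * σ = 1) (hσ : ∀ s, σ * R.ρ s = R.ρ (cjS s) * σ) :
    R.Rel σ conjMat := by
  have hD : ∀ (t : Ti) (w : W), σ (R.D t w) = R.D (-t) (σ w) := fun t w => by
    have h := DFunLike.congr_fun (hσ (tor t)) w
    rw [cjS_tor] at h
    exact h
  have hpm : ∀ (π : Equiv.Perm (Fin 6)) (w : W), σ (R.ρ (pm π) w) = R.ρ (pm π) (σ w) := fun π w => by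
    have h := DFunLike.congr_fun (hσ (pm π)) w
    rw [cjS_pm] at h
    exact h
  have hpr : ∀ k, σ * R.pr k = R.pr k * σ := fun k => by
    rw [pr, Finset.mul_sum, Finset.sum_mul]
    refine Fintype.sum_equiv (Equiv.neg Ti) _ _ fun t => ?_
    show _ = (if cf k (-t) then R.D (-t) else 0) * σ
    rw [cf_neg]
    split_ifs
    · exact AddMonoidHom.ext (hD t)
    · simp
  have hU : ∀ {k : Fin 41} {x : W}, x ∈ R.U k → σ x ∈ R.U k := fun {k x} hx => by
    refine R.mem_U.2 ?_
    show (R.pr k * σ) x = _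
    rw [← hpr]
    show σ (R.pr k x) = _
    rw [R.mem_U.1 hx]
  have hinv : ∀ w, σ (σ w) = w := fun w => DFunLike.congr_fun hσσ w
  have ha0 : σ R.a0 = R.a0 := by
    rcases R.line_cases R.a0_ne R.a0_mem (hU R.a0_mem) with h | ⟨j, hj⟩
    · exact absurd (by rw [← hinv R.a0, h, map_zero]) R.a0_ne
    · have e := congrArg (R.ρ (pm swapW)) hj
      rw [← hpm, R.a0_swap, hj, R.pm_apply_D, R.a0_swap, tact_sc, R.D_line (sc j (tact swapW (du 0))) R.a0_mem,
        dotp_sc, swap_facts.2.1] at e
      have e2 : R.D (sc (j + j) (du 0)) R.a0 = R.D (sc (j * 2 + j) (du 0)) R.a0 := by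
        conv_lhs => rw [sc_add, R.D_apply_add, e, ← R.D_apply_add, ← sc_add]
        rw [add_comm]
      rw [show j * 2 + j = 0 from (show ∀ j : ZMod 3, j * 2 + j = 0 by decide) j, sc_zero, R.D_zero] at e2
      have h0 := (show ∀ j : ZMod 3, j + j = 0 → j = 0 by decide) j (R.sc_fix R.a0_ne R.a0_mem e2)
      rw [hj, h0, sc_zero, R.D_zero]
      rfl
  have haP : ∀ P, σ (R.aP P) = R.aP P := fun P => by rw [aP, hpm, ha0]
  refine Rel.of_basis conjMat_ok fun k => ?_
  rw [conj_bits, R.phi_bit, R.phi_cd, hD, haP, sc_neg]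

end Rep

end Cfsg.Agent.Fus.U62Module
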