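import Cfsg.Agent.Lib.Fus.U62Module.Code
import Cfsg.Agent.Lib.Spor.USixTwo.K4
import Cfsg.Agent.Lib.Classical.UnitSemilinear
import Cfsg.Agent.Lib.Classical.UnitCenter

/-!
The twenty-dimensional module of `U₆(2)`: diagonal elements, permutations and a block element of `SU₆(2)`.
-/

set_option autoImplicit false
set_option maxRecDepth 100000

namespace Cfsg.Agent.Fus.U62Module

open Matrix Cfsg Cfsg.Agent.Classical Cfsg.Agent.Classical.PSUAut
open Cfsg.Agent.Spor.USixTwo (K4)

/-- The group. -/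
abbrev SU6 : Type := ↥(SU 6 K4 2)

/-- A cube root of unity for a residue. -/
def om (a : ZMod 3) : K4 := K4.of (a.val + 1)

theorem om_add : ∀ a b : ZMod 3, om (a + b) = om a * om b := by decide

theorem om_zero : om 0 = 1 := rfl

theorem om_norm : ∀ a : ZMod 3, om a * om a ^ 2 = 1 := by decide

theorem om_inj : ∀ a b : ZMod 3, om a = om b → a = b := by decide

theorem prod_om (c : Fin 6 → ZMod 3) : ∏ i, om (c i) = om (∑ i, c i) := by
  simp only [Fin.prod_univ_six, Fin.sum_univ_six, om_add]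

theorem frob_apply (a : K4) : qFrob K4.card_eq a = a ^ 2 := rfl

theorem diag_det {c : Fin 6 → ZMod 3} (h : ∑ i, c i = 0) : (Matrix.diagonal fun i => om (c i)).det = 1 := by
  rw [Matrix.det_diagonal, prod_om, h, om_zero]

theorem diag_form (c : Fin 6 → ZMod 3) : (Matrix.diagonal fun i => om (c i))ᵀ *
    (Matrix.diagonal fun i => om (c i)).map (qFrob K4.card_eq) = 1 := by
  rw [Matrix.diagonal_transpose, Matrix.diagonal_map (map_zero _), Matrix.diagonal_mul_diagonal,
    ← Matrix.diagonal_one]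
  exact congrArg Matrix.diagonal (funext fun i => om_norm (c i))

/-- The diagonal element with the given exponents. -/
def dg (c : Fin 6 → ZMod 3) : SU6 :=
  if h : ∑ i, c i = 0 then suMk K4.card_eq (Matrix.diagonal fun i => om (c i)) (diag_det h) (diag_form c) else 1

theorem dg_val {c : Fin 6 → ZMod 3} (h : ∑ i, c i = 0) : suVal (dg c) = Matrix.diagonal fun i => om (c i) := by
  rw [dg, dif_pos h]; rfl

theorem dg_mul {c d : Fin 6 → ZMod 3} (hc : ∑ i, c i = 0) (hd : ∑ i, d i = 0) : dg c * dg d = dg (c + d) := by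
  have h : ∑ i, (c + d) i = 0 := by simp [Finset.sum_add_distrib, hc, hd]
  refine suVal_ext ?_
  rw [suVal_mul, dg_val hc, dg_val hd, dg_val h, Matrix.diagonal_mul_diagonal]
  exact congrArg Matrix.diagonal (funext fun i => (om_add _ _).symm)

theorem dg_zero : dg (0 : Fin 6 → ZMod 3) = 1 := by
  refine suVal_ext ?_
  rw [dg_val (by simp)]
  simp only [Pi.zero_apply, om_zero, Matrix.diagonal_one]
  rfl

theorem perm_det (π : Equiv.Perm (Fin 6)) : ((π⁻¹).permMatrix K4).det = 1 := by
  rw [Matrix.det_permutation]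
  rcases Int.units_eq_one_or (Equiv.Perm.sign π⁻¹) with h | h <;> rw [h] <;> decide

theorem perm_form (π : Equiv.Perm (Fin 6)) :
    ((π⁻¹).permMatrix K4)ᵀ * ((π⁻¹).permMatrix K4).map (qFrob K4.card_eq) = 1 := by
  rw [Matrix.transpose_permMatrix, PEquiv.map_toMatrix, ← Matrix.permMatrix_mul, mul_inv_cancel,
    Matrix.permMatrix_one]

/-- The permutation element carrying a coordinate to its image. -/
def pm (π : Equiv.Perm (Fin 6)) : SU6 := suMk K4.card_eq ((π⁻¹).permMatrix K4) (perm_det π) (perm_form π)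

theorem pm_val (π : Equiv.Perm (Fin 6)) : suVal (pm π) = (π⁻¹).permMatrix K4 := rfl

theorem pm_mul (π τ : Equiv.Perm (Fin 6)) : pm π * pm τ = pm (π * τ) := by
  refine suVal_ext ?_
  rw [suVal_mul, pm_val, pm_val, pm_val, ← Matrix.permMatrix_mul, _root_.mul_inv_rev]

/-- The permutation elements as a homomorphism. -/
def pmHom : Equiv.Perm (Fin 6) →* SU6 := MonoidHom.mk' pm fun π τ => (pm_mul π τ).symm

theorem pm_dg (π : Equiv.Perm (Fin 6)) {c : Fin 6 → ZMod 3} (hc : ∑ i, c i = 0) :
    pm π * dg c = dg (fun i => c (π.symm i)) * pm π := by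
  have h : ∑ i, c (π.symm i) = 0 := by rw [Equiv.sum_comp π.symm c]; exact hc
  refine suVal_ext ?_
  rw [suVal_mul, suVal_mul, pm_val, dg_val hc, dg_val h]
  ext i j
  rw [Matrix.mul_diagonal, Matrix.diagonal_mul]
  by_cases hij : π.symm i = j
  · simp [Equiv.Perm.permMatrix, PEquiv.toMatrix_apply, Equiv.Perm.inv_def, hij]
  · simp [Equiv.Perm.permMatrix, PEquiv.toMatrix_apply, Equiv.Perm.inv_def, hij]

/-- The first six coordinates of a matrix given by rows. -/
def matOf (l : List (List ℕ)) : Matrix (Fin 6) (Fin 6) K4 := Matrix.of fun i j => K4.of ((l.getD i []).getD j 0)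

/-- The block element. -/
def gTab : List (List ℕ) := [[1, 3, 3], [2, 3, 2], [2, 2, 3], [0, 0, 0, 1], [0, 0, 0, 0, 1], [0, 0, 0, 0, 0, 1]]

/-- An element whose commutator with a diagonal element is the block element. -/
def hTab : List (List ℕ) := [[1, 1, 1], [1, 2, 3], [1, 3, 2], [0, 0, 0, 1], [0, 0, 0, 0, 1], [0, 0, 0, 0, 0, 1]]

theorem gTab_ok : (matOf gTab).det = 1 ∧ (matOf gTab)ᵀ * (matOf gTab).map (fun a => a ^ 2) = 1 := by
  refine ⟨?_, by decide +kernel⟩
  rw [Matrix.det_apply]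
  decide +kernel

theorem hTab_ok : (matOf hTab).det = 1 ∧ (matOf hTab)ᵀ * (matOf hTab).map (fun a => a ^ 2) = 1 := by
  refine ⟨?_, by decide +kernel⟩
  rw [Matrix.det_apply]
  decide +kernel

/-- The block element. -/
def gB : SU6 := suMk K4.card_eq (matOf gTab) gTab_ok.1 gTab_ok.2

/-- The auxiliary block element. -/
def hB : SU6 := suMk K4.card_eq (matOf hTab) hTab_ok.1 hTab_ok.2

/-- The exponents of a torus element. -/
def ext (t : Ti) : Fin 6 → ZMod 3 := ![t.1, t.2.1, t.2.2.1, t.2.2.2, 0, -(t.1 + t.2.1 + t.2.2.1 + t.2.2.2)]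

/-- Exponents modulo constants. -/
def res (c : Fin 6 → ZMod 3) : Ti := (c 0 - c 4, c 1 - c 4, c 2 - c 4, c 3 - c 4)

theorem ext_sum (t : Ti) : ∑ i, ext t i = 0 := by
  simp [Fin.sum_univ_six, ext]

theorem ext_add (s t : Ti) : ext (s + t) = ext s + ext t := by
  funext i
  fin_cases i <;> simp [ext] <;> ring

/-- A torus element. -/
def tor (t : Ti) : SU6 := dg (ext t)

theorem tor_add (s t : Ti) : tor (s + t) = tor s * tor t := by
  rw [tor, tor, tor, dg_mul (ext_sum s) (ext_sum t), ext_add]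

theorem tor_zero : tor 0 = 1 := by
  rw [tor, show ext 0 = 0 from funext (by decide)]; exact dg_zero

theorem dg_res {c : Fin 6 → ZMod 3} (h : ∑ i, c i = 0) : ∃ z ∈ Subgroup.center SU6, dg c = z * tor (res c) := by
  have e : (fun _ => c 4 : Fin 6 → ZMod 3) + ext (res c) = c := by
    have h5 : c 5 = -(c 0 + c 1 + c 2 + c 3 + c 4) := by
      rw [Fin.sum_univ_six] at h
      linear_combination h
    have h6 : (6 : ZMod 3) = 0 := by decide
    funext i
    fin_cases i <;> simp [ext, res, h5]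
    linear_combination c 4 * h6
  have hs : ∑ _i : Fin 6, c 4 = 0 := by
    rw [Finset.sum_const, Finset.card_univ, Fintype.card_fin, nsmul_eq_mul,
      show ((6 : ℕ) : ZMod 3) = 0 by decide, zero_mul]
  refine ⟨dg fun _ => c 4, mem_center_of_suVal_scalar (c := om (c 4)) ?_, ?_⟩
  · rw [dg_val hs, Matrix.scalar_apply]
  · rw [tor, dg_mul hs (ext_sum _), e]

end Cfsg.Agent.Fus.U62Module
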