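import Cfsg.Agent.Lib.Fus.U62Module.Block
import Cfsg.Agent.Lib.Fus.U62Module.GenData
import Cfsg.Agent.Lib.Fus.UnitTransvection

/-!
The twenty-dimensional module of `U₆(2)`: the seven generators generate `SU₆(2)`.
-/

set_option autoImplicit false
set_option maxRecDepth 100000

namespace Cfsg.Agent.Fus.U62Module

open Matrix Cfsg Cfsg.Agent.Classical Cfsg.Agent.Classical.PSUAut
open Cfsg.Agent.Spor.USixTwo (K4)

/-- The vector of a number. -/
def vec6 (c : ℕ) : Fin 6 → K4 :=
  ![K4.of (c % 4), K4.of (c / 4 % 4), K4.of (c / 16 % 4), K4.of (c / 64 % 4), K4.of (c / 256 % 4),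
    K4.of (c / 1024 % 4)]

/-- The number of a vector. -/
def code6 (v : Fin 6 → K4) : ℕ :=
  (v 0).v.1 + 4 * (v 1).v.1 + 16 * (v 2).v.1 + 64 * (v 3).v.1 + 256 * (v 4).v.1 + 1024 * (v 5).v.1

theorem code6_lt (v : Fin 6 → K4) : code6 v < 4096 := by
  have h0 := (v 0).v.2; have h1 := (v 1).v.2; have h2 := (v 2).v.2
  have h3 := (v 3).v.2; have h4 := (v 4).v.2; have h5 := (v 5).v.2
  simp only [code6]
  omega

theorem of_val : ∀ a : K4, K4.of a.v.1 = a := by decide

theorem vec6_code6 (v : Fin 6 → K4) : vec6 (code6 v) = v := by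
  have h0 := (v 0).v.2; have h1 := (v 1).v.2; have h2 := (v 2).v.2
  have h3 := (v 3).v.2; have h4 := (v 4).v.2; have h5 := (v 5).v.2
  have e0 : code6 v % 4 = (v 0).v.1 := by simp only [code6]; omega
  have e1 : code6 v / 4 % 4 = (v 1).v.1 := by simp only [code6]; omega
  have e2 : code6 v / 16 % 4 = (v 2).v.1 := by simp only [code6]; omega
  have e3 : code6 v / 64 % 4 = (v 3).v.1 := by simp only [code6]; omega
  have e4 : code6 v / 256 % 4 = (v 4).v.1 := by simp only [code6]; omega
  have e5 : code6 v / 1024 % 4 = (v 5).v.1 := by simp only [code6]; omega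
  funext i
  fin_cases i <;> simp [vec6, e0, e1, e2, e3, e4, e5, of_val]

theorem code6_inj {u v : Fin 6 → K4} (h : code6 u = code6 v) : u = v := by
  rw [← vec6_code6 u, h, vec6_code6]

theorem sgen_seven {i : ℕ} (h : 7 ≤ i) : sgen i = 1 := by
  obtain ⟨k, rfl⟩ : ∃ k, i = k + 7 := ⟨i - 7, by omega⟩
  rfl

theorem el_append : ∀ a b : List ℕ, el (a ++ b) = el a * el b
  | [], b => by rw [List.nil_append, el, one_mul]
  | i :: a, b => by rw [List.cons_append, el, el, el_append a b, mul_assoc]

/-- The elements of words. -/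
def wordSub : Submonoid SU6 where
  carrier := {s | ∃ w, el w = s}
  one_mem' := ⟨[], rfl⟩
  mul_mem' := fun ⟨a, ha⟩ ⟨b, hb⟩ => ⟨a ++ b, by rw [el_append, ha, hb]⟩

/-- One step along the orbit. -/
def gstep (acc e : ℕ) : ℕ :=
  if Nat.blt (e / 4096 % 8) 7 && Nat.blt (e / 32768) 4096 &&
      Nat.beq (code6 (suVal (sgen (e / 4096 % 8)) *ᵥ vec6 (e % 4096))) (e / 32768) &&
      (1 &&& (acc >>> (e % 4096)) == 1) then acc ||| (1 <<< (e / 32768)) else acc

/-- Several steps. -/
def grun : List ℕ → ℕ → ℕ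
  | [], a => a
  | e :: l, a => grun l (gstep a e)

theorem grun0 : grun orb0 seen0 = seen1 := by decide +kernel
theorem grun1 : grun orb1 seen1 = seen2 := by decide +kernel
theorem grun2 : grun orb2 seen2 = seen3 := by decide +kernel
theorem grun3 : grun orb3 seen3 = seen4 := by decide +kernel
theorem grun4 : grun orb4 seen4 = seen5 := by decide +kernel
theorem grun5 : grun orb5 seen5 = seen6 := by decide +kernel

theorem seen_start : seen0 = 1 <<< 5 := by decide +kernel

theorem seen_all : ((List.range 4096).all fun c => Nat.beq c 0 || (1 &&& (seen6 >>> c) == 1) ||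
    !(hermForm 6 K4 2 (vec6 c) (vec6 c) == 0)) = true := by decide +kernel

theorem start_mat : suVal (sgen 4) = 1 + Matrix.vecMulVec (vec6 5) (fun i => vec6 5 i ^ 2) := by decide +kernel

/-- The vector is the image of the first one under a word. -/
def Reached (a : ℕ) : Prop :=
  ∀ c, c < 4096 → a.testBit c = true → ∃ w, suVal (el w) *ᵥ vec6 5 = vec6 c

theorem gstep_sound {a : ℕ} (h : Reached a) (e : ℕ) : Reached (gstep a e) := by
  rw [gstep]
  split_ifs with hc
  · simp only [Bool.and_eq_true, Nat.blt_eq] at hc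
    obtain ⟨⟨⟨-, -⟩, heq⟩, hbit⟩ := hc
    intro c hc' hb
    rw [Nat.testBit_or, Bool.or_eq_true] at hb
    rcases hb with hb | hb
    · exact h c hc' hb
    rw [Nat.one_shiftLeft, Nat.testBit_two_pow, decide_eq_true_eq] at hb
    subst hb
    obtain ⟨w, hw⟩ := h (e % 4096) (Nat.mod_lt _ (by norm_num)) (by
      simp only [Nat.testBit]; rw [beq_iff_eq.1 hbit]; rfl)
    refine ⟨(e / 4096 % 8) :: w, ?_⟩
    rw [el, suVal_mul, ← Matrix.mulVec_mulVec, hw]
    conv_rhs => rw [← Nat.eq_of_beq_eq_true heq, vec6_code6]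
  · exact h

theorem grun_sound : ∀ (l : List ℕ) {a : ℕ}, Reached a → Reached (grun l a)
  | [], _, h => h
  | e :: l, _, h => grun_sound l (gstep_sound h e)

theorem reached : Reached seen6 := by
  rw [← grun5]; refine grun_sound _ ?_
  rw [← grun4]; refine grun_sound _ ?_
  rw [← grun3]; refine grun_sound _ ?_
  rw [← grun2]; refine grun_sound _ ?_
  rw [← grun1]; refine grun_sound _ ?_
  rw [← grun0]; refine grun_sound _ ?_
  rw [seen_start]
  intro c hc hb
  rw [Nat.one_shiftLeft, Nat.testBit_two_pow, decide_eq_true_eq] at hb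
  subst hb
  exact ⟨[], by rw [el]; exact Matrix.one_mulVec _⟩

/-- Every element of `SU₆(2)` is the element of a word. -/
theorem exists_word (s : SU6) : ∃ w, el w = s := by
  have hinv : ∀ x : SU6, x ∈ wordSub → x⁻¹ ∈ wordSub := fun x hx => by
    rw [inv_eq_of_mul_eq_one_right (show x * x ^ (orderOf x - 1) = 1 by
      rw [← pow_succ', Nat.sub_add_cancel (orderOf_pos x), pow_orderOf_eq_one])]
    exact pow_mem hx _
  let H : Subgroup SU6 := { wordSub with inv_mem' := fun {x} hx => hinv x hx }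
  have hH : H = ⊤ := by
    rw [eq_top_iff, ← Fus.UnitTv.closure_transvections K4.card_eq (n := 6) (by norm_num) (by norm_num),
      Subgroup.closure_le]
    rintro A ⟨v, c, hv, hA⟩
    by_cases hv0 : v = 0
    · rw [show A = 1 from suVal_ext (by rw [hA]; subst hv0; simp [unitaryTransvection]; rfl)]
      exact one_mem H
    rw [Fus.UnitTv.ut_eq K4.card_eq] at hA
    have hc0 : c = 0 ∨ c = 1 := by
      have hcc := (Fus.UnitTv.eok_of_mem K4.card_eq hv0 hv A hA).cc
      have key : ∀ c : K4, c + c ^ 2 = 0 → c = 0 ∨ c = 1 := by decide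
      refine key c ?_
      simpa [hermForm] using hcc
    rcases hc0 with rfl | rfl
    · rw [show A = 1 from suVal_ext (by
        refine hA.trans (Matrix.ext_iff_mulVec.2 fun x => ?_)
        rw [tv_apply' K4.card_eq, zero_mul, zero_smul, add_zero]
        exact (Matrix.one_mulVec x).symm)]
      exact one_mem H
    obtain ⟨w, hw⟩ : ∃ w, suVal (el w) *ᵥ vec6 5 = v := by
      have h1 := List.all_eq_true.1 seen_all (code6 v) (List.mem_range.2 (code6_lt v))
      rw [vec6_code6] at h1
      have hne : code6 v ≠ 0 := fun e => hv0 (by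
        rw [← vec6_code6 v, e]; funext i; fin_cases i <;> rfl)
      simp only [Bool.or_eq_true, Bool.not_eq_true', beq_eq_false_iff_ne, ne_eq, hv, not_true_eq_false,
        or_false] at h1
      rcases h1 with h1 | h1
      · exact absurd (Nat.eq_of_beq_eq_true h1) hne
      · obtain ⟨w, hw⟩ := reached (code6 v) (code6_lt v) (by
          simp only [Nat.testBit]; rw [beq_iff_eq.1 h1]; rfl)
        exact ⟨w, by rw [hw, vec6_code6]⟩
    have hA' : A = el w * el [4] * (el w)⁻¹ := by
      refine suVal_ext ?_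
      rw [suVal_mul, suVal_mul, hA, ← hw, show el [4] = sgen 4 from mul_one _, start_mat]
      have e := eMat_conj (F := K4) K4.card_eq (el w) (vec6 5) 0 (1 : K4)
      rw [Matrix.mulVec_zero] at e
      rw [← e]
      congr 2
      rw [← Fus.UnitTv.ut_eq K4.card_eq, unitaryTransvection, one_smul]
    rw [hA']
    exact mul_mem (mul_mem ⟨w, rfl⟩ ⟨[4], rfl⟩) (hinv _ ⟨w, rfl⟩)
  exact (hH ▸ Subgroup.mem_top s : s ∈ H)

end Cfsg.Agent.Fus.U62Module
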