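import Cfsg.Agent.Lib.Fus.U62Module.Conj
import Cfsg.Agent.Lib.Spor.SUFieldCongr
import Cfsg.Agent.Lib.Classical.UnitFieldAut
import Cfsg.Agent.Lib.Classical.UnitDiagonalOut
import Cfsg.Agent.Lib.Fus.UnitTransvection

/-!
A group which is `U₆(2)`, or has it as a subgroup of index two with trivial centraliser, contains a
distinguished image of `SU₆(2)` and, in the second case, an involution inducing the conjugation.
-/

set_option autoImplicit false
set_option maxRecDepth 100000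

namespace Cfsg.Agent.Fus.U62Module

open Matrix Cfsg Cfsg.Agent.Classical Cfsg.Agent.Classical.PSUAut
open Cfsg.Agent.Spor.USixTwo (K4)

/-- The groups in question, with their parametrisation. -/
def IsImage {G : Type*} [Group G] (φ : SU6 →* G) : Prop :=
  φ.ker = Subgroup.center SU6 ∧ (∀ k : G, (∀ s, k * φ s = φ s * k) → k = 1) ∧
    ((∀ k : G, k ∈ φ.range) ∨
      ∃ k1 : G, k1 * k1 = 1 ∧ (∀ s, k1 * φ s * k1 = φ (cjS s)) ∧ ∀ k : G, k ∈ φ.range ∨ k * k1 ∈ φ.range)

theorem congr_psu (F : Type*) [Field F] [Fintype F] (hF : Fintype.card F = 4) :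
    Nonempty (PSU 6 K4 2 ≃* PSU 6 F 2) := by
  classical
  let θ : K4 ≃+* F := FiniteField.ringEquivOfCardEq (by rw [hF]; rfl)
  let e : SU6 ≃* SU 6 F 2 := Spor.SUCongr.equiv 2 θ
  refine ⟨QuotientGroup.congr _ _ e ?_⟩
  ext y
  constructor
  · rintro ⟨x, hx, rfl⟩
    refine Subgroup.mem_center_iff.2 fun z => ?_
    obtain ⟨w, rfl⟩ := e.surjective z
    show e w * e x = e x * e w
    rw [← map_mul, ← map_mul, Subgroup.mem_center_iff.1 hx w]
  · intro hy
    refine ⟨e.symm y, Subgroup.mem_center_iff.2 fun z => e.injective ?_, e.apply_symm_apply y⟩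
    rw [map_mul, map_mul, e.apply_symm_apply, Subgroup.mem_center_iff.1 hy (e z)]

theorem field_cases : ∀ σ : RingAut K4, σ = 1 ∨ σ = sq := by
  intro σ
  have h : σ (K4.of 2) = K4.of 2 ∨ σ (K4.of 2) = K4.of 3 := by
    have key : ∀ a : K4, a * a = a + 1 → a = K4.of 2 ∨ a = K4.of 3 := by decide
    refine key _ ?_
    rw [← map_mul, show K4.of 2 * K4.of 2 = K4.of 2 + 1 by decide, map_add, map_one]
  have all : ∀ a : K4, a = 0 ∨ a = 1 ∨ a = K4.of 2 ∨ a = K4.of 2 + 1 := by decide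
  rcases h with h | h
  · refine Or.inl (RingEquiv.ext fun a => ?_)
    show σ a = a
    rcases all a with rfl | rfl | rfl | rfl <;> simp [h]
  · refine Or.inr (RingEquiv.ext fun a => ?_)
    show σ a = a ^ 2
    rcases all a with rfl | rfl | rfl | rfl <;> simp [h] <;> decide

theorem exists_diag : ∀ d : K4, d * d ^ 2 = 1 → ∃ z : GU 6 K4 2, (UnitDiagonalOut.guVal z).det = d := by
  intro d hd
  have hne : d ≠ 0 := fun h => by simp [h] at hd
  let u : UnitDiagonalOut.normOne K4 2 := ⟨Units.mk0 d hne, by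
    refine Units.ext ?_
    show (d : K4) ^ (2 + 1) = 1
    rw [pow_succ', hd]⟩
  obtain ⟨z, hz⟩ := UnitDiagonalOut.guDet_surjective (n := 6) K4.card_eq (by norm_num) u
  refine ⟨z, ?_⟩
  have h := UnitDiagonalOut.coe_guDet K4.card_eq z
  rw [hz] at h
  exact h.symm

theorem eq_suToGU {g : GU 6 K4 2} (h : (UnitDiagonalOut.guVal g).det = 1) :
    ∃ s : SU6, suToGU s = g :=
  ⟨⟨⟨_, h⟩, g.2⟩, Subtype.ext (Units.ext rfl)⟩

theorem det_gu_mul (a b : GU 6 K4 2) :
    (UnitDiagonalOut.guVal (a * b)).det = (UnitDiagonalOut.guVal a).det * (UnitDiagonalOut.guVal b).det := by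
  rw [show UnitDiagonalOut.guVal (a * b) = UnitDiagonalOut.guVal a * UnitDiagonalOut.guVal b from rfl,
    Matrix.det_mul]

theorem center_eq_one (x : PSU 6 K4 2) (h : ∀ y, x * y = y * x) : x = 1 := by
  refine conj_eq_one K4.card_eq (by norm_num) (MulEquiv.ext fun y => ?_)
  rw [MulAut.conj_apply, h, mul_inv_cancel_right]
  rfl

theorem image_simple {G : Type*} [Group G] (e : G ≃* PSU 6 K4 2) : ∃ φ : SU6 →* G, IsImage φ := by
  refine ⟨e.symm.toMonoidHom.comp (suToPSU 6 K4 2), ?_, fun k hk => ?_, Or.inl fun k => ?_⟩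
  · ext s
    rw [MonoidHom.mem_ker, MonoidHom.comp_apply, MulEquiv.coe_toMonoidHom, map_eq_one_iff _ e.symm.injective]
    exact QuotientGroup.eq_one_iff s
  · refine e.injective ((center_eq_one _ fun y => ?_).trans (map_one e).symm)
    obtain ⟨s, rfl⟩ := suToPSU_surjective y
    have h := congrArg e (hk s)
    simpa using h
  · obtain ⟨s, hs⟩ := suToPSU_surjective (e k)
    exact ⟨s, by simp [hs]⟩

theorem image_two {G : Type*} [Group G] (K₀ : Subgroup G) (hn : K₀.Normal) (hind : K₀.index = 2)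
    (hcent : Subgroup.centralizer (K₀ : Set G) = ⊥) (e : PSU 6 K4 2 ≃* K₀) : ∃ φ : SU6 →* G, IsImage φ := by
  let Θ : G →* MulAut (PSU 6 K4 2) :=
    (MulAut.congr e.symm).toMonoidHom.comp (MulAut.conjNormal (H := K₀))
  have hΘ : ∀ k x, ((e (Θ k x)) : G) = k * (e x : G) * k⁻¹ := fun k x => by
    show ((e (e.symm (MulAut.conjNormal k (e x)))) : G) = _
    rw [e.apply_symm_apply, MulAut.conjNormal_apply]
  have hΘinj : Function.Injective Θ := (injective_iff_map_eq_one Θ).2 fun k hk => by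
    refine (Subgroup.mem_bot).1 (hcent ▸ Subgroup.mem_centralizer_iff.2 fun y hy => ?_)
    obtain ⟨x, hx⟩ : ∃ x, e x = ⟨y, hy⟩ := e.surjective _
    have h := hΘ k x
    rw [hk, MulAut.one_apply, hx] at h
    calc y * k = k * y * k⁻¹ * k := by rw [← h]
      _ = k * y := inv_mul_cancel_right _ _
  have hΘe : ∀ x, Θ (e x : G) = MulAut.conj x := fun x => MulEquiv.ext fun y => e.injective (Subtype.ext (by
    rw [hΘ, MulAut.conj_apply, map_mul, map_mul, map_inv]
    rfl))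
  obtain ⟨k, hk⟩ : ∃ k : G, k ∉ K₀ := by
    by_contra hcon
    push Not at hcon
    rw [Subgroup.index_eq_one.2 (eq_top_iff.2 fun x _ => hcon x)] at hind
    norm_num at hind
  obtain ⟨g, σ, hg⟩ := exists_param K4.card_eq (n := 6) (by norm_num) (by norm_num) (Θ k)
  set δ := (UnitDiagonalOut.guVal g).det with hδ
  have hnorm : δ * δ ^ 2 = 1 := by
    rw [← pow_succ' δ 2]
    exact UnitDiagonalOut.det_norm_one K4.card_eq g
  rcases field_cases σ with rfl | rfl
  · exfalso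
    refine hk ?_
    obtain ⟨x, hx⟩ : ∃ x, (e x : G) = k * k :=
      ⟨e.symm ⟨k * k, Subgroup.mul_self_mem_of_index_two hind k⟩, by rw [e.apply_symm_apply]⟩
    obtain ⟨s, rfl⟩ := suToPSU_surjective x
    have h := hΘe (suToPSU 6 K4 2 s)
    rw [hx, map_mul, hg, conj_eq_psuSemi] at h
    change inndiagHom 6 K4 2 g * inndiagHom 6 K4 2 g = inndiagHom 6 K4 2 (suToGU s) at h
    rw [← map_mul] at h
    obtain ⟨c, hc⟩ := (semi_eq_iff K4.card_eq (n := 6) (by norm_num) (σ := 1)).1 h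
    have hd := congrArg (fun u : GL (Fin 6) K4 => (u : Matrix (Fin 6) (Fin 6) K4).det) hc
    simp only [Subgroup.coe_mul, Units.val_mul, Matrix.det_mul, suToGU_coe, sc_coe, Matrix.det_smul,
      Matrix.det_one, mul_one, Fintype.card_fin, show (suVal s).det = 1 from s.1.2, ← hδ] at hd
    have h1 : δ = 1 := (show ∀ d : K4, d * d ^ 2 = 1 → ∀ c : K4, c ≠ 0 → d * d = c ^ 6 → d = 1 by decide)
      δ hnorm (c : K4) c.ne_zero hd
    obtain ⟨t, ht⟩ := eq_suToGU (g := g) h1
    rw [hΘinj (show Θ k = Θ (e (suToPSU 6 K4 2 t) : G) by rw [hΘe, conj_eq_psuSemi, ht, hg]; rfl)]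
    exact SetLike.coe_mem _
  · obtain ⟨z, hz⟩ := exists_diag δ hnorm
    set m := z * g * (guMap sq z)⁻¹ with hm
    have hmd : (UnitDiagonalOut.guVal m).det = 1 := by
      have hzs : (UnitDiagonalOut.guVal (guMap sq z)).det = δ ^ 2 := by
        show ((UnitDiagonalOut.guVal z).map sq).det = δ ^ 2
        rw [← hz]
        exact (RingEquiv.map_det sq _).symm
      have e1 := det_gu_mul (guMap sq z)⁻¹ (guMap sq z)
      rw [inv_mul_cancel, hzs, show UnitDiagonalOut.guVal (1 : GU 6 K4 2) = 1 from rfl, Matrix.det_one] at e1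
      rw [hm, det_gu_mul, det_gu_mul, hz, ← hδ]
      exact (show ∀ d c : K4, d * d ^ 2 = 1 → 1 = c * d ^ 2 → d * d * c = 1 by decide) δ _ hnorm e1
    obtain ⟨s, hs⟩ := eq_suToGU hmd
    let e' : PSU 6 K4 2 ≃* K₀ := (inndiagHom 6 K4 2 z)⁻¹.trans e
    have he' : ∀ x, e' x = e ((inndiagHom 6 K4 2 z)⁻¹ x) := fun x => rfl
    set k' := ((e' (suToPSU 6 K4 2 s) : G))⁻¹ * k with hk'
    set Z := inndiagHom 6 K4 2 z with hZ
    have hkey : Z * Θ k' * Z⁻¹ = psuSemi 1 sq := by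
      have h1 : Z * Θ k * Z⁻¹ = psuSemi m sq := by
        rw [hg, hZ, inndiagHom_apply, psuSemi_refl_inv, psuSemi_refl_mul, psuSemi_mul', map_inv, hm]
        rfl
      have h2 : Θ (e' (suToPSU 6 K4 2 s) : G) = Z⁻¹ * MulAut.conj (suToPSU 6 K4 2 s) * Z := by
        rw [he', hΘe]
        refine MulEquiv.ext fun y => ?_
        simp only [MulAut.mul_apply, MulAut.conj_apply, map_mul, map_inv]
        rw [show Z⁻¹ (Z y) = y from Z.symm_apply_apply y]
      rw [hk', map_mul, map_inv, h2,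
        show Z * ((Z⁻¹ * MulAut.conj (suToPSU 6 K4 2 s) * Z)⁻¹ * Θ k) * Z⁻¹ =
          (MulAut.conj (suToPSU 6 K4 2 s))⁻¹ * (Z * Θ k * Z⁻¹) by group, h1, conj_eq_psuSemi, hs,
        psuSemi_refl_inv, psuSemi_refl_mul, inv_mul_cancel]
    have hsqsq : (sq : RingAut K4) * sq = 1 := RingEquiv.ext fun a => sq.left_inv a
    have hk2 : k' * k' = 1 := hΘinj (by
      have h : (Z * Θ k' * Z⁻¹) * (Z * Θ k' * Z⁻¹) = 1 := by
        rw [hkey, psuSemi_mul', hsqsq, map_one, mul_one]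
        exact psuSemi_one
      rw [map_mul, map_one]
      calc Θ k' * Θ k' = Z⁻¹ * ((Z * Θ k' * Z⁻¹) * (Z * Θ k' * Z⁻¹)) * Z := by group
        _ = 1 := by rw [h]; group)
    have hk'n : k' ∉ K₀ := fun h => hk (by
      have := K₀.mul_mem (SetLike.coe_mem (e' (suToPSU 6 K4 2 s))) h
      rwa [hk', mul_inv_cancel_left] at this)
    have hk'i : k'⁻¹ = k' := inv_eq_of_mul_eq_one_right hk2
    let φ : SU6 →* G := K₀.subtype.comp (e'.toMonoidHom.comp (suToPSU 6 K4 2))
    have hrange : ∀ x ∈ K₀, x ∈ φ.range := fun x hx => by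
      obtain ⟨y, hy⟩ := e'.surjective ⟨x, hx⟩
      obtain ⟨t, rfl⟩ := suToPSU_surjective y
      exact ⟨t, congrArg Subtype.val hy⟩
    refine ⟨φ, ?_, fun x hx => ?_, Or.inr ⟨k', hk2, fun t => ?_, fun x => ?_⟩⟩
    · ext t
      show (e' (suToPSU 6 K4 2 t) : G) = 1 ↔ _
      rw [OneMemClass.coe_eq_one, map_eq_one_iff e' e'.injective]
      exact QuotientGroup.eq_one_iff t
    · refine Subgroup.mem_bot.1 (hcent ▸ Subgroup.mem_centralizer_iff.2 fun y hy => ?_)
      obtain ⟨t, rfl⟩ := hrange y hy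
      exact (hx t).symm
    · show k' * (e' (suToPSU 6 K4 2 t) : G) * k' = (e' (suToPSU 6 K4 2 (cjS t)) : G)
      nth_rewrite 2 [← hk'i]
      rw [he', ← hΘ, he', show suToPSU 6 K4 2 (cjS t) = psuSemi 1 sq (suToPSU 6 K4 2 t) from rfl, ← hkey]
      congr 2
      simp only [MulAut.mul_apply]
      exact (Z.symm_apply_apply _).symm
    · by_cases h : x ∈ K₀
      · exact Or.inl (hrange x h)
      · exact Or.inr (hrange _ ((Subgroup.mul_mem_iff_of_index_two hind).2 (iff_of_false h hk'n)))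

/-- A normal subgroup which is not trivial contains the image. -/
theorem image_le_normal {G : Type*} [Group G] {φ : SU6 →* G} (hφ : IsImage φ) {N : Subgroup G} (hN : N.Normal)
    (hne : N ≠ ⊥) : φ.range ≤ N := by
  obtain ⟨hker, hcent, hsp⟩ := hφ
  have : IsSimpleGroup (PSU 6 K4 2) := UnitTv.isSimpleGroup_psu K4.card_eq (by norm_num) (by norm_num)
  have hrn : ∀ x : G, ∀ s, x * φ s * x⁻¹ ∈ φ.range := by
    intro x s
    rcases hsp with h | ⟨k1, h1, hc, h⟩
    · obtain ⟨t, rfl⟩ := h x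
      exact ⟨t * s * t⁻¹, by simp⟩
    · rcases h x with ⟨t, rfl⟩ | ⟨t, ht⟩
      · exact ⟨t * s * t⁻¹, by simp⟩
      · have hx : x = φ t * k1 := by rw [ht, mul_assoc, h1, mul_one]
        refine ⟨t * cjS s * t⁻¹, ?_⟩
        rw [map_mul, map_mul, map_inv, ← hc, hx, _root_.mul_inv_rev, inv_eq_of_mul_eq_one_right h1]
        group
  have hnor : (N.comap φ).Normal := hN.comap φ
  have hπ := QuotientGroup.mk'_surjective (Subgroup.center SU6)
  rcases (hnor.map (QuotientGroup.mk' (Subgroup.center SU6)) hπ).eq_bot_or_eq_top with h | h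
  · refine absurd ((Subgroup.eq_bot_iff_forall N).2 fun x hx => hcent x fun s => ?_) hne
    obtain ⟨t, ht⟩ := hrn x s
    have hc : φ (t * s⁻¹) = x * φ s * x⁻¹ * (φ s)⁻¹ := by rw [map_mul, map_inv, ht]
    have hmem : t * s⁻¹ ∈ N.comap φ := by
      rw [Subgroup.mem_comap, hc, mul_assoc x, mul_assoc x]
      exact N.mul_mem hx (hN.conj_mem _ (N.inv_mem hx) _)
    have h1 : t * s⁻¹ ∈ Subgroup.center SU6 :=
      (QuotientGroup.eq_one_iff _).1 ((Subgroup.eq_bot_iff_forall _).1 h _ ⟨_, hmem, rfl⟩)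
    rw [← hker, MonoidHom.mem_ker, hc, mul_inv_eq_one, mul_inv_eq_iff_eq_mul] at h1
    exact h1
  · rintro _ ⟨s, rfl⟩
    obtain ⟨t, ht, e⟩ := (h.symm ▸ Subgroup.mem_top (QuotientGroup.mk' (Subgroup.center SU6) s) :
      QuotientGroup.mk' (Subgroup.center SU6) s ∈ (N.comap φ).map _)
    have hz : t⁻¹ * s ∈ φ.ker := hker.symm ▸ QuotientGroup.eq.1 e
    rw [MonoidHom.mem_ker, map_mul, map_inv, inv_mul_eq_one] at hz
    exact hz ▸ ht

end Cfsg.Agent.Fus.U62Module
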