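import Cfsg.Agent.Lib.Fus.U62Module.Word
import Cfsg.Agent.Lib.Fus.U62Module.InvData

/-!
The twenty-dimensional module of `U₆(2)`: the five classes of involutions, and the fixed vectors which allow
an element of order three in the centraliser.
-/

set_option autoImplicit false
set_option maxRecDepth 100000

namespace Cfsg.Agent.Fus.U62Module

open Cfsg.Agent.Invol.ExtraEight (app mu app_zero app_xor)

/-- The vector `v` is fixed by an element of order three commuting with `T`, up to the image of `1 + T`. -/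
def GoodAt (T : List ℕ) (v : ℕ) : Prop :=
  ∃ w b, b < N20 ∧ mu (wmat w) T = mu T (wmat w) ∧ mpow (wmat w) 3 = idm ∧ wmat w ≠ idm ∧
    app (wmat w) v ^^^ v = b ^^^ app T b

/-- The bad vector. -/
def vBad : ℕ := 80

/-- The vector `v` is carried to the bad vector. -/
def BadAt (T : List ℕ) (v : ℕ) : Prop :=
  ∃ w c, c < N20 ∧ mu (wmat w) T = mu T (wmat w) ∧ app (wmat w) v = vBad ^^^ (c ^^^ app T c)

theorem comm_app {w : List ℕ} {T : List ℕ} (h : mu (wmat w) T = mu T (wmat w)) (v : ℕ) :
    app (wmat w) (app T v) = app T (app (wmat w) v) := by rw [← app_mu, h, app_mu]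

theorem GoodAt.shift {T : List ℕ} {v c : ℕ} (hc : c < N20) (h : GoodAt T v) :
    GoodAt T (v ^^^ (c ^^^ app T c)) := by
  obtain ⟨w, b, hb, hwT, h3, hne, e⟩ := h
  refine ⟨w, b ^^^ (app (wmat w) c ^^^ c),
    Nat.xor_lt_two_pow (n := 20) hb (Nat.xor_lt_two_pow (n := 20) (wmat_lt w c) hc), hwT, h3, hne, ?_⟩
  rw [app_xor, app_xor, comm_app hwT, app_xor T, app_xor T]
  apply Nat.eq_of_testBit_eq
  intro i
  have e' := congrArg (fun x => x.testBit i) e
  simp only [Nat.testBit_xor] at e' ⊢
  revert e'
  cases (app (wmat w) v).testBit i <;> cases v.testBit i <;> cases b.testBit i <;>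
    cases (app T b).testBit i <;> cases (app T (app (wmat w) c)).testBit i <;> cases c.testBit i <;>
    cases (app T c).testBit i <;> simp

theorem BadAt.shift {T : List ℕ} {v c : ℕ} (h : BadAt T v) :
    BadAt T (v ^^^ (c ^^^ app T c)) := by
  obtain ⟨w, d, hd, hwT, e⟩ := h
  refine ⟨w, d ^^^ app (wmat w) c, Nat.xor_lt_two_pow (n := 20) hd (wmat_lt w c), hwT, ?_⟩
  rw [app_xor, app_xor, comm_app hwT, app_xor T, e]
  apply Nat.eq_of_testBit_eq
  intro i
  simp only [Nat.testBit_xor]
  cases d.testBit i <;> cases (app T d).testBit i <;> cases vBad.testBit i <;> simp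

/-- The lines carrying the classes. -/
def lineBasis (ls : List ℕ) : List ℕ := ls.flatMap fun i => [4 ^ i, 2 * 4 ^ i]

/-- The index of a class. -/
def cidx : List ℕ → ℕ → ℕ
  | [], _ => 0
  | i :: ls, v => dig i v + 4 * cidx ls v

/-- A certificate for a class. -/
def certOK (T : List ℕ) (ls : List ℕ) (W : List (List ℕ)) (C : List (ℕ × ℕ)) (bad : List (List ℕ)) (c : ℕ) :
    Bool :=
  (Nat.blt (C.getD c (0, 0)).1 W.length && Nat.blt (C.getD c (0, 0)).2 N20 &&
      app (wmat (W.getD (C.getD c (0, 0)).1 [])) (app (lineBasis ls) c) ^^^ app (lineBasis ls) c ==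
        (C.getD c (0, 0)).2 ^^^ app T (C.getD c (0, 0)).2) ||
    (Nat.blt c bad.length && mu (wmat (bad.getD c [])) T == mu T (wmat (bad.getD c [])) &&
      app (wmat (bad.getD c [])) (app (lineBasis ls) c) == vBad)

/-- A word of order three commuting with `T`. -/
def wordOK (T : List ℕ) (w : List ℕ) : Bool :=
  mu (wmat w) T == mu T (wmat w) && mpow (wmat w) 3 == idm && !(wmat w == idm)

/-- A decomposition of the fixed vectors. -/
def splitOK (T P B Q : List ℕ) (ls : List ℕ) : Bool :=
  idm.all (fun a => a == app P a ^^^ (app B a ^^^ (app T (app B a) ^^^ app Q (a ^^^ app T a)))) &&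
    mu (lineBasis ls) (P.map (cidx ls)) == P && ok B &&
      (P.map (cidx ls)).all fun x => Nat.blt x (4 ^ ls.length)

/-- What a certificate proves. -/
theorem classes {T P B Q : List ℕ} {ls : List ℕ} {W : List (List ℕ)} {C : List (ℕ × ℕ)}
    {bad : List (List ℕ)} (hs : splitOK T P B Q ls = true) (hw : W.all (wordOK T) = true)
    (hc : (List.range (4 ^ ls.length)).all (certOK T ls W C bad) = true) {a : ℕ} (ha : a < N20)
    (hfix : app T a = a) : GoodAt T a ∨ (bad ≠ [] ∧ BadAt T a) := by
  simp only [splitOK, Bool.and_eq_true, beq_iff_eq, List.all_eq_true, Nat.blt_eq] at hs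
  obtain ⟨⟨⟨hid, hP⟩, hB⟩, hlt⟩ := hs
  have e := eq_on_bits (fun a => a) (fun a => app P a ^^^ (app B a ^^^ (app T (app B a) ^^^ app Q (a ^^^ app T a))))
    rfl (fun _ _ => rfl) (by simp [app_zero]) (fun u v => by
      simp only [app_xor]
      simp only [Nat.xor_assoc, Nat.xor_left_comm])
    (List.map_congr_left hid) ha
  simp only [hfix, Nat.xor_self, app_zero, Nat.xor_zero] at e
  rw [← hP, app_mu] at e
  set c := app (P.map (cidx ls)) a
  have hc' : c < 4 ^ ls.length := by
    rw [show (4 : ℕ) ^ ls.length = 2 ^ (2 * ls.length) by rw [pow_mul]; norm_num]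
    refine app_lt (fun x hx => ?_) a
    rw [pow_mul]
    exact hlt x hx
  have h1 := List.all_eq_true.1 hc c (List.mem_range.2 hc')
  simp only [certOK, Bool.or_eq_true, Bool.and_eq_true, beq_iff_eq, Nat.blt_eq] at h1
  have hb : app B a < N20 := app_ok_lt hB a
  rw [e]
  rcases h1 with ⟨⟨hi, hb'⟩, he⟩ | ⟨⟨hne, hT⟩, he⟩
  · refine Or.inl (GoodAt.shift hb ?_)
    have h2 := List.all_eq_true.1 hw _ (List.getElem_mem hi)
    simp only [wordOK, Bool.and_eq_true, beq_iff_eq, Bool.not_eq_true', beq_eq_false_iff_ne] at h2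
    rw [← List.getD_eq_getElem _ [] hi] at h2
    exact ⟨_, _, hb', h2.1.1, h2.1.2, h2.2, he⟩
  · refine Or.inr ⟨fun e0 => by simp [e0] at hne, BadAt.shift ⟨_, 0, by norm_num, hT, ?_⟩⟩
    rw [he]
    simp [app_zero]

/-- The five involutions. -/
def invOne : List ℕ := wmat oneT

/-- The second involution. -/
def invTwo : List ℕ := wmat twoT

/-- The third involution. -/
def invThree : List ℕ := wmat threeT

/-- The conjugation twisted by the third involution. -/
def invConjThree : List ℕ := mu conjMat (wmat conjThreeT)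

theorem split_facts : splitOK invOne oneP oneB oneQ [0, 1, 2, 3] = true ∧
    splitOK invTwo twoP twoB twoQ [2, 3] = true ∧ splitOK invThree threeP threeB threeQ [] = true ∧
    splitOK conjMat conjP conjB conjQ [] = true ∧
    splitOK invConjThree conjThreeP conjThreeB conjThreeQ [5, 6, 7, 8] = true := by decide +kernel

theorem word_facts : oneW.all (wordOK invOne) = true ∧ twoW.all (wordOK invTwo) = true ∧
    threeW.all (wordOK invThree) = true ∧ conjW.all (wordOK conjMat) = true ∧
    conjThreeW.all (wordOK invConjThree) = true := by decide +kernel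

theorem cert_facts : (List.range (4 ^ 4)).all (certOK invOne [0, 1, 2, 3] oneW oneC []) = true ∧
    (List.range (4 ^ 2)).all (certOK invTwo [2, 3] twoW twoC twoBadW) = true ∧
    (List.range (4 ^ 0)).all (certOK invThree [] threeW threeC []) = true ∧
    (List.range (4 ^ 0)).all (certOK conjMat [] conjW conjC []) = true ∧
    (List.range (4 ^ 4)).all (certOK invConjThree [5, 6, 7, 8] conjThreeW conjThreeC []) = true := by
  decide +kernel

/-- The five matrices. -/
def invList : List (List ℕ) := [invOne, invTwo, invThree, conjMat, invConjThree]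

theorem invList_classes {T : List ℕ} (hT : T ∈ invList) {a : ℕ} (ha : a < N20) (hfix : app T a = a) :
    GoodAt T a ∨ (T = invTwo ∧ BadAt T a) := by
  simp only [invList, List.mem_cons, List.not_mem_nil, or_false] at hT
  obtain ⟨s1, s2, s3, s4, s5⟩ := split_facts
  obtain ⟨w1, w2, w3, w4, w5⟩ := word_facts
  obtain ⟨c1, c2, c3, c4, c5⟩ := cert_facts
  rcases hT with rfl | rfl | rfl | rfl | rfl
  · exact (classes s1 w1 c1 ha hfix).imp_right fun h => absurd rfl h.1
  · exact (classes s2 w2 c2 ha hfix).imp_right fun h => ⟨rfl, h.2⟩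
  · exact (classes s3 w3 c3 ha hfix).imp_right fun h => absurd rfl h.1
  · exact (classes s4 w4 c4 ha hfix).imp_right fun h => absurd rfl h.1
  · exact (classes s5 w5 c5 ha hfix).imp_right fun h => absurd rfl h.1

end Cfsg.Agent.Fus.U62Module
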