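import Cfsg.Agent.Lib.Fus.U62Module.Word
import Cfsg.Agent.Lib.Fus.U62Module.Gen

/-!
The twenty-dimensional module of `U₆(2)`: the invariant quadratic form, the parity of the number of nonzero
coordinates.
-/

set_option autoImplicit false
set_option maxRecDepth 100000

namespace Cfsg.Agent.Fus.U62Module

open Cfsg.Agent.Invol.ExtraEight (app mu app_zero app_xor)

/-- The parity of the nonzero digits among the first ones. -/
def qfN : ℕ → ℕ → Bool
  | 0, _ => false
  | n + 1, v => !(v % 4 == 0) ^^ qfN n (v / 4)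

/-- The quadratic form. -/
def qf (v : ℕ) : Bool := qfN 10 v

/-- Its polar form. -/
def bf (u v : ℕ) : Bool := qf (u ^^^ v) ^^ qf u ^^ qf v

theorem div_four_xor (u v : ℕ) : (u ^^^ v) / 4 = u / 4 ^^^ v / 4 := by
  rw [show (4 : ℕ) = 2 ^ 2 from rfl]
  apply Nat.eq_of_testBit_eq
  intro i
  simp only [Nat.testBit_xor, Nat.testBit_div_two_pow]

theorem mod_four_xor (u v : ℕ) : (u ^^^ v) % 4 = u % 4 ^^^ v % 4 := by
  simpa [dig] using dig_xor 0 u v

theorem cube_digit : ∀ a < 4, ∀ b < 4, ∀ c < 4,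
    ((!(((a ^^^ b) ^^^ c) == 0)) ^^ (!((a ^^^ b) == 0)) ^^ (!((a ^^^ c) == 0)) ^^ (!((b ^^^ c) == 0)) ^^
      (!(a == 0)) ^^ (!(b == 0)) ^^ (!(c == 0))) = false := by decide

theorem xor_pairs (a1 a2 a3 a4 a5 a6 a7 b1 b2 b3 b4 b5 b6 b7 : Bool) :
    ((a1 ^^ b1) ^^ (a2 ^^ b2) ^^ (a3 ^^ b3) ^^ (a4 ^^ b4) ^^ (a5 ^^ b5) ^^ (a6 ^^ b6) ^^ (a7 ^^ b7)) =
      ((a1 ^^ a2 ^^ a3 ^^ a4 ^^ a5 ^^ a6 ^^ a7) ^^ (b1 ^^ b2 ^^ b3 ^^ b4 ^^ b5 ^^ b6 ^^ b7)) := by
  simp only [Bool.xor_assoc, Bool.xor_left_comm, Bool.xor_comm]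

theorem qfN_cube : ∀ n u v w : ℕ, (qfN n ((u ^^^ v) ^^^ w) ^^ qfN n (u ^^^ v) ^^ qfN n (u ^^^ w) ^^
    qfN n (v ^^^ w) ^^ qfN n u ^^ qfN n v ^^ qfN n w) = false
  | 0, _, _, _ => rfl
  | n + 1, u, v, w => by
    have h := qfN_cube n (u / 4) (v / 4) (w / 4)
    have d := cube_digit (u % 4) (Nat.mod_lt _ (by norm_num)) (v % 4) (Nat.mod_lt _ (by norm_num)) (w % 4)
      (Nat.mod_lt _ (by norm_num))
    simp only [qfN, div_four_xor, mod_four_xor] at *
    rw [xor_pairs, d, h]
    rfl

theorem qf_zero : qf 0 = false := by decide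

theorem bf_add_left (u v w : ℕ) : bf (u ^^^ v) w = (bf u w ^^ bf v w) := by
  have h := qfN_cube 10 u v w
  simp only [bf, qf] at *
  revert h
  generalize qfN 10 ((u ^^^ v) ^^^ w) = b1
  generalize qfN 10 (u ^^^ v) = b2
  generalize qfN 10 (u ^^^ w) = b3
  generalize qfN 10 (v ^^^ w) = b4
  generalize qfN 10 u = b5
  generalize qfN 10 v = b6
  generalize qfN 10 w = b7
  cases b1 <;> cases b2 <;> cases b3 <;> cases b4 <;> cases b5 <;> cases b6 <;> simp

theorem bf_comm (u v : ℕ) : bf u v = bf v u := by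
  simp only [bf, Nat.xor_comm v u]
  cases qf (u ^^^ v) <;> cases qf u <;> cases qf v <;> rfl

theorem bf_zero_left (v : ℕ) : bf 0 v = false := by
  have h := bf_add_left 0 0 v
  simpa using h

theorem bf_add_right (u v w : ℕ) : bf u (v ^^^ w) = (bf u v ^^ bf u w) := by
  rw [bf_comm, bf_add_left, bf_comm v, bf_comm w]

/-- A truth value as a digit. -/
def bnat (b : Bool) : ℕ := cond b 1 0

theorem bnat_xor : ∀ a b : Bool, bnat (a ^^ b) = bnat a ^^^ bnat b := by decide

theorem bnat_inj : ∀ a b : Bool, bnat a = bnat b → a = b := by decide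

/-- Additive truth-valued functions which agree on the bits agree. -/
theorem bool_eq_on_bits (f g : ℕ → Bool) (hf : ∀ u v, f (u ^^^ v) = (f u ^^ f v))
    (hg : ∀ u v, g (u ^^^ v) = (g u ^^ g v)) (h : idm.map f = idm.map g) {v : ℕ} (hv : v < N20) : f v = g v := by
  have z : ∀ f : ℕ → Bool, (∀ u v, f (u ^^^ v) = (f u ^^ f v)) → f 0 = false := fun f hf => by
    have := hf 0 0
    simpa using this
  refine bnat_inj _ _ (eq_on_bits (fun x => bnat (f x)) (fun x => bnat (g x)) ?_ ?_ ?_ ?_ ?_ hv)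
  · simp [z f hf, bnat]
  · intro a b; simp [hf, bnat_xor]
  · simp [z g hg, bnat]
  · intro a b; simp [hg, bnat_xor]
  · simpa [List.map_map, Function.comp_def] using congrArg (List.map bnat) h

/-- A matrix preserves the form on the bits. -/
def qok (M : List ℕ) : Bool :=
  idm.all fun x => (qf (app M x) == qf x) && idm.all fun y => bf (app M x) (app M y) == bf x y

theorem qok_gens : ∀ g ∈ idm :: conjMat :: gens, qok g = true := by decide +kernel

theorem qf_app {M : List ℕ} (h : qok M = true) {v : ℕ} (hv : v < N20) : qf (app M v) = qf v := by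
  simp only [qok, List.all_eq_true, Bool.and_eq_true, beq_iff_eq] at h
  have hb1 : ∀ x ∈ idm, ∀ w, w < N20 → bf (app M x) (app M w) = bf x w := fun x hx w hw =>
    bool_eq_on_bits (fun w => bf (app M x) (app M w)) (fun w => bf x w)
      (fun a b => by rw [app_xor, bf_add_right]) (fun a b => bf_add_right x a b)
      (List.map_congr_left fun y hy => (h x hx).2 y hy) hw
  have hb : ∀ u w, u < N20 → w < N20 → bf (app M u) (app M w) = bf u w := fun u w hu hw =>
    bool_eq_on_bits (fun u => bf (app M u) (app M w)) (fun u => bf u w)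
      (fun a b => by rw [app_xor, bf_add_left]) (fun a b => bf_add_left a b w)
      (List.map_congr_left fun x hx => hb1 x hx w hw) hu
  let N : ℕ → Bool := fun x => qf (app M (x % N20)) ^^ qf (x % N20)
  have hmod : ∀ a b : ℕ, (a ^^^ b) % N20 = a % N20 ^^^ b % N20 := fun a b => by
    rw [show N20 = 2 ^ 20 by norm_num]; exact Nat.xor_mod_two_pow
  have hN : ∀ a b, N (a ^^^ b) = (N a ^^ N b) := fun a b => by
    have hlt : ∀ x, x % N20 < N20 := fun x => Nat.mod_lt _ (by norm_num)
    have e := hb (a % N20) (b % N20) (hlt a) (hlt b)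
    simp only [N, hmod, bf, app_xor] at *
    revert e
    generalize qf (app M (a % N20) ^^^ app M (b % N20)) = b1
    generalize qf (a % N20 ^^^ b % N20) = b2
    generalize qf (app M (a % N20)) = b3
    generalize qf (app M (b % N20)) = b4
    generalize qf (a % N20) = b5
    generalize qf (b % N20) = b6
    cases b1 <;> cases b2 <;> cases b3 <;> cases b4 <;> cases b5 <;> simp
  have hzero := bool_eq_on_bits N (fun _ => false) hN (fun _ _ => rfl)
    (List.map_congr_left fun x hx => by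
      have hx' : x % N20 = x := Nat.mod_eq_of_lt (by revert x; decide)
      simp only [N, hx', (h x hx).1]
      simp) hv
  simp only [N, Nat.mod_eq_of_lt hv] at hzero
  revert hzero
  cases qf (app M v) <;> cases qf v <;> simp

theorem qf_wmat : ∀ (w : List ℕ) {v : ℕ}, v < N20 → qf (app (wmat w) v) = qf v
  | [], v, hv => by rw [wmat, app_idm hv]
  | i :: w, v, hv => by
    rw [wmat, app_mu, qf_app ?_ (wmat_lt w v), qf_wmat w hv]
    rcases Nat.lt_or_ge i gens.length with hi | hi
    · rw [List.getD_eq_getElem _ _ hi]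
      exact qok_gens _ (List.mem_cons_of_mem _ (List.mem_cons_of_mem _ (List.getElem_mem hi)))
    · rw [List.getD_eq_default _ _ hi]
      exact qok_gens _ (List.mem_cons_self ..)

end Cfsg.Agent.Fus.U62Module
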