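import Cfsg.Agent.Lib.Fus.U62Module.Image
import Cfsg.Agent.Lib.Fus.U62Module.Gen
import Cfsg.Agent.Lib.Fus.U62Module.QForm

/-!
A group with an elementary abelian subgroup of order `2 ^ 20` normalised by `U₆(2)` or `U₆(2).2`: the vectors
and the action in terms of the model.
-/

set_option autoImplicit false
set_option maxRecDepth 100000
set_option linter.unusedSectionVars false

namespace Cfsg.Agent.Fus.U62Module

open Cfsg.Agent.Invol.ExtraEight (app mu app_zero app_xor)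

universe u

/-- The configuration. -/
structure Ctx (X : Type u) [Group X] where
  /-- The module. -/
  A : Subgroup X
  /-- Its normaliser. -/
  H : Subgroup X
  /-- The complement. -/
  K : Subgroup X
  /-- The parametrisation. -/
  φ : SU6 →* K
  card_A : Nat.card A = 2 ^ 20
  sq_A : ∀ a ∈ A, a * a = 1
  H_eq : H = Subgroup.normalizer (A : Set X)
  K_le : K ≤ H
  exists_mul : ∀ x ∈ H, ∃ a ∈ A, ∃ k ∈ K, x = a * k
  disj : ∀ x ∈ A, x ∈ K → x = 1
  image : IsImage φ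
  faithful : ∀ k ∈ K, (∀ a ∈ A, k * a = a * k) → k = 1

theorem comm_of_sq {X : Type u} [Group X] {A : Subgroup X} (h : ∀ a ∈ A, a * a = 1) {a b : X} (ha : a ∈ A)
    (hb : b ∈ A) : a * b = b * a := by
  rw [← inv_eq_of_mul_eq_one_right (h _ (A.mul_mem ha hb)), _root_.mul_inv_rev,
    inv_eq_of_mul_eq_one_right (h a ha), inv_eq_of_mul_eq_one_right (h b hb)]

theorem exists_central {X : Type u} [Group X] {A K : Subgroup X} (hsq : ∀ a ∈ A, a * a = 1) (hne : A ≠ ⊥)
    (hnK : ∀ k ∈ K, ∀ a ∈ A, k * a * k⁻¹ ∈ A) {φ : SU6 →* K} (hφ : IsImage φ)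
    (hC : ∀ s, ∀ a ∈ A, (φ s : X) * a = a * (φ s : X)) : ∃ a ∈ A, a ≠ 1 ∧ ∀ k ∈ K, k * a = a * k := by
  obtain ⟨a, ha, ha1⟩ : ∃ a ∈ A, a ≠ 1 := by
    by_contra hcon
    push Not at hcon
    exact hne ((Subgroup.eq_bot_iff_forall _).2 hcon)
  rcases hφ.2.2 with h | ⟨k1, h1, -, h⟩
  · refine ⟨a, ha, ha1, fun k hk => ?_⟩
    obtain ⟨s, hs⟩ := h ⟨k, hk⟩
    have := hC s a ha
    rwa [hs] at this
  · have h1X : (k1 : X) * k1 = 1 := congrArg Subtype.val h1
    have key : ∀ b ∈ A, (k1 : X) * b = b * k1 → ∀ k ∈ K, k * b = b * k := by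
      intro b hb hbk k hk
      rcases h ⟨k, hk⟩ with ⟨s, hs⟩ | ⟨s, hs⟩
      · have := hC s b hb
        rwa [hs] at this
      · have e : k = (φ s : X) * k1 := by
          rw [hs]
          show k = k * (k1 : X) * k1
          rw [mul_assoc, h1X, mul_one]
        rw [e, mul_assoc, hbk, ← mul_assoc, hC s b hb, mul_assoc]
    have hki : (k1 : X)⁻¹ = k1 := inv_eq_of_mul_eq_one_right h1X
    set c := (k1 : X) * a * k1 with hc
    have hcA : c ∈ A := by simpa [hc, hki] using hnK _ k1.2 a ha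
    by_cases hca : c = a
    · refine ⟨a, ha, ha1, key a ha ?_⟩
      calc (k1 : X) * a = c * k1 := by rw [hc, mul_assoc _ (k1 : X), h1X, mul_one]
        _ = a * k1 := by rw [hca]
    · refine ⟨a * c, A.mul_mem ha hcA, fun e => hca ?_, key _ (A.mul_mem ha hcA) ?_⟩
      · rw [← inv_eq_of_mul_eq_one_right e, inv_eq_of_mul_eq_one_right (hsq a ha)]
      · calc (k1 : X) * (a * c) = c * a * k1 := by
              rw [hc]; simp only [← mul_assoc, h1X, one_mul, mul_assoc]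
          _ = a * c * k1 := by rw [comm_of_sq hsq hcA ha]

theorem exists_ctx {X : Type u} [Group X] [Finite X] (A : Subgroup X) (hA : Nat.card A = 2 ^ 20)
    (H : Subgroup X) (hH : H = Subgroup.normalizer (A : Set X))
    (K : Subgroup X) (hKH : K ≤ H) (hAK : A ⊓ K = ⊥) (hHAK : A ⊔ K = H)
    (F : Type*) [Field F] [Fintype F] (hF : Fintype.card F = 4)
    (hK : Nonempty (K ≃* Cfsg.PSU 6 F 2) ∨
      ∃ K₀ : Subgroup K, K₀.Normal ∧ K₀.index = 2 ∧ Nonempty (K₀ ≃* Cfsg.PSU 6 F 2) ∧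
        Subgroup.centralizer (K₀ : Set K) = ⊥)
    (hmin : ∀ B : Subgroup X, B ≤ A → (∀ h ∈ H, ∀ b ∈ B, h * b * h⁻¹ ∈ B) → B = ⊥ ∨ B = A) :
    ∃ C : Ctx X, C.A = A ∧ C.H = H := by
  obtain ⟨φ, hφ⟩ : ∃ φ : SU6 →* K, IsImage φ := by
    obtain ⟨ι⟩ := congr_psu F hF
    rcases hK with ⟨⟨e⟩⟩ | ⟨K₀, hn, hi, ⟨e⟩, hc⟩
    · exact image_simple (e.trans ι.symm)
    · exact image_two K₀ hn hi hc (ι.trans e.symm)
  have hne : A ≠ ⊥ := fun h => by rw [h, Subgroup.card_bot] at hA; norm_num at hA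
  have hAH : A ≤ H := hH ▸ Subgroup.le_normalizer
  have hn : ∀ h ∈ H, ∀ a, a ∈ A ↔ h * a * h⁻¹ ∈ A := fun h hh =>
    Subgroup.mem_normalizer_iff.1 (hH ▸ hh)
  let B : Subgroup X :=
    { carrier := {a | a ∈ A ∧ a * a = 1 ∧ ∀ b ∈ A, a * b = b * a}
      one_mem' := ⟨A.one_mem, one_mul 1, fun b _ => by rw [one_mul, mul_one]⟩
      mul_mem' := fun {a c} ha hc => ⟨A.mul_mem ha.1 hc.1, by
        rw [mul_assoc a c, ← mul_assoc c a, hc.2.2 a ha.1, mul_assoc a c c, hc.2.1, mul_one, ha.2.1],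
        fun b hb => by rw [mul_assoc, hc.2.2 b hb, ← mul_assoc, ha.2.2 b hb, mul_assoc]⟩
      inv_mem' := fun {a} ha => by rwa [inv_eq_of_mul_eq_one_right ha.2.1] }
  have hB : B = A := by
    refine (hmin B (fun x hx => hx.1) fun h hh b hb => ⟨(hn h hh b).1 hb.1, ?_, fun c hc => ?_⟩).resolve_left ?_
    · rw [show h * b * h⁻¹ * (h * b * h⁻¹) = h * (b * b) * h⁻¹ by group, hb.2.1]; group
    · have hc' : h⁻¹ * c * h ∈ A := (hn h hh _).2 (by simpa [mul_assoc] using hc)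
      calc h * b * h⁻¹ * c = h * (b * (h⁻¹ * c * h)) * h⁻¹ := by group
        _ = h * ((h⁻¹ * c * h) * b) * h⁻¹ := by rw [hb.2.2 _ hc']
        _ = c * (h * b * h⁻¹) := by group
    · have : Fact (Nat.Prime 2) := ⟨Nat.prime_two⟩
      have hp : IsPGroup 2 A := IsPGroup.of_card hA
      have : Nontrivial A := Subgroup.nontrivial_iff_ne_bot A |>.2 hne
      have hZ : Nontrivial (Subgroup.center A) := hp.center_nontrivial
      obtain ⟨z, hz⟩ := exists_prime_orderOf_dvd_card' (G := Subgroup.center A) 2 (by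
        obtain ⟨n, hn⟩ := IsPGroup.iff_card.1 (hp.to_subgroup (Subgroup.center A))
        rw [hn]
        refine dvd_pow_self 2 fun h0 => ?_
        rw [h0, pow_zero] at hn
        exact absurd hn (Finite.one_lt_card (α := Subgroup.center A)).ne')
      intro hbot
      have hzB : ((z : A) : X) ∈ B := by
        refine ⟨(z : A).2, ?_, fun b hb => ?_⟩
        · have h := pow_orderOf_eq_one z
          rw [hz, pow_two] at h
          exact congrArg (fun t : Subgroup.center A => ((t : A) : X)) h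
        · exact congrArg Subtype.val (Subgroup.mem_center_iff.1 z.2 ⟨b, hb⟩).symm
      rw [hbot, Subgroup.mem_bot, OneMemClass.coe_eq_one, OneMemClass.coe_eq_one] at hzB
      rw [hzB, orderOf_one] at hz
      norm_num at hz
  have hsq : ∀ a ∈ A, a * a = 1 := fun a ha => (show a ∈ B by rwa [hB]).2.1
  have hmul : ∀ x ∈ H, ∃ a ∈ A, ∃ k ∈ K, x = a * k := by
    let S : Subgroup X :=
      { carrier := {x | ∃ a ∈ A, ∃ k ∈ K, x = a * k}
        one_mem' := ⟨1, A.one_mem, 1, K.one_mem, (one_mul 1).symm⟩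
        mul_mem' := by
          rintro _ _ ⟨a, ha, k, hk, rfl⟩ ⟨b, hb, l, hl, rfl⟩
          exact ⟨a * (k * b * k⁻¹), A.mul_mem ha ((hn k (hKH hk) b).1 hb), k * l, K.mul_mem hk hl, by group⟩
        inv_mem' := by
          rintro _ ⟨a, ha, k, hk, rfl⟩
          exact ⟨k⁻¹ * a⁻¹ * k⁻¹⁻¹, (hn _ (H.inv_mem (hKH hk)) _).1 (A.inv_mem ha), k⁻¹, K.inv_mem hk, by group⟩ }
    have hle : A ⊔ K ≤ S := sup_le (fun a ha => ⟨a, ha, 1, K.one_mem, (mul_one a).symm⟩)
      fun k hk => ⟨1, A.one_mem, k, hk, (one_mul k).symm⟩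
    exact fun x hx => hle (hHAK.symm ▸ hx)
  refine ⟨⟨A, H, K, φ, hA, hsq, hH, hKH, hmul,
    fun x ha hk => Subgroup.mem_bot.1 (hAK ▸ Subgroup.mem_inf.2 ⟨ha, hk⟩), hφ, ?_⟩, rfl, rfl⟩
  intro k hk hka
  let N : Subgroup K := (Subgroup.centralizer (A : Set X)).subgroupOf K
  have hN : N.Normal := ⟨fun x hx g => by
    refine Subgroup.mem_subgroupOf.2 (Subgroup.mem_centralizer_iff.2 fun a ha => ?_)
    have ha' : (g : X)⁻¹ * a * g ∈ A :=
      (hn _ (hKH g.2) _).2 (show (g : X) * ((g : X)⁻¹ * a * g) * (g : X)⁻¹ ∈ A by simpa [mul_assoc] using ha)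
    have h := Subgroup.mem_centralizer_iff.1 (Subgroup.mem_subgroupOf.1 hx) _ ha'
    show a * ((g : X) * x * (g : X)⁻¹) = (g : X) * x * (g : X)⁻¹ * a
    calc a * ((g : X) * x * (g : X)⁻¹) = g * (((g : X)⁻¹ * a * g) * x) * (g : X)⁻¹ := by group
      _ = g * ((x : X) * ((g : X)⁻¹ * a * g)) * (g : X)⁻¹ := by rw [h]
      _ = _ := by group⟩
  by_contra hk1
  have hNne : N ≠ ⊥ := fun h => hk1 (congrArg Subtype.val ((Subgroup.eq_bot_iff_forall N).1 h ⟨k, hk⟩
    (Subgroup.mem_subgroupOf.2 (Subgroup.mem_centralizer_iff.2 fun a ha => (hka a ha).symm))))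
  have hle := image_le_normal hφ hN hNne
  obtain ⟨a, ha, ha1, hac⟩ := exists_central hsq hne (fun k hk b hb => (hn k (hKH hk) b).1 hb) hφ
    fun s b hb => (Subgroup.mem_centralizer_iff.1 (Subgroup.mem_subgroupOf.1 (hle ⟨s, rfl⟩)) b hb).symm
  have hcentral : ∀ h ∈ H, ∀ b ∈ Subgroup.zpowers a, h * b * h⁻¹ ∈ Subgroup.zpowers a := by
    intro h hh b hb
    have hca : Commute h a := by
      obtain ⟨c, hc, l, hl, rfl⟩ := hmul h hh
      exact Commute.mul_left (comm_of_sq hsq hc ha) (hac l hl)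
    obtain ⟨m, rfl⟩ := Subgroup.mem_zpowers_iff.1 hb
    rw [(hca.zpow_right m).eq, mul_inv_cancel_right]
    exact hb
  rcases hmin _ (Subgroup.zpowers_le.2 ha) hcentral with e | e
  · exact ha1 (Subgroup.zpowers_eq_bot.1 e)
  · have h2 : orderOf a ≤ 2 := orderOf_le_of_pow_eq_one two_pos ((pow_two a).trans (hsq a ha))
    rw [← Nat.card_zpowers, e, hA] at h2
    norm_num at h2

namespace Ctx

variable {X : Type u} [Group X] (C : Ctx X)

/-- The module, written additively. -/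
abbrev W : Type u := Additive C.A

instance commGroupA : CommGroup C.A :=
  { (inferInstance : Group C.A) with mul_comm := fun a b => Subtype.ext (comm_of_sq C.sq_A a.2 b.2) }

theorem mem_norm {x : X} (hx : x ∈ C.H) {a : X} : a ∈ C.A ↔ x * a * x⁻¹ ∈ C.A :=
  Subgroup.mem_normalizer_iff.1 (C.H_eq ▸ hx) a

theorem conj_mem {x a : X} (hx : x ∈ C.H) (ha : a ∈ C.A) : x * a * x⁻¹ ∈ C.A := (C.mem_norm hx).1 ha

theorem A_le : C.A ≤ C.H := C.H_eq ▸ Subgroup.le_normalizer

/-- The action of the complement. -/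
def act : C.K →* AddMonoid.End C.W where
  toFun k :=
    { toFun := fun w => Additive.ofMul ⟨(k : X) * (w.toMul : X) * (k : X)⁻¹, C.conj_mem (C.K_le k.2) w.toMul.2⟩
      map_zero' := congrArg Additive.ofMul (Subtype.ext (by simp))
      map_add' := fun v w => congrArg Additive.ofMul (Subtype.ext (by simp [mul_assoc])) }
  map_one' := AddMonoidHom.ext fun w => congrArg Additive.ofMul (Subtype.ext
    (show ((1 : C.K) : X) * (w.toMul : X) * ((1 : C.K) : X)⁻¹ = (w.toMul : X) by simp))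
  map_mul' k l := AddMonoidHom.ext fun w => congrArg Additive.ofMul (Subtype.ext
    (show ((k * l : C.K) : X) * (w.toMul : X) * ((k * l : C.K) : X)⁻¹ =
      (k : X) * ((l : X) * (w.toMul : X) * (l : X)⁻¹) * (k : X)⁻¹ by simp [mul_assoc]))

theorem act_apply (k : C.K) (w : C.W) : ((C.act k w).toMul : X) = (k : X) * (w.toMul : X) * (k : X)⁻¹ := rfl

/-- The representation. -/
def rep : Rep C.W where
  ρ := C.act.comp C.φ
  two w := congrArg Additive.ofMul (Subtype.ext (C.sq_A _ w.toMul.2) : w.toMul * w.toMul = 1)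
  card := (Nat.card_congr Additive.toMul).trans C.card_A
  center z hz := by
    rw [← C.image.1, MonoidHom.mem_ker] at hz
    rw [MonoidHom.comp_apply, hz, map_one]
  faithful s hs := by
    rw [← C.image.1, MonoidHom.mem_ker]
    refine Subtype.ext (C.faithful _ (C.φ s).2 fun a ha => ?_)
    have h : ((C.act (C.φ s) (Additive.ofMul ⟨a, ha⟩)).toMul : X) = a := by
      rw [show C.act (C.φ s) = 1 from hs]
      rfl
    exact mul_inv_eq_iff_eq_mul.1 h

/-- The element of a vector. -/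
noncomputable def emb (v : ℕ) : X := ((C.rep.phi v).toMul : X)

theorem emb_mem (v : ℕ) : C.emb v ∈ C.A := (C.rep.phi v).toMul.2

theorem emb_xor (u v : ℕ) : C.emb (u ^^^ v) = C.emb u * C.emb v := by rw [emb, C.rep.phi_xor]; rfl

theorem emb_zero : C.emb 0 = 1 := by rw [emb, C.rep.phi_zero]; rfl

theorem emb_sq (v : ℕ) : C.emb v * C.emb v = 1 := C.sq_A _ (C.emb_mem v)

theorem emb_comm (u v : ℕ) : C.emb u * C.emb v = C.emb v * C.emb u := comm_of_sq C.sq_A (C.emb_mem u) (C.emb_mem v)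

theorem exists_emb {a : X} (ha : a ∈ C.A) : ∃ v, v < N20 ∧ C.emb v = a := by
  obtain ⟨v, hv, e⟩ := C.rep.phi_surj (Additive.ofMul ⟨a, ha⟩)
  exact ⟨v, hv, by rw [emb, e]; rfl⟩

theorem emb_inj {u v : ℕ} (hu : u < N20) (hv : v < N20) (h : C.emb u = C.emb v) : u = v :=
  C.rep.phi_inj hu hv (Additive.toMul.injective (Subtype.ext h))

/-- An element of the complement acts as a matrix. -/
def Acts (k : X) (M : List ℕ) : Prop :=
  k ∈ C.K ∧ ok M = true ∧ ∀ v, k * C.emb v * k⁻¹ = C.emb (app M v)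

theorem acts_of_rel {k : C.K} {M : List ℕ} (h : C.rep.Rel (C.act k) M) : C.Acts k M :=
  ⟨k.2, h.1, fun v => congrArg (fun w : C.W => (w.toMul : X)) (h.2 v)⟩

theorem acts_el (w : List ℕ) : C.Acts (C.φ (el w)) (wmat w) := C.acts_of_rel (C.rep.rel_el w)

theorem acts_conj {k1 : C.K} (h1 : k1 * k1 = 1) (h : ∀ s, k1 * C.φ s * k1 = C.φ (cjS s)) :
    C.Acts k1 conjMat := by
  refine C.acts_of_rel (C.rep.rel_conj (by rw [← map_mul, h1, map_one]) fun s => ?_)
  show C.act k1 * C.act (C.φ s) = C.act (C.φ (cjS s)) * C.act k1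
  rw [← map_mul, ← map_mul, ← h, mul_assoc _ k1 k1, h1, mul_one]

variable {C}

theorem Acts.mul {k l : X} {M N : List ℕ} (hk : C.Acts k M) (hl : C.Acts l N) : C.Acts (k * l) (mu M N) :=
  ⟨C.K.mul_mem hk.1 hl.1, ok_mu hk.2.1 hl.2.1, fun v => by
    rw [app_mu, ← hk.2.2, ← hl.2.2]; group⟩

theorem Acts.ext {k l : X} {M : List ℕ} (hk : C.Acts k M) (hl : C.Acts l M) : k = l := by
  refine (inv_mul_eq_one.1 (C.faithful _ (C.K.mul_mem (C.K.inv_mem hl.1) hk.1) fun a ha => ?_)).symm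
  obtain ⟨v, -, rfl⟩ := C.exists_emb ha
  have h := (hk.2.2 v).trans (hl.2.2 v).symm
  calc l⁻¹ * k * C.emb v = l⁻¹ * (k * C.emb v * k⁻¹) * k := by group
    _ = l⁻¹ * (l * C.emb v * l⁻¹) * k := by rw [h]
    _ = C.emb v * (l⁻¹ * k) := by group

theorem Acts.unique {k : X} {M N : List ℕ} (hk : C.Acts k M) (hk' : C.Acts k N) : M = N :=
  list_ext (ok_iff.1 hk.2.1).1 (ok_iff.1 hk'.2.1).1 fun v _ =>
    C.emb_inj (app_ok_lt hk.2.1 v) (app_ok_lt hk'.2.1 v) ((hk.2.2 v).symm.trans (hk'.2.2 v))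

theorem Acts.one : C.Acts 1 idm :=
  ⟨C.K.one_mem, by decide, fun v => by
    have h := (Rep.Rel.one (R := C.rep)).2 v
    rw [one_mul, inv_one, mul_one]
    exact congrArg (fun w : C.W => (w.toMul : X)) h⟩

theorem Acts.pow {k : X} {M : List ℕ} (hk : C.Acts k M) : ∀ n, C.Acts (k ^ n) (mpow M n)
  | 0 => by rw [pow_zero]; exact Acts.one
  | n + 1 => by rw [pow_succ']; exact hk.mul (Acts.pow hk n)

variable (C)

/-- Every element of the complement acts as a matrix preserving the form. -/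
theorem exists_acts {k : X} (hk : k ∈ C.K) :
    ∃ M, C.Acts k M ∧ ∀ v, v < N20 → qf (app M v) = qf v := by
  rcases C.image.2.2 with h | ⟨k1, h1, hc, h⟩
  · obtain ⟨s, hs⟩ := h ⟨k, hk⟩
    obtain ⟨w, rfl⟩ := exists_word s
    exact ⟨wmat w, by have := C.acts_el w; rwa [hs] at this, fun v hv => qf_wmat w hv⟩
  · rcases h ⟨k, hk⟩ with ⟨s, hs⟩ | ⟨s, hs⟩
    · obtain ⟨w, rfl⟩ := exists_word s
      exact ⟨wmat w, by have := C.acts_el w; rwa [hs] at this, fun v hv => qf_wmat w hv⟩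
    · obtain ⟨w, rfl⟩ := exists_word s
      refine ⟨mu (wmat w) conjMat, ?_, fun v hv => ?_⟩
      · have e := (C.acts_el w).mul (C.acts_conj h1 hc)
        have e2 : (C.φ (el w) : X) * k1 = k := by
          rw [hs]
          show k * (k1 : X) * k1 = k
          rw [mul_assoc, show (k1 : X) * k1 = 1 from congrArg Subtype.val h1, mul_one]
        rwa [e2] at e
      · rw [app_mu, qf_wmat w (app_ok_lt conjMat_ok v), qf_app (qok_gens _ (by simp)) hv]

/-- The elements of the normaliser preserve the form. -/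
theorem qf_conj {x : X} (hx : x ∈ C.H) {u v : ℕ} (hu : u < N20) (hv : v < N20)
    (h : x * C.emb v * x⁻¹ = C.emb u) : qf u = qf v := by
  obtain ⟨a, ha, k, hk, rfl⟩ := C.exists_mul x hx
  obtain ⟨M, hM, hq⟩ := C.exists_acts hk
  have e : a * k * C.emb v * (a * k)⁻¹ = C.emb (app M v) := by
    rw [← hM.2.2]
    calc a * k * C.emb v * (a * k)⁻¹ = a * (k * C.emb v * k⁻¹) * a⁻¹ := by group
      _ = k * C.emb v * k⁻¹ := by rw [comm_of_sq C.sq_A ha (C.conj_mem (C.K_le hk) (C.emb_mem v)), mul_inv_cancel_right]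
  rw [C.emb_inj hu (app_ok_lt hM.2.1 v) (h.symm.trans e)]
  exact hq v hv

end Ctx

end Cfsg.Agent.Fus.U62Module
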