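import Cfsg.Agent.Lib.Fus.U62Module.SpanData
import Cfsg.Agent.Lib.Fus.U62Module.Invol
import Cfsg.Agent.Lib.Fus.U62Module.QForm

/-!
The twenty-dimensional module of `U₆(2)`: vectors with either value of the form span the module and the
fixed space of the middle involution, and the orthogonal of this fixed space lies in it.
-/

set_option autoImplicit false
set_option maxRecDepth 100000

namespace Cfsg.Agent.Fus.U62Module

open Cfsg.Agent.Invol.ExtraEight (app mu app_zero app_xor)

/-- The spanning list of a value of the form in the fixed space. -/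
def fixL : Bool → List ℕ
  | false => fixEven
  | true => fixOdd

/-- The spanning list of a value of the form in the module. -/
def allL : Bool → List ℕ
  | false => allEven
  | true => allOdd

/-- The coordinates in the fixed space. -/
def coordL : Bool → List ℕ
  | false => coordEven
  | true => coordOdd

/-- The corrections outside the fixed space. -/
def corrL : Bool → List ℕ
  | false => corrEven
  | true => corrOdd

/-- The coordinates in the module. -/
def invL : Bool → List ℕ
  | false => invEven
  | true => invOdd

/-- A map given by values of the form on dual vectors. -/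
def perpSum : List (ℕ × ℕ) → ℕ → ℕ
  | [], _ => 0
  | (r, c) :: l, v => cond (bf v c) r 0 ^^^ perpSum l v

theorem fixL_facts : ∀ b : Bool, ((fixL b).all fun x =>
    (Nat.blt x N20 && app invTwo x == x) && qf x == b) = true := by decide +kernel

theorem allL_facts : ∀ b : Bool, ((allL b).all fun x => Nat.blt x N20 && qf x == b) = true := by decide +kernel

theorem fixL_decomp : ∀ b : Bool, idm.map (fun v => v) =
    idm.map fun v => app (fixL b) (app (coordL b) v) ^^^ app (corrL b) (v ^^^ app invTwo v) := by decide +kernel

theorem allL_decomp : ∀ b : Bool, idm.map (fun v => v) = idm.map fun v => app (allL b) (app (invL b) v) := by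
  decide +kernel

theorem perp_decomp : idm.map (fun v => v ^^^ app invTwo v) =
    idm.map fun v => perpSum (perpImg.zip fixOdd) v := by decide +kernel

theorem app_mem {P : ℕ → Prop} (h0 : P 0) (hx : ∀ u v, P u → P v → P (u ^^^ v)) :
    ∀ (L : List ℕ) (c : ℕ), (∀ x ∈ L, P x) → P (app L c)
  | [], _, _ => h0
  | x :: L, c, h => by
    refine hx _ _ ?_ (app_mem h0 hx L _ fun y hy => h y (List.mem_cons_of_mem _ hy))
    cases c % 2 == 1
    · exact h0
    · exact h x (List.mem_cons_self ..)

/-- The fixed space is spanned by the vectors with one value of the form. -/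
theorem fix_span (b : Bool) {P : ℕ → Prop} (h0 : P 0) (hx : ∀ u v, P u → P v → P (u ^^^ v))
    (hb : ∀ v, v < N20 → app invTwo v = v → qf v = b → P v) {v : ℕ} (hv : v < N20) (hfix : app invTwo v = v) :
    P v := by
  have e := eq_on_bits (fun v => v) (fun v => app (fixL b) (app (coordL b) v) ^^^ app (corrL b) (v ^^^ app invTwo v))
    rfl (fun _ _ => rfl) (by simp [app_zero]) (fun u w => by
      simp only [app_xor]
      ac_rfl) (fixL_decomp b) hv
  simp only [hfix, Nat.xor_self, app_zero, Nat.xor_zero] at e
  rw [e]
  refine app_mem h0 hx _ _ fun x hx' => ?_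
  have h := List.all_eq_true.1 (fixL_facts b) x hx'
  simp only [Bool.and_eq_true, Nat.blt_eq, beq_iff_eq] at h
  exact hb x h.1.1 h.1.2 h.2

/-- The module is spanned by the vectors with one value of the form. -/
theorem all_span (b : Bool) {P : ℕ → Prop} (h0 : P 0) (hx : ∀ u v, P u → P v → P (u ^^^ v))
    (hb : ∀ v, v < N20 → qf v = b → P v) {v : ℕ} (hv : v < N20) : P v := by
  have e := eq_on_bits (fun v => v) (fun v => app (allL b) (app (invL b) v))
    rfl (fun _ _ => rfl) (by simp [app_zero]) (fun u w => by simp only [app_xor]) (allL_decomp b) hv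
  rw [e]
  refine app_mem h0 hx _ _ fun x hx' => ?_
  have h := List.all_eq_true.1 (allL_facts b) x hx'
  simp only [Bool.and_eq_true, Nat.blt_eq, beq_iff_eq] at h
  exact hb x h.1 h.2

theorem perpSum_add : ∀ (l : List (ℕ × ℕ)) (u v : ℕ), perpSum l (u ^^^ v) = perpSum l u ^^^ perpSum l v
  | [], _, _ => by simp [perpSum]
  | (r, c) :: l, u, v => by
    simp only [perpSum, perpSum_add l, bf_add_left]
    have h : ∀ a b : Bool, cond (a ^^ b) r 0 = cond a r 0 ^^^ cond b r 0 := fun a b => by
      cases a <;> cases b <;> simp
    rw [h]
    ac_rfl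

theorem perpSum_zero : ∀ (l : List (ℕ × ℕ)) (v : ℕ), (∀ p ∈ l, bf v p.2 = false) → perpSum l v = 0
  | [], _, _ => rfl
  | (r, c) :: l, v, h => by
    have h1 : bf v c = false := h (r, c) (List.mem_cons_self ..)
    rw [perpSum, h1, perpSum_zero l v fun p hp => h p (List.mem_cons_of_mem _ hp)]
    simp

/-- What is orthogonal to the fixed space lies in it. -/
theorem perp_fix {v : ℕ} (hv : v < N20) (h : ∀ c, c < N20 → app invTwo c = c → bf v c = false) :
    app invTwo v = v := by
  have e := eq_on_bits (fun v => v ^^^ app invTwo v) (perpSum (perpImg.zip fixOdd))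
    (by simp [app_zero]) (fun u w => by simp only [app_xor]; ac_rfl)
    (perpSum_zero _ 0 fun p _ => bf_zero_left p.2) (perpSum_add _) perp_decomp hv
  rw [perpSum_zero _ v fun p hp => ?_] at e
  · exact (Nat.xor_eq_zero_iff.1 e).symm
  · have hm : p.2 ∈ fixL true := (List.of_mem_zip hp).2
    have := List.all_eq_true.1 (fixL_facts true) _ hm
    simp only [Bool.and_eq_true, Nat.blt_eq, beq_iff_eq] at this
    exact h _ this.1.1 this.1.2

end Cfsg.Agent.Fus.U62Module
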