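import Cfsg.Agent.Lib.Fus.U62Module.InvData

/-!
The twenty-dimensional module of `U₆(2)`: coordinates in the spanning sets of constant value of the form.
-/

set_option autoImplicit false
set_option linter.style.longLine false

namespace Cfsg.Agent.Fus.U62Module

/-- The coordinates in the fixed space (coordEven). -/
def coordEven : List ℕ :=
  [0, 0, 1, 2, 24, 20, 28, 56, 0, 0, 0, 0, 64, 128, 0, 0, 256, 512, 1024, 2048]

/-- The correction (corrEven). -/
def corrEven : List ℕ :=
  [0, 0, 1, 2, 0, 0, 0, 0, 0, 0, 0, 0, 1024, 3072, 0, 0, 16384, 49152, 256, 768]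

/-- The coordinates in the module (invEven). -/
def invEven : List ℕ :=
  [6, 5, 7, 14, 22, 38, 70, 134, 262, 518, 1030, 2054, 4102, 8198, 16390, 32774, 65542, 131078, 262150, 524294]

/-- The coordinates in the fixed space (coordOdd). -/
def coordOdd : List ℕ :=
  [0, 0, 3, 5, 1, 8, 16, 32, 0, 0, 0, 0, 65, 129, 0, 0, 257, 513, 1025, 2049]

/-- The correction (corrOdd). -/
def corrOdd : List ℕ :=
  [0, 0, 1, 2, 0, 0, 0, 0, 0, 0, 0, 0, 1024, 3072, 0, 0, 16384, 49152, 256, 768]

/-- The coordinates in the module (invOdd). -/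
def invOdd : List ℕ :=
  [1, 2, 4, 8, 16, 32, 64, 128, 256, 512, 1024, 2048, 4096, 8192, 16384, 32768, 65536, 131072, 262144, 524288]

/-- The values on the dual vectors (perpImg). -/
def perpImg : List ℕ :=
  [1030671, 10, 5, 0, 0, 0, 11264, 5120, 180224, 81920, 525056, 262400]

end Cfsg.Agent.Fus.U62Module
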