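import Cfsg.Agent.Lib.Fus.U62Module.Elem

/-!
The twenty-dimensional module of `U₆(2)`: the torus splits a module into ten lines.
-/

set_option autoImplicit false
set_option maxRecDepth 100000
set_option linter.unusedSectionVars false

namespace Cfsg.Agent.Fus.U62Module

open Cfsg Cfsg.Agent.Classical
open Cfsg.Agent.Spor.USixTwo (K4)

theorem ext_res {c : Fin 6 → ZMod 3} (h : ∑ i, c i = 0) : ext (res c) = fun i => c i - c 4 := by
  have h5 : c 5 = -(c 0 + c 1 + c 2 + c 3 + c 4) := by
    rw [Fin.sum_univ_six] at h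
    linear_combination h
  have h6 : (6 : ZMod 3) = 0 := by decide
  funext i
  fin_cases i <;> simp [ext, res, h5]
  linear_combination c 4 * h6

theorem res_sub_const (c : Fin 6 → ZMod 3) (x : ZMod 3) : res (fun i => c i - x) = res c := by
  simp [res]

/-- A permutation of the coordinates on the torus. -/
def tact (π : Equiv.Perm (Fin 6)) (t : Ti) : Ti := res fun i => ext t (π.symm i)

theorem tact_mul (π τ : Equiv.Perm (Fin 6)) (t : Ti) : tact (π * τ) t = tact π (tact τ t) := by
  have h : ∑ i, ext t (τ.symm i) = 0 := by rw [Equiv.sum_comp τ.symm (ext t)]; exact ext_sum t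
  rw [tact, tact, tact, ext_res h, res_sub_const]
  rfl

theorem tact_one : ∀ t : Ti, tact 1 t = t := by decide +kernel

/-- The pairing of the torus with its functionals. -/
def dotp (a t : Ti) : ZMod 3 := a.1 * t.1 + a.2.1 * t.2.1 + a.2.2.1 * t.2.2.1 + a.2.2.2 * t.2.2.2

theorem dotp_add (a s t : Ti) : dotp a (s + t) = dotp a s + dotp a t := by simp [dotp]; ring

/-- A functional. -/
def al (k : Fin 41) : Ti := alTab.getD k 0

/-- The coefficient of a torus element in the projection of a functional. -/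
def cf (k : Fin 41) (t : Ti) : Bool := decide (k = 40) || !decide (dotp (al k) t = 0)

theorem cf_count : ∀ t : Ti, (Finset.univ.filter fun k : Fin 41 => cf k t = true).card % 2 =
    if t = 0 then 1 else 0 := by decide +kernel

theorem separate : ∀ a b : Fin 41, a ≠ b → b ≠ 40 → ∃ d : Ti, dotp (al a) d = 0 ∧ dotp (al b) d = 1 := by
  decide +kernel

theorem al_last : al 40 = 0 := rfl

/-- The word of a permutation. -/
def permOf : List ℕ → Equiv.Perm (Fin 6)
  | [] => 1
  | i :: w => (if i = 4 then Equiv.swap 0 1 else finRotate 6) * permOf w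

/-- The base of the orbit of a functional. -/
def base (k : Fin 41) : Fin 41 := if k < 10 then 0 else if k < 25 then 10 else if k < 40 then 25 else 40

theorem orbit_ok : ∀ k : Fin 41, ∀ t : Ti,
    cf k (tact (permOf (owTab.getD k [])) t) = cf (base k) t := by decide +kernel

theorem sum_blocks (a b c z : ℕ) : (∑ k : Fin 41, if (k : ℕ) < 10 then a else if (k : ℕ) < 25 then b else
    if (k : ℕ) < 40 then c else z) = 10 * a + 15 * b + 15 * c + z := by
  have e : ∀ k : Fin 41, (if (k : ℕ) < 10 then a else if (k : ℕ) < 25 then b else if (k : ℕ) < 40 then c else z) =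
      (if (k : ℕ) < 10 then 1 else 0) * a + (if 10 ≤ (k : ℕ) ∧ (k : ℕ) < 25 then 1 else 0) * b +
        (if 25 ≤ (k : ℕ) ∧ (k : ℕ) < 40 then 1 else 0) * c + (if 40 ≤ (k : ℕ) then 1 else 0) * z := fun k => by
    split_ifs <;> omega
  simp only [e, Finset.sum_add_distrib, ← Finset.sum_mul]
  rw [show (∑ k : Fin 41, if (k : ℕ) < 10 then 1 else 0) = 10 by decide +kernel,
    show (∑ k : Fin 41, if 10 ≤ (k : ℕ) ∧ (k : ℕ) < 25 then 1 else 0) = 15 by decide +kernel,
    show (∑ k : Fin 41, if 25 ≤ (k : ℕ) ∧ (k : ℕ) < 40 then 1 else 0) = 15 by decide +kernel,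
    show (∑ k : Fin 41, if 40 ≤ (k : ℕ) then 1 else 0) = 1 by decide +kernel, one_mul]

theorem base_eq : ∀ k : Fin 41, base k = if (k : ℕ) < 10 then 0 else if (k : ℕ) < 25 then 10 else
    if (k : ℕ) < 40 then 25 else 40 := by decide +kernel

/-- An action of `SU₆(2)` on an elementary abelian group of order `2 ^ 20`, with the centre as kernel. -/
structure Rep (W : Type*) [AddCommGroup W] where
  /-- The action. -/
  ρ : SU6 →* AddMonoid.End W
  two : ∀ w : W, w + w = 0
  card : Nat.card W = 2 ^ 20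
  center : ∀ z ∈ Subgroup.center SU6, ρ z = 1
  faithful : ∀ s, ρ s = 1 → s ∈ Subgroup.center SU6

namespace Rep

variable {W : Type*} [AddCommGroup W] (R : Rep W)
include R

theorem finite : Finite W := Nat.finite_of_card_ne_zero (by rw [R.card]; norm_num)

theorem end_two (f : AddMonoid.End W) : f + f = 0 := AddMonoidHom.ext fun w => R.two (f w)

theorem nsmul_end (n : ℕ) (f : AddMonoid.End W) : n • f = if n % 2 = 1 then f else 0 := by
  conv_lhs => rw [← Nat.div_add_mod n 2, add_nsmul, mul_nsmul, two_nsmul, R.end_two, nsmul_zero, zero_add]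
  rcases Nat.mod_two_eq_zero_or_one n with h | h <;> simp [h]

/-- A torus element on the module. -/
def D (t : Ti) : AddMonoid.End W := R.ρ (tor t)

theorem D_add (s t : Ti) : R.D (s + t) = R.D s * R.D t := by rw [D, tor_add, map_mul]; rfl

theorem D_zero : R.D 0 = 1 := by rw [D, tor_zero, map_one]

theorem D_comm (s t : Ti) : R.D s * R.D t = R.D t * R.D s := by rw [← D_add, ← D_add, add_comm]

theorem rho_dg {c : Fin 6 → ZMod 3} (h : ∑ i, c i = 0) : R.ρ (dg c) = R.D (res c) := by
  obtain ⟨z, hz, e⟩ := dg_res h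
  rw [e, map_mul, R.center z hz, one_mul]
  rfl

theorem pm_D (π : Equiv.Perm (Fin 6)) (t : Ti) : R.ρ (pm π) * R.D t = R.D (tact π t) * R.ρ (pm π) := by
  rw [D, ← map_mul, tor, pm_dg π (ext_sum t), map_mul,
    R.rho_dg (by rw [Equiv.sum_comp π.symm (ext t)]; exact ext_sum t)]
  rfl

/-- The projection of a functional. -/
def pr (k : Fin 41) : AddMonoid.End W := ∑ t : Ti, if cf k t then R.D t else 0

theorem sum_pr : ∑ k, R.pr k = 1 := by
  simp only [pr]
  rw [Finset.sum_comm]
  have h : ∀ t : Ti, (∑ k : Fin 41, if cf k t then R.D t else 0) = if t = 0 then R.D t else 0 := fun t => by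
    rw [← Finset.sum_filter, Finset.sum_const, R.nsmul_end, cf_count]
    split_ifs <;> simp_all
  simp only [h, Finset.sum_ite_eq', Finset.mem_univ, if_true, R.D_zero]

theorem D_pr_comm (d : Ti) (k : Fin 41) : R.D d * R.pr k = R.pr k * R.D d := by
  simp only [pr, Finset.mul_sum, Finset.sum_mul]
  refine Finset.sum_congr rfl fun t _ => ?_
  split_ifs <;> simp [R.D_comm d t]

theorem pr_comm (a b : Fin 41) : R.pr a * R.pr b = R.pr b * R.pr a := by
  conv_lhs => rw [pr, Finset.sum_mul]
  conv_rhs => rw [pr.eq_def R a, Finset.mul_sum]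
  refine Finset.sum_congr rfl fun t _ => ?_
  split_ifs <;> simp [R.D_pr_comm t b]

theorem D_mul_pr (d : Ti) (k : Fin 41) :
    R.D d * R.pr k = ∑ t : Ti, if cf k (t - d) then R.D t else 0 := by
  rw [pr, Finset.mul_sum]
  refine Fintype.sum_equiv (Equiv.addLeft d) _ _ fun t => ?_
  simp only [Equiv.coe_addLeft, add_sub_cancel_left]
  split_ifs <;> simp [R.D_add]

theorem D_pr {d : Ti} {k : Fin 41} (h : dotp (al k) d = 0) : R.D d * R.pr k = R.pr k := by
  rw [R.D_mul_pr, pr]
  refine Finset.sum_congr rfl fun t _ => ?_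
  have e : dotp (al k) t = dotp (al k) (t - d) := by
    conv_lhs => rw [show t = t - d + d from (sub_add_cancel t d).symm, dotp_add, h, add_zero]
  simp [cf, e]

theorem pr_three {d : Ti} {k : Fin 41} (hk : k ≠ 40) (h : dotp (al k) d = 1) :
    R.pr k + R.D d * R.pr k + R.D d * (R.D d * R.pr k) = 0 := by
  rw [← mul_assoc, ← R.D_add, R.D_mul_pr, R.D_mul_pr, pr, ← Finset.sum_add_distrib, ← Finset.sum_add_distrib]
  refine Finset.sum_eq_zero fun t _ => ?_
  have e1 : dotp (al k) t = dotp (al k) (t - d) + 1 := by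
    conv_lhs => rw [show t = t - d + d from (sub_add_cancel t d).symm, dotp_add, h]
  have e2 : dotp (al k) (t - (d + d)) = dotp (al k) (t - d) - 1 := by
    have := dotp_add (al k) (t - (d + d)) d
    rw [show t - (d + d) + d = t - d by abel, h] at this
    linear_combination -this
  simp only [cf, hk, e1, e2, decide_false, Bool.false_or]
  generalize dotp (al k) (t - d) = j
  have hj : ∀ j : ZMod 3, j = 0 ∨ j = 1 ∨ j = 2 := by decide
  have h11 : (1 : ZMod 3) + 1 ≠ 0 := by decide
  have h21 : (2 : ZMod 3) + 1 = 0 := by decide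
  have h2 : (2 : ZMod 3) ≠ 0 := by decide
  have h2' : (2 : ZMod 3) - 1 ≠ 0 := by decide
  rcases hj j with rfl | rfl | rfl <;> simp [R.end_two, h11, h21, h2, h2']

theorem eq_zero_of_three {x : AddMonoid.End W} (h : x + x + x = 0) : x = 0 := by
  rwa [R.end_two, zero_add] at h

theorem pr_mul_of_ne {a b : Fin 41} (h : a ≠ b) : R.pr a * R.pr b = 0 := by
  have key : ∀ a b : Fin 41, a ≠ b → b ≠ 40 → R.pr a * R.pr b = 0 := by
    intro a b h hb
    obtain ⟨d, ha, hd⟩ := separate a b h hb
    have e1 : R.pr a * (R.D d * R.pr b) = R.pr a * R.pr b := by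
      rw [← mul_assoc, ← R.D_pr_comm, R.D_pr ha]
    have e2 : R.pr a * (R.D d * (R.D d * R.pr b)) = R.pr a * R.pr b := by
      rw [← mul_assoc, ← R.D_pr_comm, R.D_pr ha, e1]
    refine R.eq_zero_of_three ?_
    conv_lhs => arg 1; arg 2; rw [← e1]
    conv_lhs => arg 2; rw [← e2]
    rw [← mul_add, ← mul_add, R.pr_three hb hd, mul_zero]
  by_cases hb : b = 40
  · rw [R.pr_comm]
    exact key b a (Ne.symm h) (hb ▸ h)
  · exact key a b h hb

theorem pr_idem (k : Fin 41) : R.pr k * R.pr k = R.pr k := by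
  conv_rhs => rw [← mul_one (R.pr k), ← R.sum_pr, Finset.mul_sum,
    Finset.sum_eq_single k (fun j _ hj => R.pr_mul_of_ne hj.symm) (fun h => absurd (Finset.mem_univ _) h)]

/-- The summand of a functional. -/
def U (k : Fin 41) : AddSubgroup W := AddMonoidHom.eqLocus (R.pr k) (AddMonoidHom.id W)

theorem mem_U {k : Fin 41} {w : W} : w ∈ R.U k ↔ R.pr k w = w := Iff.rfl

theorem pr_mem (k : Fin 41) (w : W) : R.pr k w ∈ R.U k := DFunLike.congr_fun (R.pr_idem k) w

theorem sum_apply (w : W) : ∑ k, R.pr k w = w := by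
  have h := DFunLike.congr_fun R.sum_pr w
  exact (AddMonoidHom.finsetSum_apply _ _ w).symm.trans h

/-- The module is the product of its summands. -/
noncomputable def split : W ≃ ((k : Fin 41) → R.U k) where
  toFun w k := ⟨R.pr k w, R.pr_mem k w⟩
  invFun u := ∑ k, (u k : W)
  left_inv w := R.sum_apply w
  right_inv u := funext fun k => Subtype.ext (by
    show R.pr k (∑ j, (u j : W)) = u k
    rw [map_sum, Finset.sum_eq_single k]
    · exact (u k).2
    · intro j _ hj
      rw [← R.mem_U.1 (u j).2]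
      exact DFunLike.congr_fun (R.pr_mul_of_ne (Ne.symm hj)) _
    · exact fun h => absurd (Finset.mem_univ _) h)

theorem rho_inv_apply (s : SU6) (w : W) : R.ρ s⁻¹ (R.ρ s w) = w := by
  show (R.ρ s⁻¹ * R.ρ s) w = w
  rw [← map_mul, inv_mul_cancel, map_one]
  rfl

theorem pm_pr {a b : Fin 41} {π : Equiv.Perm (Fin 6)} (h : ∀ t, cf b (tact π t) = cf a t) :
    R.ρ (pm π) * R.pr a = R.pr b * R.ρ (pm π) := by
  let e : Ti ≃ Ti := ⟨tact π, tact π⁻¹, fun t => by rw [← tact_mul, inv_mul_cancel, tact_one],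
    fun t => by rw [← tact_mul, mul_inv_cancel, tact_one]⟩
  rw [pr, pr, Finset.mul_sum, Finset.sum_mul]
  refine Fintype.sum_equiv e _ _ fun t => ?_
  show _ = (if cf b (tact π t) then R.D (tact π t) else 0) * _
  rw [h]
  split_ifs <;> simp [R.pm_D]

theorem card_U_eq {a b : Fin 41} {π : Equiv.Perm (Fin 6)} (h : ∀ t, cf b (tact π t) = cf a t) :
    Nat.card (R.U a) = Nat.card (R.U b) := by
  have e := R.pm_pr h
  refine Nat.card_congr ⟨fun u => ⟨R.ρ (pm π) u, ?_⟩, fun u => ⟨R.ρ (pm π)⁻¹ u, ?_⟩, fun u => Subtype.ext ?_,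
    fun u => Subtype.ext ?_⟩
  · refine R.mem_U.2 ?_
    have := DFunLike.congr_fun e (u : W)
    show (R.pr b * R.ρ (pm π)) (u : W) = _
    rw [← e]
    show R.ρ (pm π) (R.pr a (u : W)) = _
    rw [R.mem_U.1 u.2]
  · refine R.mem_U.2 ?_
    have h1 := DFunLike.congr_fun e (R.ρ (pm π)⁻¹ (u : W))
    have h2 : R.ρ (pm π) (R.ρ (pm π)⁻¹ (u : W)) = u := by simpa using R.rho_inv_apply (pm π)⁻¹ (u : W)
    simp only [AddMonoid.End.coe_mul, Function.comp_apply, h2, R.mem_U.1 u.2] at h1
    have h3 := congrArg (R.ρ (pm π)⁻¹) h1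
    rwa [R.rho_inv_apply] at h3
  · exact R.rho_inv_apply _ _
  · simpa using R.rho_inv_apply (pm π)⁻¹ (u : W)

theorem card_U_two (k : Fin 41) : ∃ m, Nat.card (R.U k) = 2 ^ m :=
  ((Nat.dvd_prime_pow Nat.prime_two).1 (R.card ▸ AddSubgroup.card_addSubgroup_dvd_card (R.U k))).imp
    fun _ h => h.2

theorem card_U_even {k : Fin 41} (hk : k ≠ 40) : ∃ m, Nat.card (R.U k) = 4 ^ m := by
  classical
  have := R.finite
  have : Fintype (R.U k) := Fintype.ofFinite _
  obtain ⟨d, -, hd⟩ := separate 40 k (Ne.symm hk) hk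
  have three := R.pr_three hk hd
  let f : Function.End (R.U k) := fun u => ⟨R.D d u, by
    refine R.mem_U.2 ?_
    have h := DFunLike.congr_fun (R.D_pr_comm d k) (u : W)
    simp only [AddMonoid.End.coe_mul, Function.comp_apply, R.mem_U.1 u.2] at h
    exact h.symm⟩
  have hf : f ^ 3 ^ 1 = 1 := by
    funext u
    refine Subtype.ext ?_
    show R.D d (R.D d (R.D d (u : W))) = u
    have h : R.D (d + d + d) (u : W) = R.D d (R.D d (R.D d (u : W))) := by
      rw [R.D_add, R.D_add]; rfl
    rw [← h, (show ∀ x : Ti, x + x + x = 0 by decide +kernel) d, R.D_zero]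
    rfl
  have : Fact (Nat.Prime 3) := ⟨Nat.prime_three⟩
  have hmod := Equiv.Perm.card_fixedPoints_modEq hf
  have hfix : Fintype.card (Function.fixedPoints f) = 1 := by
    refine Fintype.card_eq_one_iff.2 ⟨⟨0, Subtype.ext (map_zero _)⟩, fun x => Subtype.ext (Subtype.ext ?_)⟩
    obtain ⟨⟨u, hu⟩, hx⟩ := x
    have hx' : R.D d u = u := congrArg Subtype.val hx
    have h := DFunLike.congr_fun three u
    change R.pr k u + R.D d (R.pr k u) + R.D d (R.D d (R.pr k u)) = 0 at h
    rwa [R.mem_U.1 hu, hx', hx', R.two, zero_add] at h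
  obtain ⟨m, hm⟩ := R.card_U_two k
  erw [hfix, ← Nat.card_eq_fintype_card, hm] at hmod
  obtain ⟨r, rfl | rfl⟩ : ∃ r, m = 2 * r ∨ m = 2 * r + 1 := ⟨m / 2, by omega⟩
  · exact ⟨r, by rw [hm, pow_mul]; norm_num⟩
  · exfalso
    rw [Nat.ModEq, pow_succ, pow_mul, Nat.mul_mod, Nat.pow_mod] at hmod
    norm_num at hmod

set_option maxHeartbeats 800000 in
theorem ten_lines : (∀ k : Fin 41, 10 ≤ (k : ℕ) → R.pr k = 0) ∧ ∀ k : Fin 41, (k : ℕ) < 10 → Nat.card (R.U k) = 4 := by
  classical
  have := R.finite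
  choose e he using R.card_U_two
  have hb : ∀ k, e k = e (base k) := fun k => by
    have h := R.card_U_eq (fun t => orbit_ok k t)
    rw [he, he] at h
    exact (Nat.pow_right_injective le_rfl h).symm
  have hev : ∀ k : Fin 41, k ≠ 40 → ∃ r, e k = 2 * r := fun k hk => by
    obtain ⟨r, hr⟩ := R.card_U_even hk
    rw [he, show (4 : ℕ) ^ r = 2 ^ (2 * r) by rw [pow_mul]; norm_num] at hr
    exact ⟨r, Nat.pow_right_injective le_rfl hr⟩
  have hsum : ∑ k, e k = 20 := by
    have h := Nat.card_congr R.split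
    rw [R.card, Nat.card_pi] at h
    simp only [he, Finset.prod_pow_eq_pow_sum] at h
    exact (Nat.pow_right_injective le_rfl h).symm
  have hform : ∀ k, e k = if (k : ℕ) < 10 then e 0 else if (k : ℕ) < 25 then e 10 else
      if (k : ℕ) < 40 then e 25 else e 40 := fun k => by
    rw [hb k, base_eq]
    split_ifs <;> rfl
  rw [Finset.sum_congr rfl fun k _ => hform k, sum_blocks] at hsum
  obtain ⟨a, ha⟩ := hev 0 (by decide)
  obtain ⟨b, hb'⟩ := hev 10 (by decide)
  obtain ⟨c, hc⟩ := hev 25 (by decide)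
  have hcard1 : ∀ k, e k = 0 → R.pr k = 0 := fun k hk => AddMonoidHom.ext fun w => by
    have h1 : Nat.card (R.U k) = 1 := by rw [he, hk, pow_zero]
    have := (Nat.card_eq_one_iff_unique.1 h1).1
    exact congrArg Subtype.val (Subsingleton.elim (⟨R.pr k w, R.pr_mem k w⟩ : R.U k) 0)
  have ha1 : a = 1 := by
    by_contra hne
    have ha0 : a = 0 := by omega
    have hz : ∀ k : Fin 41, k ≠ 40 → R.pr k = 0 := fun k hk => hcard1 k (by
      rw [hform k]
      have : (k : ℕ) < 40 := lt_of_le_of_ne (Nat.le_of_lt_succ k.2) fun h => hk (Fin.ext h)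
      split_ifs <;> omega)
    have h40 : R.pr 40 = 1 := by
      rw [← R.sum_pr, Finset.sum_eq_single (40 : Fin 41) (fun j _ hj => hz j hj)
        (fun h => absurd (Finset.mem_univ _) h)]
    have h1 : R.D (1, 0, 0, 0) = 1 := by
      rw [← mul_one (R.D _), ← h40]
      exact R.D_pr (by rw [al_last]; rfl)
    obtain ⟨x, hx⟩ := suVal_scalar_of_mem_center K4.card_eq (R.faithful _ h1)
    rw [tor, dg_val (ext_sum _), Matrix.scalar_apply] at hx
    have hd := Matrix.diagonal_injective hx
    have := (congrFun hd 0).trans (congrFun hd 1).symm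
    exact absurd (om_inj _ _ this) (by decide)
  refine ⟨fun k hk => hcard1 k ?_, fun k hk => ?_⟩
  · rw [hform k]
    split_ifs <;> omega
  · rw [he, hform k, if_pos hk, ha, ha1]
    rfl

end Rep

end Cfsg.Agent.Fus.U62Module
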