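import Cfsg.Agent.Lib.Fus.U62Module.VecCheck

/-!
The twenty-dimensional module of `U₆(2)`: every vector is fixed by an element of order three.
-/

set_option autoImplicit false
set_option maxRecDepth 100000
set_option exponentiation.threshold 20000

namespace Cfsg.Agent.Fus.U62Module

open Cfsg.Agent.Invol.ExtraEight (app mu app_zero app_xor)

/-- What has been certified. -/
def Cert (a : ℕ) : Prop := ∀ n, n < 16384 → a.testBit n = true → GoodV (snorm n)

theorem getD_range_map {α : Type} (f : ℕ → α) (d : α) {n k : ℕ} (hk : k < n) :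
    ((List.range n).map f).getD k d = f k := by
  rw [List.getD_eq_getElem _ _ (by simpa using hk)]
  simp

theorem snorm_lt {n : ℕ} (hn : n < 16384) : snorm n < N20 := by
  simp only [snorm, N20]
  omega

theorem sidx_lt (u : ℕ) : sidx u < 16384 := by
  simp only [sidx]
  omega

theorem step_sound {a : ℕ} (h : Cert a) (e : ℕ) : Cert (step dmTab mvMats a e) := by
  rw [step]
  simp only [force_eq]
  split_ifs with hc
  · simp only [Bool.and_eq_true, Nat.blt_eq] at hc
    obtain ⟨⟨⟨h1, h2⟩, hn⟩, hmi⟩ := hc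
    intro n hn' hb
    rw [Nat.testBit_or, Bool.or_eq_true] at hb
    rcases hb with hb | hb
    · exact h n hn' hb
    rw [Nat.one_shiftLeft, Nat.testBit_two_pow, decide_eq_true_eq] at hb
    subst hb
    set w := mvWords.getD (e % 729 / 81) [] with hw
    have hu : app (dmTab.getD (e % 81) []) (app (mvMats.getD (e % 729 / 81) []) (snorm (e / 729))) =
        app (wmat (tiWord (e % 81) ++ w)) (snorm (e / 729)) := by
      rw [app_wmat_append _ _ (snorm_lt hn'), dm_ok, mv_ok, getD_range_map _ _ (Nat.mod_lt _ (by norm_num)),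
        List.getD_eq_getElem _ _ (show e % 729 / 81 < (mvWords.map wmat).length from hmi), List.getElem_map, hw,
        List.getD_eq_getElem _ _ (show e % 729 / 81 < mvWords.length from hmi)]
    rw [hu] at h1 h2
    refine GoodV.back (u := tiWord (e % 81) ++ w) (snorm_lt hn') ?_
    rw [← Nat.eq_of_beq_eq_true h1]
    refine h _ (sidx_lt _) ?_
    simp only [Nat.testBit]
    rw [beq_iff_eq.1 h2]
    rfl
  · exact h

theorem run_sound : ∀ (l : List ℕ) {a : ℕ}, Cert a → Cert (run dmTab mvMats l a)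
  | [], _, h => h
  | e :: l, _, h => run_sound l (step_sound h e)

theorem seeds_sound : ∀ (l : List (ℕ × List ℕ)),
    (l.all fun s => Nat.blt s.1 16384 && app (wmat s.2) (snorm s.1) == snorm s.1 &&
      mpow (wmat s.2) 3 == idm && !(wmat s.2 == idm)) = true →
      ∀ a, Cert a → Cert (l.foldl (fun a s => a ||| (1 <<< s.1)) a)
  | [], _, a, h => h
  | s :: l, hl, a, h => by
    simp only [List.all_cons, Bool.and_eq_true, beq_iff_eq, Bool.not_eq_true', beq_eq_false_iff_ne] at hl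
    refine seeds_sound l hl.2 _ fun n hn hb => ?_
    rw [Nat.testBit_or, Bool.or_eq_true] at hb
    rcases hb with hb | hb
    · exact h n hn hb
    rw [Nat.one_shiftLeft, Nat.testBit_two_pow, decide_eq_true_eq] at hb
    subst hb
    exact ⟨s.2, hl.1.1.1.2, hl.1.1.2, hl.1.2⟩

theorem good_zero : GoodV 0 := ⟨[3], app_zero _, by decide +kernel, by decide +kernel⟩

theorem cert_all {n : ℕ} (hn : n < 16384) : GoodV (snorm n) := by
  have h0 : Cert acc0 := by
    rw [acc0_ok]
    refine seeds_sound _ seed_ok _ fun m _ hb => ?_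
    rcases m with _ | m
    · exact good_zero
    · rw [show (1 : ℕ) = 2 ^ 0 from rfl, Nat.testBit_two_pow] at hb
      simp at hb
  have h16 : Cert ((1 <<< 16384) - 1) := by
    rw [← run15]
    refine run_sound _ ?_
    rw [← run14]; refine run_sound _ ?_
    rw [← run13]; refine run_sound _ ?_
    rw [← run12]; refine run_sound _ ?_
    rw [← run11]; refine run_sound _ ?_
    rw [← run10]; refine run_sound _ ?_
    rw [← run9]; refine run_sound _ ?_
    rw [← run8]; refine run_sound _ ?_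
    rw [← run7]; refine run_sound _ ?_
    rw [← run6]; refine run_sound _ ?_
    rw [← run5]; refine run_sound _ ?_
    rw [← run4]; refine run_sound _ ?_
    rw [← run3]; refine run_sound _ ?_
    rw [← run2]; refine run_sound _ ?_
    rw [← run1]; refine run_sound _ ?_
    rw [← run0]; exact run_sound _ h0
  refine h16 n hn ?_
  rw [Nat.one_shiftLeft, Nat.testBit_two_pow_sub_one]
  exact decide_eq_true hn

/-- The torus element which normalises four digits. -/
def keyK (a b c d : ℕ) : ℕ := keyTab.getD (a + 4 * b + 16 * c + 64 * d) 0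

theorem key_check : ((List.range 256).all fun n =>
    Nat.blt (keyTab.getD n 0) 81 && Nat.blt (mw (psi 4 (tiOf (keyTab.getD n 0))) (n % 4)) 2 &&
    Nat.blt (mw (psi 5 (tiOf (keyTab.getD n 0))) (n / 4 % 4)) 2 &&
    Nat.blt (mw (psi 6 (tiOf (keyTab.getD n 0))) (n / 16 % 4)) 2 &&
    Nat.blt (mw (psi 7 (tiOf (keyTab.getD n 0))) (n / 64 % 4)) 2) = true := by decide +kernel

theorem key_ok {a b c d : ℕ} (ha : a < 4) (hb : b < 4) (hc : c < 4) (hd : d < 4) : keyK a b c d < 81 ∧
    mw (psi 4 (tiOf (keyK a b c d))) a < 2 ∧ mw (psi 5 (tiOf (keyK a b c d))) b < 2 ∧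
    mw (psi 6 (tiOf (keyK a b c d))) c < 2 ∧ mw (psi 7 (tiOf (keyK a b c d))) d < 2 := by
  have h := List.all_eq_true.1 key_check (a + 4 * b + 16 * c + 64 * d) (List.mem_range.2 (by omega))
  rw [show (a + 4 * b + 16 * c + 64 * d) % 4 = a by omega,
    show (a + 4 * b + 16 * c + 64 * d) / 4 % 4 = b by omega,
    show (a + 4 * b + 16 * c + 64 * d) / 16 % 4 = c by omega,
    show (a + 4 * b + 16 * c + 64 * d) / 64 % 4 = d by omega] at h
  simp only [Bool.and_eq_true, Nat.blt_eq] at h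
  exact ⟨h.1.1.1.1, h.1.1.1.2, h.1.1.2, h.1.2, h.2⟩

theorem col_check : ((List.range 64).all fun n => (n % 4 == 0) || (n / 4 % 4 == 0) || (n / 16 % 4 == 0) ||
    (Nat.blt (colTab.getD n 0) 81 && (mw (psi 1 (tiOf (colTab.getD n 0))) (n % 4) == 3) &&
    (mw (psi 4 (tiOf (colTab.getD n 0))) (n / 4 % 4) == 3) &&
    (mw (psi 9 (tiOf (colTab.getD n 0))) (n / 16 % 4) == 1))) = true := by decide +kernel

theorem col_ok {a b c : ℕ} (ha : a < 4) (hb : b < 4) (hc : c < 4) (a0 : a ≠ 0) (b0 : b ≠ 0) (c0 : c ≠ 0) :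
    colTab.getD (a + 4 * b + 16 * c) 0 < 81 ∧
    mw (psi 1 (tiOf (colTab.getD (a + 4 * b + 16 * c) 0))) a = 3 ∧
    mw (psi 4 (tiOf (colTab.getD (a + 4 * b + 16 * c) 0))) b = 3 ∧
    mw (psi 9 (tiOf (colTab.getD (a + 4 * b + 16 * c) 0))) c = 1 := by
  have h := List.all_eq_true.1 col_check (a + 4 * b + 16 * c) (List.mem_range.2 (by omega))
  rw [show (a + 4 * b + 16 * c) % 4 = a by omega, show (a + 4 * b + 16 * c) / 4 % 4 = b by omega,
    show (a + 4 * b + 16 * c) / 16 % 4 = c by omega] at h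
  simp only [Bool.and_eq_true, Bool.or_eq_true, beq_iff_eq, Nat.blt_eq, a0, b0, c0, false_or] at h
  exact ⟨h.1.1.1, h.1.1.2, h.1.2, h.2⟩

theorem last_bits : ∀ P : Fin 10, idm.map (fun x => dig 9 (app (wmat (lastTab.getD P [])) x)) =
    idm.map fun x => app [dig 9 (app (wmat (lastTab.getD P [])) (4 ^ (P : ℕ))),
      dig 9 (app (wmat (lastTab.getD P [])) (2 * 4 ^ (P : ℕ)))] (dig P x) := by decide +kernel

theorem col_bits : idm.map (fun x => dig 1 (app (wmat [6]) x)) =
    idm.map fun x => app [dig 1 (app (wmat [6]) (4 ^ 1)), dig 1 (app (wmat [6]) (2 * 4 ^ 1))] (dig 1 x) ^^^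
      (app [dig 1 (app (wmat [6]) (4 ^ 4)), dig 1 (app (wmat [6]) (2 * 4 ^ 4))] (dig 4 x) ^^^
        app [dig 1 (app (wmat [6]) (4 ^ 9)), dig 1 (app (wmat [6]) (2 * 4 ^ 9))] (dig 9 x)) := by decide +kernel

theorem col_value : app [dig 1 (app (wmat [6]) (4 ^ 1)), dig 1 (app (wmat [6]) (2 * 4 ^ 1))] 3 ^^^
    (app [dig 1 (app (wmat [6]) (4 ^ 4)), dig 1 (app (wmat [6]) (2 * 4 ^ 4))] 3 ^^^
      app [dig 1 (app (wmat [6]) (4 ^ 9)), dig 1 (app (wmat [6]) (2 * 4 ^ 9))] 1) = 0 := by decide +kernel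

theorem tor_word {k : ℕ} (hk : k < 81) : wmat (tiWord k) = torMat (tiOf k) := by
  have h := congrArg (fun l => l.getD k []) (dm_ok.symm.trans dm_tor)
  simp only [getD_range_map _ _ hk] at h
  exact h

theorem mod_two {x : ℕ} (h : x % 4 < 2) : x % 2 = x % 4 := by omega

theorem peel (x : ℕ) : x = x % 4 + 4 * (x / 4) := (Nat.mod_add_div x 4).symm

theorem snorm_pack {l b c d e f : ℕ} (hl : l < 256) (hb : b < 2) (hc : c < 2) (hd : d < 2) (he : e < 2)
    (_hf : f < 4) : snorm (l + 256 * b + 512 * c + 1024 * d + 2048 * e + 4096 * f) =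
      l + 256 * b + 1024 * c + 4096 * d + 16384 * e + 65536 * f := by
  rw [snorm, show (l + 256 * b + 512 * c + 1024 * d + 2048 * e + 4096 * f) % 256 = l by omega,
    show (l + 256 * b + 512 * c + 1024 * d + 2048 * e + 4096 * f) / 256 % 2 = b by omega,
    show (l + 256 * b + 512 * c + 1024 * d + 2048 * e + 4096 * f) / 512 % 2 = c by omega,
    show (l + 256 * b + 512 * c + 1024 * d + 2048 * e + 4096 * f) / 1024 % 2 = d by omega,
    show (l + 256 * b + 512 * c + 1024 * d + 2048 * e + 4096 * f) / 2048 % 2 = e by omega,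
    show (l + 256 * b + 512 * c + 1024 * d + 2048 * e + 4096 * f) / 4096 = f by omega]

theorem low_eq {u : ℕ} (hul : u < N20) (ha : dig 4 u < 2) (hb : dig 5 u < 2) (hc : dig 6 u < 2)
    (hd : dig 7 u < 2) (h9 : dig 9 u = 0) : u = snorm (sidx u) := by
  simp only [dig, N20, Nat.reducePow] at hul ha hb hc hd h9
  rw [sidx, mod_two ha, mod_two hb, mod_two hc, mod_two hd,
    snorm_pack (Nat.mod_lt _ (by norm_num)) ha hb hc hd (Nat.mod_lt _ (by norm_num))]
  have p0 : u = u % 256 + 256 * (u / 256) := (Nat.mod_add_div u 256).symm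
  have p1 := peel (u / 256)
  have p2 := peel (u / 1024)
  have p3 := peel (u / 4096)
  have p4 := peel (u / 16384)
  have p5 := peel (u / 65536)
  simp only [Nat.div_div_eq_div_mul, Nat.reduceMul] at p1 p2 p3 p4 p5
  have p6 : u / 262144 = u / 262144 % 4 := (Nat.mod_eq_of_lt (Nat.div_lt_of_lt_mul hul)).symm
  linarith

theorem good_low {v : ℕ} (hv : v < N20) (h9 : dig 9 v = 0) : GoodV v := by
  obtain ⟨hk, ha, hb, hc, hd⟩ := key_ok (dig_lt 4 v) (dig_lt 5 v) (dig_lt 6 v) (dig_lt 7 v)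
  set k := keyK (dig 4 v) (dig 5 v) (dig 6 v) (dig 7 v)
  refine GoodV.back (u := tiWord k) hv ?_
  rw [tor_word hk]
  set u := app (torMat (tiOf k)) v with hu
  have hul : u < N20 := app_ok_lt (torMat_ok _) v
  have d4 : dig 4 u = mw (psi 4 (tiOf k)) (dig 4 v) := dig_tor (tiOf k) 4 hv
  have d5 : dig 5 u = mw (psi 5 (tiOf k)) (dig 5 v) := dig_tor (tiOf k) 5 hv
  have d6 : dig 6 u = mw (psi 6 (tiOf k)) (dig 6 v) := dig_tor (tiOf k) 6 hv
  have d7 : dig 7 u = mw (psi 7 (tiOf k)) (dig 7 v) := dig_tor (tiOf k) 7 hv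
  have d9 : dig 9 u = 0 := by
    rw [show dig 9 u = mw (psi 9 (tiOf k)) (dig 9 v) from dig_tor (tiOf k) 9 hv, h9]
    exact (show ∀ j : ZMod 3, mw j 0 = 0 by decide) _
  rw [← d4] at ha; rw [← d5] at hb; rw [← d6] at hc; rw [← d7] at hd
  have e : u = snorm (sidx u) := low_eq hul ha hb hc hd d9
  rw [e]
  exact cert_all (sidx_lt u)

theorem good_zero_digit {v : ℕ} (hv : v < N20) {P : Fin 10} (h : dig P v = 0) : GoodV v := by
  refine GoodV.back (u := lastTab.getD P []) hv (good_low (wmat_lt _ _) ?_)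
  rw [eq_on_bits _ (fun x => app [dig 9 (app (wmat (lastTab.getD P [])) (4 ^ (P : ℕ))),
      dig 9 (app (wmat (lastTab.getD P [])) (2 * 4 ^ (P : ℕ)))] (dig P x))
    (by simp [app_zero, dig_zero]) (fun a b => by simp [app_xor, dig_xor]) (by simp [dig_zero, app_zero])
    (fun a b => by simp [app_xor, dig_xor]) (last_bits P) hv, h, app_zero]

/-- Every vector is fixed by an element of order three. -/
theorem good_all {v : ℕ} (hv : v < N20) : GoodV v := by
  by_cases hz : ∃ P : Fin 10, dig P v = 0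
  · obtain ⟨P, hP⟩ := hz
    exact good_zero_digit hv hP
  push Not at hz
  obtain ⟨hk, ha, hb, hc⟩ := col_ok (dig_lt 1 v) (dig_lt 4 v) (dig_lt 9 v) (hz 1) (hz 4) (hz 9)
  set k := colTab.getD (dig 1 v + 4 * dig 4 v + 16 * dig 9 v) 0
  refine GoodV.back (u := tiWord k) hv ?_
  rw [tor_word hk]
  set u := app (torMat (tiOf k)) v
  have hul : u < N20 := app_ok_lt (torMat_ok _) v
  refine GoodV.back (u := [6]) hul (good_zero_digit (wmat_lt _ _) (P := 1) ?_)
  rw [show ((1 : Fin 10) : ℕ) = 1 from rfl, eq_on_bits _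
    (fun x => app [dig 1 (app (wmat [6]) (4 ^ 1)), dig 1 (app (wmat [6]) (2 * 4 ^ 1))] (dig 1 x) ^^^
      (app [dig 1 (app (wmat [6]) (4 ^ 4)), dig 1 (app (wmat [6]) (2 * 4 ^ 4))] (dig 4 x) ^^^
        app [dig 1 (app (wmat [6]) (4 ^ 9)), dig 1 (app (wmat [6]) (2 * 4 ^ 9))] (dig 9 x)))
    (by simp [app_zero, dig_zero]) (fun a b => by simp [app_xor, dig_xor]) (by simp [dig_zero, app_zero])
    (fun a b => by simp only [app_xor, dig_xor]; ac_rfl) col_bits hul,
    show dig 1 u = 3 from (dig_tor (tiOf k) 1 hv).trans ha, show dig 4 u = 3 from (dig_tor (tiOf k) 4 hv).trans hb,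
    show dig 9 u = 1 from (dig_tor (tiOf k) 9 hv).trans hc, col_value]

end Cfsg.Agent.Fus.U62Module
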