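import Cfsg.Agent.Lib.Fus.U62Module.Word
import Cfsg.Agent.Lib.Fus.U62Module.VecData

/-!
The twenty-dimensional module of `U₆(2)`: checking the certificate of the vectors.
-/

set_option autoImplicit false
set_option maxRecDepth 100000

namespace Cfsg.Agent.Fus.U62Module

open Cfsg.Agent.Invol.ExtraEight (app mu)

/-- A torus element from its number. -/
def tiOf (k : ℕ) : Ti := ((k / 27 : ℕ), (k / 9 % 3 : ℕ), (k / 3 % 3 : ℕ), (k % 3 : ℕ))

/-- The word of a torus element. -/
def tiWord (k : ℕ) : List ℕ :=
  List.replicate (k / 27) 0 ++ (List.replicate (k / 9 % 3) 1 ++ (List.replicate (k / 3 % 3) 2 ++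
    List.replicate (k % 3) 3))

/-- The index of a normalised vector. -/
def sidx (v : ℕ) : ℕ :=
  v % 256 + 256 * (v / 256 % 2) + 512 * (v / 1024 % 2) + 1024 * (v / 4096 % 2) + 2048 * (v / 16384 % 2) +
    4096 * (v / 65536 % 4)

/-- A normalised vector. -/
def snorm (n : ℕ) : ℕ :=
  n % 256 + 256 * (n / 256 % 2) + 1024 * (n / 512 % 2) + 4096 * (n / 1024 % 2) + 16384 * (n / 2048 % 2) +
    65536 * (n / 4096)

/-- Evaluate a number before use. -/
def force {α : Type} : ℕ → (ℕ → α) → α
  | 0, k => k 0
  | n + 1, k => k (n + 1)

theorem force_eq {α : Type} (n : ℕ) (k : ℕ → α) : force n k = k n := by cases n <;> rfl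

/-- One step of the certificate. -/
def step (D MV : List (List ℕ)) (acc e : ℕ) : ℕ :=
  force acc fun a => force (app (D.getD (e % 81) []) (app (MV.getD (e % 729 / 81) []) (snorm (e / 729)))) fun u =>
    force (sidx u) fun m =>
      if Nat.beq (snorm m) u && (1 &&& (a >>> m) == 1) && Nat.blt (e / 729) 16384 && Nat.blt (e % 729 / 81) 9 then
        a ||| (1 <<< (e / 729))
      else a

/-- Run a list of steps. -/
def run (D MV : List (List ℕ)) : List ℕ → ℕ → ℕ
  | [], a => a
  | e :: l, a => run D MV l (step D MV a e)

theorem mv_ok : mvMats = mvWords.map wmat := by decide +kernel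

theorem dm_ok : dmTab = (List.range 81).map fun k => wmat (tiWord k) := by decide +kernel

theorem dm_tor : dmTab = (List.range 81).map fun k => torMat (tiOf k) := by decide +kernel

theorem seed_ok : (seedTab.all fun s => Nat.blt s.1 16384 && app (wmat s.2) (snorm s.1) == snorm s.1 &&
    mpow (wmat s.2) 3 == idm && !(wmat s.2 == idm)) = true := by decide +kernel

theorem acc0_ok : acc0 = seedTab.foldl (fun a s => a ||| (1 <<< s.1)) 1 := by decide +kernel

theorem run0 : run dmTab mvMats ent0 acc0 = acc1 := by decide +kernel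
theorem run1 : run dmTab mvMats ent1 acc1 = acc2 := by decide +kernel
theorem run2 : run dmTab mvMats ent2 acc2 = acc3 := by decide +kernel
theorem run3 : run dmTab mvMats ent3 acc3 = acc4 := by decide +kernel
theorem run4 : run dmTab mvMats ent4 acc4 = acc5 := by decide +kernel
theorem run5 : run dmTab mvMats ent5 acc5 = acc6 := by decide +kernel
theorem run6 : run dmTab mvMats ent6 acc6 = acc7 := by decide +kernel
theorem run7 : run dmTab mvMats ent7 acc7 = acc8 := by decide +kernel
theorem run8 : run dmTab mvMats ent8 acc8 = acc9 := by decide +kernel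
theorem run9 : run dmTab mvMats ent9 acc9 = acc10 := by decide +kernel
theorem run10 : run dmTab mvMats ent10 acc10 = acc11 := by decide +kernel
theorem run11 : run dmTab mvMats ent11 acc11 = acc12 := by decide +kernel
theorem run12 : run dmTab mvMats ent12 acc12 = acc13 := by decide +kernel
theorem run13 : run dmTab mvMats ent13 acc13 = acc14 := by decide +kernel
theorem run14 : run dmTab mvMats ent14 acc14 = acc15 := by decide +kernel
theorem run15 : run dmTab mvMats ent15 acc15 = (1 <<< 16384) - 1 := by decide +kernel

end Cfsg.Agent.Fus.U62Module
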