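import Cfsg.Agent.Lib.Fus.U62Module.Block

/-!
The twenty-dimensional module of `U₆(2)`: words on the model.
-/

set_option autoImplicit false
set_option maxRecDepth 100000

namespace Cfsg.Agent.Fus.U62Module

open Cfsg.Agent.Invol.ExtraEight (app mu)

/-- The orders of the generators. -/
def ordG (i : ℕ) : ℕ := ([3, 3, 3, 3, 2, 6, 4] : List ℕ).getD i 1

/-- The word of the inverse of a generator. -/
def invG (i : ℕ) : List ℕ := List.replicate (ordG i - 1) i

/-- The inverse of a word. -/
def winv : List ℕ → List ℕ
  | [] => []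
  | i :: w => winv w ++ invG i

theorem gens_ok : ∀ g ∈ idm :: gens, ok g = true := by decide +kernel

theorem gen_ok (i : ℕ) : ok (gens.getD i idm) = true := by
  rcases Nat.lt_or_ge i gens.length with h | h
  · rw [List.getD_eq_getElem _ _ h]
    exact gens_ok _ (List.mem_cons_of_mem _ (List.getElem_mem h))
  · rw [List.getD_eq_default _ _ h]
    decide

theorem ok_wmat : ∀ w : List ℕ, ok (wmat w) = true
  | [] => by decide
  | i :: w => ok_mu (gen_ok i) (ok_wmat w)

theorem wmat_lt (w : List ℕ) (v : ℕ) : app (wmat w) v < N20 := app_ok_lt (ok_wmat w) v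

theorem app_wmat_append : ∀ (a b : List ℕ) {v : ℕ}, v < N20 → app (wmat (a ++ b)) v = app (wmat a) (app (wmat b) v)
  | [], b, v, _ => by rw [List.nil_append, wmat, app_idm (wmat_lt b v)]
  | i :: a, b, v, hv => by rw [List.cons_append, wmat, wmat, app_mu, app_mu, app_wmat_append a b hv]

theorem inv_gens : ∀ i < 7, wmat (invG i ++ [i]) = idm ∧ wmat (i :: invG i) = idm := by decide +kernel

theorem app_winv : ∀ (w : List ℕ) {v : ℕ}, v < N20 → app (wmat (winv w)) (app (wmat w) v) = v
  | [], v, hv => by simp only [winv, wmat, app_idm hv]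
  | i :: w, v, hv => by
    rw [winv, app_wmat_append _ _ (wmat_lt _ _), wmat, app_mu]
    have h : app (wmat (invG i)) (app (gens.getD i idm) (app (wmat w) v)) = app (wmat w) v := by
      have hu := wmat_lt w v
      rcases Nat.lt_or_ge i 7 with h | h
      · have e := (inv_gens i h).1
        have e2 := app_wmat_append (invG i) [i] hu
        rw [e, app_idm hu, wmat, wmat, app_mu, app_idm hu] at e2
        exact e2.symm
      · rw [List.getD_eq_default _ _ (by simpa [gens] using h), app_idm hu,
          show invG i = [] by simp [invG, ordG, h], wmat, app_idm hu]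
    rw [h, app_winv w hv]

theorem app_mpow_two (M : List ℕ) (v : ℕ) :
    app (mpow M 3) v = app M (app M (app M (app idm v))) := by
  simp only [mpow, app_mu]

/-- A vector fixed by a word of order three. -/
def GoodV (v : ℕ) : Prop := ∃ w : List ℕ, app (wmat w) v = v ∧ mpow (wmat w) 3 = idm ∧ wmat w ≠ idm

theorem GoodV.back {u : List ℕ} {v : ℕ} (hv : v < N20) (h : GoodV (app (wmat u) v)) : GoodV v := by
  obtain ⟨w, hw, h3, hne⟩ := h
  have hcub : ∀ x, x < N20 → app (wmat w) (app (wmat w) (app (wmat w) x)) = x := fun x hx => by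
    have e := app_mpow_two (wmat w) x
    rw [h3, app_idm hx] at e
    exact e.symm
  have hc : ∀ x, x < N20 → app (wmat (winv u ++ (w ++ u))) x = app (wmat (winv u)) (app (wmat w) (app (wmat u) x)) :=
    fun x hx => by rw [app_wmat_append _ _ hx, app_wmat_append _ _ hx]
  have hback : ∀ x, x < N20 → app (wmat u) (app (wmat (winv u)) x) = x := by
    have hinj : Function.Injective fun x : Fin N20 => (⟨app (wmat u) x, wmat_lt u x⟩ : Fin N20) := by
      intro a b e
      have e' := congrArg (fun z : Fin N20 => app (wmat (winv u)) z) e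
      simp only [app_winv u a.2, app_winv u b.2] at e'
      exact Fin.ext e'
    intro x hx
    obtain ⟨a, ha⟩ := (Finite.injective_iff_surjective.1 hinj) ⟨x, hx⟩
    have ha' : app (wmat u) a = x := congrArg Fin.val ha
    rw [← ha', app_winv u a.2]
  refine ⟨winv u ++ (w ++ u), ?_, ?_, ?_⟩
  · rw [hc v hv, hw, app_winv u hv]
  · refine list_ext (ok_iff.1 (ok_mu (ok_wmat _) (ok_mu (ok_wmat _) (ok_mu (ok_wmat _) (show ok idm = true by decide))))).1
      (by decide) fun x hx => ?_
    rw [app_mpow_two, app_idm hx, hc x hx, hc _ (wmat_lt _ _), hc _ (wmat_lt _ _),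
      hback _ (wmat_lt _ _), hback _ (wmat_lt _ _), hcub _ (wmat_lt _ _), app_winv u hx]
  · intro e
    refine hne (list_ext (ok_iff.1 (ok_wmat _)).1 (by decide) fun x hx => ?_)
    have e' := hc (app (wmat (winv u)) x) (wmat_lt _ _)
    rw [e, app_idm (wmat_lt _ _), hback x hx] at e'
    rw [app_idm hx]
    have := congrArg (app (wmat u)) e'
    rwa [hback x hx, hback _ (wmat_lt _ _), eq_comm] at this

end Cfsg.Agent.Fus.U62Module
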